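import Cfsg.Agent.H1.L43Com

/-! The case where the long root elements of the Levi complement are not `3`-central. -/

set_option autoImplicit false
set_option maxRecDepth 100000
set_option linter.unusedSectionVars false

namespace CfsgH1.L43

open CfsgH3.TC CfsgH8 CfsgH9 Subgroup CfsgH5 CfsgH6 CfsgFT CfsgH7

universe u

variable {G : Type u} [Group G] [Finite G]

theorem Loc.zp {z s : G} (h : Loc z) (hs : s ∈ zpowers z) (h1 : s ≠ 1) : Loc s := by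
  obtain ⟨c, rfl⟩ := exists_val h.cube hs
  rcases val_cases c with rfl | rfl | rfl
  · simp at h1
  · simpa [ZMod.val_one] using h
  · rw [pow_val_neg h.cube]; simpa [ZMod.val_one] using h.inv'

theorem mem_C1_mul {g a b x : G} (h1 : g ∈ C1 x ⊓ C1 b) (ha : a ∈ zpowers x) : g ∈ C1 (b * a) :=
  mem_C1_comm.1 (mul_mem (mem_C1_comm.1 h1.2) (zpowers_le.2 (mem_C1_comm.1 h1.1) ha))

theorem inv_D9 {a c g : G} (b : B9 a c) (p : g * a * g⁻¹ = a⁻¹) (q : g * c * g⁻¹ = c⁻¹) :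
    ∀ x ∈ D9 a c, g * x * g⁻¹ = x⁻¹ := fun x hx => by
  obtain ⟨i, j, rfl⟩ := b.mem hx
  rw [CfsgH8.el, ← conj_mul, ← conj_pow, ← conj_pow, p, q, inv_pow, inv_pow, ← mul_inv_rev,
    (Commute.pow_pow b.comm _ _).eq]

namespace Ctx

variable {v : ℕ → G} (h : Ctx v)
include h

theorem nk (hd : ¬ Loc (wval v wd)) : ¬ Loc (wval v wk) := fun hk => by
  have e := h.e
  have hB := e.ocent ok_ok tB_ok (by decide +kernel) h.card.le
  have key : ∀ s ∈ wcl v tB.Ws, Cj ⊤ (wval v wd) s → ∀ c, h.env.choose s c → od.mem c = true := by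
    intro s hs h1 c h2
    obtain ⟨c', h3, h4, -⟩ := e.alld tB_ok _ k_B hs
    obtain rfl := e.fn h2 h3
    rcases h4 with h4 | h4 | h4
    · exact absurd (h1.symm.loc (h.loc.zp ((e.zp_iff h2).2 h4) fun e1 =>
        e.w1 wd (by decide +kernel) (h1.one.2 e1))) hd
    · exact h4
    · exact absurd (h1.symm.loc ((e.ocj ok_ok h2 h4).loc hk)) hd
  have l := hB.ge.trans inf_le_right
  refine (syl_of_N l (sylIn_self (e.pg tB_ok 3)) fun g hg => hB.le ⟨?_, hg.1⟩).not_dvd_relIndex ?_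
  · have m1 := conj_mem_of_mem_N hg.2 (mem_wcl (val := v) (Ws := tB.Ws) wd)
    have m2 := conj_mem_of_mem_N hg.2 (e.wmem tB_ok (invW wd ++ wz) (by decide +kernel))
    obtain ⟨c, h1, -, h2⟩ := e.alld tB_ok _ k_B m1
    obtain ⟨c', h3, h4⟩ := e.alld tB_ok _ (h2 (key _ m1 ⟨g, mem_top _, rfl⟩ c h1)) m2
    have h5 := e.mul h1 h3
    rw [wval_append, wval_invW, conj_mul, mul_inv_cancel_left] at h5
    rcases h4 (key _ m2 (((e.owcj od_ok _ (by decide +kernel)).mono le_top).trans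
      ⟨g, mem_top _, rfl⟩) c' h3) with h6 | h6
    · exact h.nz ((e.zp_iff h5).2 (h6.imp fun _ => id))
    · exact absurd ((e.ocj od_ok h5 h6).symm.loc (h.loc.conj' g)) hd
  · rw [relIndex_eq_of_mul l (n := 216) (by rw [e.card tB_ok, hk.card_C1]; rfl)]
    norm_num

theorem cJ (hz : Ctl (gcl v 9) (wval v wz)) {b : G} (hb : b ∈ wcl v tR.Ws)
    (hx : b ∉ zpowers (wval v wx)) : C1 (wval v wx) ⊓ C1 b ≤ gcl v 9 := by
  have e := h.e
  by_cases hJ : b ∈ wcl v tJ.Ws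
  swap
  · exact h.cR hb hJ
  by_cases h1 : ∃ a ∈ p3 wx, Cj (gcl v 9) (wval v wz) (b * wval v a)
  · obtain ⟨a, ha, h1⟩ := h1
    exact fun g hg => h1.C1_le h.czM (mem_C1_mul hg (p3_zp v ha))
  have ab := e.ab tJ_ok (by decide +kernel)
  refine ((h.sig (mem_wcl wz) (mem_wcl wv1)).le_of_inf_N (e.pg tJ_ok 4) ab (le_inf
    (e.wmemC tJ_ok wx (by decide +kernel)) (le_C1_iff.2 (ab hJ))) fun g hg => ?_).le.trans (h.tM tJ_ok)
  obtain ⟨c, h2, h3 | h3⟩ := e.alld tL_ok _ k_LJ ((e.ocent ox_ok tL_ok (by decide +kernel)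
    h.card.le).le ⟨hz.nrm (mem_wcl wz) (h.tM tJ_ok) hg.2, hg.1.1⟩)
  · exact e.of_mem tJ_ok h2 h3
  obtain ⟨c', h4, h5⟩ := e.alld tJ_ok _ h3 hJ
  rcases h5 ((e.cm h2 h4).1 (mem_C1.1 hg.1.2)) with h5 | ⟨a, ha, h5⟩
  · exact absurd ((e.zp_iff h4).2 h5) hx
  · exact absurd ⟨a, ha, e.ocj oz_ok (e.mul h4 (e.wp3 ha)) h5⟩ h1

theorem cx (hz : Ctl (gcl v 9) (wval v wz)) : C1 (wval v wx) ≤ gcl v 9 := by
  have e := h.e
  have hL := e.ocent ox_ok tL_ok (by decide +kernel) h.card.le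
  have l := hL.ge.trans inf_le_right
  have hZ : zpowers (wval v wx) ≤ wcl v tL.Ws := zpowers_le.2 (e.wmem tL_ok wx (by decide +kernel))
  obtain ⟨Q, _, _, π, hs⟩ := exists_sec (hZ.trans l) (nrm_of_le_C (C_zpowers _).ge)
  obtain ⟨ρ, h1, h2⟩ := e.rho tL_ok fL fL_one fL_hom fL_surj
  obtain ⟨f, h3, h4⟩ := exists_f hs l ρ h1 fun a => by
    obtain ⟨c, h3, -, h4⟩ := e.alld tL_ok _ k_L a.2
    rw [h2 a c h3, h4, e.zp_iff h3]
  have hR : ∀ a : C1 (wval v wx), π a ∈ f.range → π a ^ 3 = 1 → a.1 ∈ wcl v tR.Ws := fun a p q => by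
    obtain ⟨c, h5, h6, -⟩ := e.alld tL_ok _ k_L ((hs.mem_img hZ).1 (h4 ▸ p))
    exact e.of_mem tR_ok h5 (h6 ((e.zp_iff (e.cube h5)).1 ((hs.ker (a ^ 3)).1 (by rwa [map_pow]))))
  have h5 := t162 h3 fun q hq q1 q3 g hg => by
    obtain ⟨b, rfl⟩ := hs.surj q
    obtain ⟨g, rfl⟩ := hs.surj g
    have h5 := e.wmemC tR_ok wz (by decide +kernel) (hR (g * b * g⁻¹) (by simpa using hg)
      (by simp [q3]))
    have h6 := h.cJ hz (hR b hq q3) (fun e => q1 ((hs.ker b).2 e))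
      (mem_inf.2 ⟨mul_mem (mul_mem (inv_mem g.2) (l (mem_wcl wz))) (inv_mem (inv_mem g.2)),
        mem_C1_comm.1 (by rw [← cj_C1, mem_cj, inv_inv]; exact h5)⟩)
    rw [h4, hs.mem_img hZ]
    exact hL.le ⟨(Subgroup.inv_mem_iff _).1 (hz _ h6), g.2⟩
  exact fun g hg => h.tM tL_ok ((hs.mem_img hZ (g := ⟨g, hg⟩)).1 (h4 ▸ h5 ▸ mem_top _))

theorem cd (hz : Ctl (gcl v 9) (wval v wz)) : C1 (wval v wd) ≤ gcl v 9 := by
  have e := h.e
  have hL := e.ocent od_ok tLd_ok (by decide +kernel) h.card.le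
  have l := hL.ge.trans inf_le_right
  have l1 : wcl v tTd.Ws ≤ wcl v tLd.Ws := wcl_mono
  have l2 : wcl v tR0.Ws ≤ wcl v tLd.Ws := wcl_mono
  have h1 := (sylIn_of_sq (e.pg tTd_ok 5) (l1.trans l) fun g hg hn => Or.inl (by
    obtain ⟨c, h1, h2, -⟩ := e.alld tLd_ok _ k_Ld (hL.le ⟨hz.nrm (mem_wcl wz) (h.tM tTd_ok) hn, hg⟩)
    exact pow_two g ▸ e.of_mem tTd_ok (e.mul h1 h1) h2)).not_dvd_relIndex
  rw [← relIndex_mul_relIndex _ _ _ l1 l] at h1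
  obtain ⟨ρ, -, h2⟩ := e.rho tLd_ok fD fD_one fD_hom fD_surj
  obtain ⟨τ, h3⟩ := transfer3 l (fun e => h1 (e.mul_left _)) ρ (mem_wcl wv1)
    (e.w3 _ (by decide +kernel)) (by rw [h2 _ _ (e.wd wv1 (by decide))]; decide +kernel)
    fun g hg e1 => hL.le ⟨(Subgroup.inv_mem_iff _).1 ((e.owcj oz_ok wv1 (by decide +kernel)).ctrl hz _
      (by simpa using h.tM tLd_ok e1)), hg⟩
  have m : ∀ {g}, g ∈ τ.ker.map (C1 (wval v wd)).subtype ↔ ∃ hg, τ ⟨g, hg⟩ = 1 :=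
    ⟨by rintro ⟨x, h1, rfl⟩; exact ⟨x.2, h1⟩, fun ⟨h1, h2⟩ => ⟨_, h2, rfl⟩⟩
  have n : Nrm (C1 (wval v wd)) (τ.ker.map (C1 (wval v wd)).subtype) := by
    rintro a ha _ ⟨x, hx, rfl⟩
    exact ⟨_, τ.normal_ker.conj_mem x hx ⟨a, ha⟩, rfl⟩
  have sq : ∀ g hg, g * g ∈ τ.ker.map (C1 (wval v wd)).subtype → τ ⟨g, hg⟩ = 1 := fun g hg p =>
    (by decide : ∀ a : Multiplicative (ZMod 3), a * a = 1 → a = 1) _ ((map_mul τ _ _).symm.trans (m.1 p).2)
  have i2 := e.w2 wi (by decide +kernel)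
  have mi := m.2 ⟨l (mem_wcl wi), sq _ _ (i2 ▸ one_mem _)⟩
  have md : zpowers (wval v wd) ≤ τ.ker.map (C1 (wval v wd)).subtype := zpowers_le.2 (m.2 ⟨self_mem_C1 _, by
    have := e.wcj ww wy (wd ++ wy) (by decide +kernel)
    rw [wval_append, ← mul_inv_eq_iff_eq_mul] at this
    rw [show (⟨_, self_mem_C1 (wval v wd)⟩ : C1 (wval v wd)) = ⟨_, l (mem_wcl ww)⟩ * ⟨_, l (mem_wcl wy)⟩ *
      ⟨_, l (mem_wcl ww)⟩⁻¹ * ⟨_, l (mem_wcl wy)⟩⁻¹ from Subtype.ext this.symm]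
    rw [map_mul, map_mul, map_mul, map_inv, map_inv, mul_inv_cancel_comm, mul_inv_cancel]⟩)
  have hi : ∀ a ∈ wcl v tR0.Ws, wval v wi * a * (wval v wi)⁻¹ * a ∈ zpowers (wval v wd) := fun a ha => by
    obtain ⟨c, h4, h5, -⟩ := e.alld tR0_ok _ k_R0 ha
    have h6 := e.wd wi (by decide)
    rw [inv_eq_of_mul_eq_one_right i2]
    exact (e.zp_iff (e.mul (e.mul (e.mul h6 h4) h6) h4)).2 h5
  have l3 : wcl v tR0.Ws ≤ τ.ker.map (C1 (wval v wd)).subtype := fun a ha => m.2 ⟨l (l2 ha), sq _ _ (by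
    refine (mul_mem_cancel_left (mul_mem mi (n a (l (l2 ha)) _ (inv_mem mi)))).1 ?_
    convert md (hi a ha) using 1
    group)⟩
  have h4 := st_sec (map_subtype_le _) l3 (mem_wcl wd) (e.w1 _ (by decide +kernel))
    (fun _ => e.exp tR0_ok k_R0e) (e.card tR0_ok) (fun a ha b hb => by
      obtain ⟨c, h4, -, h5⟩ := e.alld tR0_ok _ k_R0 ha
      obtain ⟨c', h6, w, hw, h7⟩ := e.alld tR0_ok _ h5 hb
      rw [(e.iff (e.mul h4 h6) (e.mul (e.wp3 hw) (e.mul h6 h4))).2 h7, mul_inv_cancel_right]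
      exact p3_zp v hw) mi i2 hi (fun g hg hn => by
      obtain ⟨c, h4, -, a, ha, b, hb, h5⟩ := e.alld tLd_ok _ k_Ld
        (hL.le ⟨hz.nrm (mem_wcl wz) (h.tM tR0_ok) hn, map_subtype_le _ hg⟩)
      have h6 := e.of_mem tR0_ok (e.mul (e.mul h4 (e.wd a ((by decide : ∀ a ∈ [[], wi], Wl 20 a) a ha)))
        (e.wp3 hb)) h5
      have h7 : wval v a ∈ τ.ker.map (C1 (wval v wd)).subtype := by
        simp only [List.mem_cons, List.not_mem_nil, or_false] at ha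
        rcases ha with rfl | rfl
        exacts [one_mem _, mi]
      have h8 := (mul_mem_cancel_left (mul_mem hg h7)).1 (l3 h6)
      simp only [p3, List.mem_cons, List.not_mem_nil, or_false] at ha hb
      rcases hb with rfl | rfl | rfl
      · rcases ha with rfl | rfl
        · exact Or.inl (by simpa using h6)
        · exact Or.inr (by simpa [inv_eq_of_mul_eq_one_right i2] using h6)
      · exact absurd (m.1 h8).2 h3
      · exact absurd (sq _ _ (wval_append v _ _ ▸ h8)) h3) (h.sig (l (mem_wcl wz)) (l (mem_wcl wv1)) _ (CfsgFT.not_dvd_card_Opc Nat.prime_three _)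
        (n.Opi _))
  intro g hg
  obtain ⟨k, h5⟩ := (by decide : ∀ a b : Multiplicative (ZMod 3), b ≠ 1 → ∃ k : Fin 3, a * b ^ k.1 = 1)
    (τ ⟨g, hg⟩) _ h3
  rw [← map_pow, ← map_mul] at h5
  exact (mul_mem_cancel_right (pow_mem (h.wM wv1) k)).1
    (hz.nrm (mem_wcl wz) (h.tM tR0_ok) (h4 (m.2 ⟨_, h5⟩)))

theorem ck (hz : Ctl (gcl v 9) (wval v wz)) : C1 (wval v wk) ≤ gcl v 9 := by
  have e := h.e
  have hB := e.ocent ok_ok tB_ok (by decide +kernel) h.card.le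
  have l := hB.ge.trans inf_le_right
  have n : C1 (wval v wk) ⊓ N (wcl v tB.Ws) ≤ wcl v tB.Ws := fun g hg =>
    hB.le ⟨hz.nrm (mem_wcl wz) (h.tM tB_ok) hg.2, hg.1⟩
  rw [← ((syl_of_N l (sylIn_self (e.pg tB_ok 3)) n).sdp_of_le_C Nat.prime_three
    (n.trans (e.ab tB_ok (by decide +kernel)))).sup]
  have c : ∀ w, Wl 20 w ∧ od.mem (wc w) = true → ∀ m ∈ Opc 3 (C1 (wval v wk)),
      m * wval v w = wval v w * m → m ∈ gcl v 9 :=
    fun w hw m _ e1 => (e.owcj od_ok w hw).C1_le (h.cd hz) (mem_C1.2 e1)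
  exact sup_le ((e.b9 wz wd (by decide +kernel)).gen (nrm_Opc 3 _ _ (l (mem_wcl wz)))
    (nrm_Opc 3 _ _ (l (mem_wcl wd))) (CfsgFT.not_dvd_card_Opc Nat.prime_three _)
    (fun m _ e1 => h.czM (mem_C1.2 e1)) (c _ (by decide +kernel))
    (wval_append v wz wd ▸ c _ (by decide +kernel))
    (wval_invW v wd ▸ wval_append v wz _ ▸ c _ (by decide +kernel))) (h.tM tB_ok)

theorem ci (hS : SE 3 (gcl v 9)) : C1 (wval v wi) = wcl v tCT.Ws := by
  have e := h.e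
  have hC := e.ocent oi_ok tCT_ok (by decide +kernel) h.card.le
  have l := hC.ge.trans inf_le_right
  have b := e.b9 wv1 wd (by decide +kernel)
  have hD : wcl v tD.Ws = D9 (wval v wv1) (wval v wd) := wcl_D9 v wv1 wd
  have l1 : D9 (wval v wv1) (wval v wd) ≤ wcl v tCT.Ws := D9_le (mem_wcl _) (mem_wcl _)
  have n : C1 (wval v wi) ⊓ N (D9 (wval v wv1) (wval v wd)) ≤ wcl v tCT.Ws := fun g hg =>
    hC.le ⟨hS _ (h.wM wv1) b.a1 b.a3 g (h.tM tCT_ok (l1 (conj_mem_of_mem_N hg.2 (left_mem_D9 _ _)))), hg.1⟩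
  have h1 := syl_of_N (l1.trans l) (syl_card (n := 2) (m := 16) l1 b.card (e.card tCT_ok) (by norm_num)) n
  refine le_antisymm (fun g hg => hC.le ⟨le_of_pLen1 hS b (h.wM _) (h.wM _) h1 (st_in h1 b.ab b.not_isCyclic
    (fun g hg hn => ?_) (l (mem_wcl wT0)) (inv_D9 b ((e.wcj wT0 wv1 _ (by decide +kernel)).trans (wval_invW v _))
    ((e.wcj wT0 wd _ (by decide +kernel)).trans (wval_invW v _)))) hg, hg⟩) l
  obtain ⟨c, h2, h3⟩ := e.alld tCT_ok _ k_CT (n ⟨hg, hn⟩)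
  obtain ⟨c1, h4, h5⟩ := e.alld tD_ok _ h3 (hD ▸ conj_mem_of_mem_N hn (left_mem_D9 _ _))
  obtain ⟨c2, h6, h7⟩ := e.alld tD_ok _ (h5 ((e.cj h2 (e.wd _ (by decide)) h4).1 rfl))
    (hD ▸ conj_mem_of_mem_N hn (right_mem_D9 _ _))
  rcases h7 ((e.cj h2 (e.wd _ (by decide)) h6).1 rfl) with ⟨rfl, rfl⟩ | ⟨rfl, rfl⟩
  · have : D9 (wval v wv1) (wval v wd) ≤ C1 g := D9_le
      (mem_C1_comm.1 (mem_C1_iff_conj.2 (e.inj h4 (e.wd _ (by decide)))))
      (mem_C1_comm.1 (mem_C1_iff_conj.2 (e.inj h6 (e.wd _ (by decide)))))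
    exact Or.inl fun x hx => mem_C1_iff_conj'.1 (this hx)
  · exact Or.inr (inv_D9 b (wval_invW v _ ▸ e.inj h4 (e.wd _ (by decide)))
      (wval_invW v _ ▸ e.inj h6 (e.wd _ (by decide))))

theorem topA (hd : ¬ Loc (wval v wd)) : gcl v 9 = ⊤ := by
  have e := h.e
  have hz := h.ctl le_rfl (fun e => absurd e hd) (h.nk hd)
  have hz' : Ctl (gcl (L43.tw v) 9) (wval (L43.tw v) wz) := by
    rw [gcl_tw v (by norm_num), wval_tw h.h0]; exact hz
  have hx' := h.tw.cx hz'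
  rw [gcl_tw v (by norm_num), wval_tw h.h0] at hx'
  have hS := h.se le_rfl hz (h.cd hz) (h.cx hz) hx' (h.ck hz)
  by_contra hne
  obtain ⟨D, h1, h2, -, h3⟩ := final_of hS (e.w2 wi (by decide +kernel)) (h.ci hS ▸ h.tM tCT_ok)
    (fun t ht t2 => by
      obtain ⟨s, h1, h2⟩ := syl_conj (syl_card (p := 2) (n := 4) (m := 9477) (h.tM tP16_ok)
        (e.card tP16_ok) h.card (by norm_num)) ht (by rwa [pow_two])
      obtain ⟨c, h3, h4⟩ := e.alld tP16_ok _ k_P16 h1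
      have b := e.b9 wv1 wd (by decide +kernel)
      rcases h4 ((e.o2 h3).1 (by rwa [← pow_two, h2.pow, pow_two])) with h5 | h5
      · exact ⟨_, h.wM wv1, b.a1, b.a3, by simp [h2.one.1 ((e.iff h3 e.one).2 h5)]⟩
      · obtain ⟨k, h6, rfl⟩ := (e.ocj oi_ok h3 h5).trans h2
        exact ⟨_, mul_mem (mul_mem h6 (h.wM wv1)) (inv_mem h6), (b.conj k).a1, (b.conj k).a3,
          by rw [conj_mul, conj_mul, e.wcm wv1 wi (by decide +kernel)]⟩) hne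
  have h4 := card_dvd_of_le h1
  rw [h.card, show 151632 = 208 * 3 ^ 6 from rfl] at h4
  have := Nat.le_of_dvd (by norm_num) ((Nat.Coprime.pow_right 6
    ((Nat.Prime.coprime_iff_not_dvd Nat.prime_three).2 h2).symm).dvd_of_dvd_mul_right h4)
  rw [h.card, h.ci hS, e.card tCT_ok, show tCT.m = 144 from rfl] at h3
  omega

end Ctx

end CfsgH1.L43
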