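import Cfsg.Agent.H1.L43Com

/-! Construction of `PSL₄(3)` from two parabolic subgroups. -/

set_option autoImplicit false
set_option maxRecDepth 100000
set_option linter.unusedSectionVars false

namespace CfsgH1.L43

open CfsgH3.TC CfsgH8 CfsgH9 CfsgH9.P43 Subgroup CfsgH5 CfsgH6 CfsgFT CfsgH7 Matrix

universe u

variable {G : Type u} [Group G] [Finite G]

structure CtxB (v : ℕ → G) : Prop extends Ctx v where
  relB : RelsHold v R11

/-- the second natural module -/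
def vp (v : ℕ → G) : Fin 3 → G := ![wval v (invW wz), wval v (invW wd), wval v (invW ww)]

def vw (c : V3) : List ℕ :=
  List.replicate (c 0).val 3 ++ List.replicate (c 1).val 9 ++ List.replicate (c 2).val 13

def wp : Fin 3 → List ℕ := ![invW wz, invW wd, invW ww]

theorem wval_rep (v : ℕ → G) (n c : ℕ) : wval v (List.replicate n c) = wval v [c] ^ n := by
  induction n with
  | zero => simp
  | succ n ih => rw [List.replicate_succ, pow_succ', ← ih, ← wval_append]; rfl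

theorem wval_vw (v : ℕ → G) (c : V3) : wval v (vw c) = vv (vp v) c := by
  simp only [vw, wval_append, wval_rep]; rfl

theorem act_w {V : Subgroup G} {v : ℕ → G} {A : Fin 3 → Subgroup G} (h : Bas V (vp v) A) (g : List ℕ)
    (M : M3) (e : ∀ j, wval v (g ++ wp j) = wval v (vw (M *ᵥ Pi.single j 1) ++ g)) :
    Act (vp v) (wval v g) M := h.act_of fun j => by
  rw [mul_inv_eq_iff_eq_mul, ← wval_vw, ← wval_append, ← e, wval_append]
  fin_cases j <;> rfl

/-- two more letters -/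
def ext2 (v : ℕ → G) (a b : G) (n : ℕ) : G := if n = 10 then a else if n = 11 then b else v n

theorem wval_ext {v : ℕ → G} (h0 : v 0 = 1) (a b : G) {w : List ℕ} (hw : Wl 20 w) :
    wval (ext2 v a b) w = wval v w :=
  wval_congr (n := 9) (val := ext2 v a b) h0 h0 (fun n _ _ => by rw [ext2, if_neg (by omega), if_neg (by omega)]) hw

def TH' : List ℕ := [0, 3, 9, 13, 5, 11, 7, 15, 0, 0, 17, 19]

namespace Ctx

variable {v : ℕ → G} (h : Ctx v)
include h

theorem ext (a b : G) : Ctx (ext2 v a b) :=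
  ⟨h.h0, fun w hw => (wval_ext h.h0 a b ((by decide : ∀ w ∈ R9, Wl 20 w) w hw)).trans (h.rel w hw),
    wval_ext h.h0 a b (w := wz) (by decide) ▸ h.loc, fun w hw => by
      rw [wval_ext h.h0 a b (by decide), wval_ext h.h0 a b ((by decide : ∀ w ∈ [wv1, wv2, wd, ww],
        Wl 20 w) w hw)]
      exact h.q w hw, h.syl⟩

theorem frame (hd : Loc (wval v wd)) : ∃ A, Frame (wcl v tA.Ws) (vp v) A
    ![wval v wT0, wval v wi, wval v wT2] := by
  have e := h.e
  have hz := h.loc.inv'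
  have hy := hd.inv'
  have yQ := inv_mem (h.q wd (by simp))
  have yZ : (wval v wd)⁻¹ ∉ zpowers (wval v wz)⁻¹ := by
    rw [zpowers_inv, Subgroup.inv_mem_iff]; exact (e.b9 wz wd (by decide +kernel)).ind
  rw [← Qz_inv] at yQ
  obtain ⟨zQ, A0, h0⟩ := good_of hz hy yQ yZ
  have zY : (wval v wz)⁻¹ ∉ zpowers (wval v wd)⁻¹ := fun e =>
    hz.ne (zp_inf hz.cube hy.cube yZ (mem_zpowers _) e)
  obtain ⟨-, A1, h1⟩ := good_of hy hz zQ zY
  have hg : wval v [10, 15, 10] ∈ C1 (wval v wz)⁻¹ := by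
    rw [C1_inv, h.cz]; exact e.wmem tC7_ok _ (by decide +kernel)
  have e0 := mem_C1_iff_conj.1 hg
  obtain ⟨-, A2, h2⟩ := good_of (hy.conj' _) hz (by rw [← cj_Qz, ← e0]; exact conj_mem_cj.2 zQ)
    (by rw [← cj_zpowers, ← e0, conj_mem_cj]; exact zY)
  rw [← cj_Qz, ← mem_N.1 (C1_le_NQ _ hg), ← cj_inf, inf_comm, mem_N.1 (h0.nV hg), ← conj_inv,
    e.wcj _ wd ww (by decide +kernel)] at h2
  rw [inf_comm] at h1
  have hV : wcl v tA.Ws = Qz (wval v wz)⁻¹ ⊓ Qz (wval v wd)⁻¹ := eq_of_le_of_card_le (wcl_le (by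
    simpa [tA, -mem_inf] using ⟨inv_mem_iff.1 h0.wV, inv_mem_iff.1 h1.wV, inv_mem_iff.1 h2.wV⟩)) (h0.card.trans (e.card tA_ok).symm).le
  rw [← hV, ← wval_invW] at h0 h1 h2
  have hB : Bas (wcl v tA.Ws) (vp v) ![A0, A1, A2] := ⟨fun i => by fin_cases i <;> assumption,
    fun c hc => (by decide +kernel : ∀ c : V3, wc (vw c) = o1 → c = 0) c ((e.iff (e.wd _
      ((by decide +kernel : ∀ c : V3, Wl 20 (vw c)) c)) e.one).1 ((wval_vw v c).trans hc))⟩
  have t : ∀ i, ![wval v wT0, wval v wi, wval v wT2] i = wval v (![wT0, wi, wT2] i) := fun i => by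
    fin_cases i <;> rfl
  exact ⟨_, hB, fun i => t i ▸ e.w2 _ (by revert i; decide +kernel),
    fun i j => t i ▸ t j ▸ e.wcm _ _ (by revert i j; decide +kernel),
    fun i => t i ▸ act_w hB _ _ fun j => e.weq _ _ (by revert i j; decide +kernel)⟩

theorem exB (hd : Loc (wval v wd)) : ∃ a b, CtxB (ext2 v a b) := by
  have e := h.e
  obtain ⟨A, f⟩ := h.frame hd
  obtain ⟨x, h1, h2⟩ := f.exists_st
  have k1 : ∀ w j, 0 ≠ j → (Wl 20 w ∧ tV.mem (wc w) = true) ∧ (Wl 20 w ∧ tA.mem (wc w) = false) ∧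
      (Wl 20 (wT0 ++ w) ∧ Wl 20 (invW w ++ wT0) ∧ wc (wT0 ++ w) = wc (invW w ++ wT0)) ∧
      (∀ k, Wl 20 (w ++ wp k) ∧ Wl 20 (vw (eM 1 0 j *ᵥ Pi.single k 1) ++ w) ∧
        wc (w ++ wp k) = wc (vw (eM 1 0 j *ᵥ Pi.single k 1) ++ w)) → x 0 j = wval v w := by
    rintro w j hj ⟨p, q, r, s⟩
    have m := e.wmem tV_ok w p
    have l : wcl v tV.Ws ≤ Qz (wval v wz) := wcl_le (by
      simpa [tV] using ⟨h.loc.mem, h.q _ (by simp), h.q _ (by simp)⟩)
    refine f.eqU (h2 0 j hj).1 ⟨((f.good 0).sig _ ?_ fun g hg => ?_).resolve_left (e.wnot tA_ok w q),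
      (e.wcj wT0 w _ r).trans (wval_invW v w)⟩ (h2 0 j hj).2.1
      (act_w f.toBas w _ fun k => e.weq _ _ (s k)) rfl
    · change _ ∈ Qz (wval v (invW wz))
      rw [wval_invW, Qz_inv]; exact l m
    · change _ ∈ C1 (wval v (invW wz)) at hg
      rw [wval_invW, C1_inv] at hg
      exact (e.ab tV_ok (by decide +kernel)).comm m (e.nV g (h.czM hg) _ m)
  have x02 := k1 (invW wv1) 2 (by decide) (by decide +kernel)
  have x01 := k1 (invW wv2) 1 (by decide) (by decide +kernel)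
  obtain ⟨_, e1, e2⟩ := wm9 (v := vl (vp v) x) rfl h1.rels (by
    rw [show wval (vl (vp v) x) wz = vp v 0 from wval_single _ 1]; exact (f.good 0).loc.ne)
  have e' := env_of e1 e2
  have l02 : Loc (wval (vl (vp v) x) wd) := by
    rw [show wval (vl (vp v) x) wd = x 0 2 from wval_single _ 4, x02]
    exact (e.owcj oz_ok _ (by decide +kernel)).loc h.loc
  have k2 : ∀ w i j, i ≠ j → 0 ≠ i → 0 ≠ j → Loc (x i j) → w ∈ [invW wy, invW w21] →
      (∀ k, Wl 20 (w ++ wp k) ∧ Wl 20 (vw (eM 1 i j *ᵥ Pi.single k 1) ++ w) ∧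
        wc (w ++ wp k) = wc (vw (eM 1 i j *ᵥ Pi.single k 1) ++ w)) → x i j = wval v w := by
    intro w i j a b c l hw s
    have m := f.mem_of_act (((by decide : ∀ i j, i ≠ j → eM 1 i j * eM (-1) i j = 1) i j a) ▸
      (h2 i j a).2.1.mul ((act_w f.toBas w _ fun k => e.weq _ _ (s k)).inv
      ((by decide : ∀ i j, i ≠ j → eM 1 i j * eM (-1) i j = 1) i j a)))
    obtain ⟨c', p, q⟩ := e.alld tA_ok _ k_A m
    have hw' := (by decide +kernel : ∀ w ∈ [invW wy, invW w21], Wl 20 w ∧ Wl 20 (w ++ wT0) ∧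
      Wl 20 (wT0 ++ w) ∧ wc (w ++ wT0) = wc (wT0 ++ w)) w hw
    have r := e.mul p (e.wd w hw'.1)
    rw [inv_mul_cancel_right] at r
    rcases q ((e.cm p (e.wd _ (by decide))).1 (mem_C1.1 (mul_mem (mem_C1.2
      ((h2 i j a).2.2 0 b c).symm) (inv_mem (mem_C1.2 (e.wcm _ _ hw'.2)))))) with q | q
    · exact mul_inv_eq_one.1 ((e.iff p e.one).2 q)
    · exact ((q w hw).elim (fun q => h.nx ((e.ocj ox_ok r q).symm.loc l))
        fun q => h.nx' ((e.ocj oxp_ok r q).symm.loc l)).elim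
  have x12 := k2 (invW wy) 1 2 (by decide) (by decide) (by decide) (by
    rw [← show wval (vl (vp v) x) wy = x 1 2 from wval_single _ 5]
    exact (e'.owcj od_ok _ (by decide +kernel)).loc l02) (by decide) (by decide +kernel)
  have x21 := k2 (invW w21) 2 1 (by decide) (by decide) (by decide) (by
    rw [← show wval (vl (vp v) x) w21 = x 2 1 from wval_single _ 7]
    exact (e'.owcj od_ok _ (by decide +kernel)).loc l02) (by decide) (by decide +kernel)
  refine ⟨(x 1 0)⁻¹, (x 2 0)⁻¹, h.ext _ _, ?_⟩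
  have hu := h.ext (x 1 0)⁻¹ (x 2 0)⁻¹
  have c : ∀ {w}, Wl 20 w → wval (ext2 v (x 1 0)⁻¹ (x 2 0)⁻¹) w = wval v w := wval_ext h.h0 _ _
  have c10 : wval (ext2 v (x 1 0)⁻¹ (x 2 0)⁻¹) w32 = (x 1 0)⁻¹ := wval_single _ 10
  have th0 : ∀ w, Wl 20 w → wval (ext2 v (x 1 0)⁻¹ (x 2 0)⁻¹) (sbs TH w) = wval (vl (vp v) x) w :=
    fun w hw => (wval_sbs hu.h0 TH w).trans (wval_congr (n := 9) (val := fun a => sval (ext2 v (x 1 0)⁻¹ (x 2 0)⁻¹) (TH.getD a 0))
      (val' := vl (vp v) x) hu.h0 rfl (fun a h3 h4 => by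
      interval_cases a <;> simp [vl, lv, vp, x01, x02, x12, x21, TH, sval, ext2, invW, invL, wz,
        wd, ww, wv1, wv2, wy, w21]) hw)
  have hp : vp (ext2 v (x 1 0)⁻¹ (x 2 0)⁻¹) = vp v := rfl
  generalize ext2 v (x 1 0)⁻¹ (x 2 0)⁻¹ = u at *
  have eu := hu.e
  have th : ∀ w w', Wl 20 (sbs TH' w) ∧ Wl 20 (sbs TH' w') ∧ sbs TH (sbs TH' w) = w ∧
      sbs TH (sbs TH' w') = w' ∧ wc (sbs TH' w) = wc (sbs TH' w') → wval u w = wval u w' :=
    fun w w' ⟨a, b, p, q, r⟩ => by rw [← p, ← q, th0 _ a, th0 _ b, e'.weq _ _ ⟨a, b, r⟩]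
  have t2 : ∀ i j, i ≠ j → 2 ≠ i → 2 ≠ j → x i j ∈ C1 (wval u wT2) := fun i j a b d =>
    c (w := wT2) (by decide) ▸ mem_C1.2 ((h2 i j a).2.2 2 b d).symm
  refine (hu.rel.append fun w hw => ?_).append ?_
  · obtain ⟨w, hw', rfl⟩ := List.mem_map.1 ((by decide : RT = R9.map (sbs TH)) ▸ hw)
    rw [th0 w ((by decide : ∀ w ∈ R9, Wl 20 w) w hw'), h1.rels w hw']
  have key : ∀ j j1 j2 j3, wval u (w32 ++ j ++ invW w32) = wval u j1 →
      wval u (w10 ++ j ++ invW w10) = wval u j3 → wval u (w10 ++ j1 ++ invW w10) = wval u j2 →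
      wval u (w32 ++ j3 ++ invW w32) = wval u j2 →
      (wval u w32 * wval u w10)⁻¹ * (wval u w10 * wval u w32) ∈ C1 (wval u j) := by
    intro j j1 j2 j3 p q r s
    simp only [wval_append, wval_invW] at p q r s
    rw [← p, ← s, ← q] at r
    rw [mem_C1_iff_conj]
    calc _ = (wval u w32 * wval u w10)⁻¹ * (wval u w10 * (wval u w32 * wval u j * (wval u w32)⁻¹) *
        (wval u w10)⁻¹) * (wval u w32 * wval u w10) := by group
      _ = _ := by rw [r]; group
  have a1 := key wz [2, 8, 8] [2, 4, 8, 8, 10, 10] [2, 4] (th _ _ (by decide +kernel))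
    (eu.weq _ _ (by decide +kernel)) (eu.weq _ _ (by decide +kernel)) (th _ _ (by decide +kernel))
  have a2 := key wv1 [4, 10, 10] [4, 10, 10] [4] (th _ _ (by decide +kernel))
    (eu.weq _ _ (by decide +kernel)) (eu.weq _ _ (by decide +kernel)) (th _ _ (by decide +kernel))
  have a3 := key wd [8] [8, 10] [8, 10] (th _ _ (by decide +kernel))
    (eu.weq _ _ (by decide +kernel)) (eu.weq _ _ (by decide +kernel)) (th _ _ (by decide +kernel))
  have a4 := key wy [10] [10] [10] (th _ _ (by decide +kernel))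
    (eu.weq _ _ (by decide +kernel)) (eu.weq _ _ (by decide +kernel)) (th _ _ (by decide +kernel))
  have b1 : wval u w32 ∈ C1 (wval u wT2) := c10 ▸ inv_mem (t2 1 0 (by decide) (by decide) (by decide))
  have b2 := mem_C1.2 (eu.wcm w10 wT2 (by decide +kernel))
  obtain ⟨c', p, q⟩ := eu.alld tS_ok _ k_Sc (eu.sig (hu.cz ▸ a1) a2)
  have cm : ∀ w, Wl 20 w → _ ∈ C1 (wval u w) → _ := fun w hw r => (eu.cm p (eu.wd w hw)).1 (mem_C1.1 r)
  have r := (eu.iff p eu.one).2 (q (cm _ (by decide) a2) (cm _ (by decide) a3) (cm _ (by decide) a4)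
    (cm _ (by decide) (mul_mem (inv_mem (mul_mem b1 b2)) (mul_mem b2 b1))))
  have fu : Bas (wcl v tA.Ws) (vp u) A := hp ▸ f.toBas
  have s1 := fu.exp (fu.mem_of_act (dM_sq 2 ▸ (act_w fu wT2 (dM 2) fun j => eu.weq _ _
    (by revert j; decide +kernel)).mul (act_w fu (invW (sbs TH wT2)) (dM 2) fun j => th _ _
    (by revert j; decide +kernel))))
  have s2 : wval u (invW (sbs TH wT2)) ∈ C1 (wval u wT2) := by
    have b3 := mem_C1.2 (eu.wcm (invW wv2) wT2 (by decide +kernel))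
    rw [wval_invW, show sbs TH wT2 = invW wv2 ++ w32 ++ invW wv2 ++ (invW wv2 ++ w32 ++ invW wv2) from rfl]
    simp only [wval_append]
    exact inv_mem (mul_mem (mul_mem (mul_mem b3 b1) b3) (mul_mem (mul_mem b3 b1) b3))
  have s3 : wval u (invW (sbs TH wT2)) * wval u (invW (sbs TH wT2)) = 1 :=
    (wval_append u _ _).symm.trans (th _ [] (by decide +kernel))
  intro w hw
  simp only [List.mem_cons, List.not_mem_nil, or_false] at hw
  rcases hw with rfl | rfl
  · rw [inv_mul_eq_one] at r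
    change wval u (w10 ++ w32 ++ invW w10 ++ invW w32) = 1
    simp only [wval_append, wval_invW, ← r]
    group
  · change wval u (wT2 ++ invW (sbs TH wT2)) = 1
    rw [pow_three, (Commute.symm (mem_C1.1 s2)).symm.mul_mul_mul_comm, s3,
      eu.w2 wT2 (by decide +kernel), mul_one, mul_one] at s1
    rwa [wval_append]

end Ctx

end CfsgH1.L43
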