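import Cfsg.Agent.H1.L43B1
import Cfsg.Agent.H1.L43A

/-! The subgroup `PSL₄(3)` is the whole group. -/

set_option autoImplicit false
set_option maxRecDepth 100000
set_option linter.unusedSectionVars false

namespace CfsgH1.L43

open CfsgH3.TC CfsgH8 CfsgH9 Subgroup CfsgH5 CfsgH6 CfsgFT CfsgH7

universe u

variable {G : Type u} [Group G] [Finite G]

theorem Tb.Ok.up {T : Tb} (h : T.Ok 20) : T.Ok 24 := h.mono (by norm_num)

theorem s3701 {Q : Type u} [Group Q] [Finite Q] {f : Cfsg.Agent.S3701.M →* Q} (hf : Function.Injective f)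
    {T : Subgroup Q} (h1 : T ≤ f.range) (h2 : Nat.card T = 27) (h3 : N T = f.range)
    (h4 : ∀ t ∈ T, t ≠ 1 → C1 t ≤ f.range) : f.range = ⊤ :=
  Cfsg.Agent.S3701.result _ ⟨(MonoidHom.ofInjective hf).symm.trans
    ((MonoidHom.ofInjective Cfsg.Agent.S3701.F_inj).trans
    (MulEquiv.subgroupCongr Cfsg.Agent.S3701.F_range))⟩ T h1 h2 h3 h4

namespace CtxB

variable {v : ℕ → G} (h : CtxB v)
include h

theorem envB : ∃ R, Env v 24 R :=
  let ⟨_, h1, h2⟩ := wm11 h.h0 h.relB h.loc.ne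
  ⟨_, env_of h1 h2⟩

theorem eB : Env v 24 h.envB.choose := h.envB.choose_spec

theorem isoB : Nonempty (gcl vK 11 ≃* gcl v 11) :=
  let ⟨_, h1, h2⟩ := wm11 h.h0 h.relB h.loc.ne
  wm_iso h1 h2

theorem cardB : Nat.card (gcl v 11) = 6065280 :=
  let ⟨f⟩ := h.isoB
  (Nat.card_congr f.toEquiv).symm.trans card11

theorem twB : CtxB (tw v) := ⟨h.tw, fun w hw => by
  rw [wval_tw h.h0]
  exact h.eB.rels (Rs := R11.map (sbs TW)) (by decide +kernel) _ (List.mem_map_of_mem hw)⟩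

theorem wH (w : List ℕ) (hw : Wl 24 w := by decide) : wval v w ∈ gcl v 11 := wval_mem_gcl h.h0 hw

theorem tH {T : Tb} (hT : T.Ok 24) : wcl v T.Ws ≤ gcl v 11 := wcl_gcl h.h0 11 hT.lt

theorem MH : gcl v 9 ≤ gcl v 11 := gcl_mono v (by norm_num)

theorem zd : Cj (gcl v 11) (wval v wz) (wval v wd) :=
  ⟨_, h.wH [6, 21], h.eB.wcj _ _ _ (by decide +kernel)⟩

theorem ek : Cj (gcl v 11) (wval v we) (wval v wk) :=
  ⟨_, h.wH [15, 10, 5, 22, 6], h.eB.wcj _ _ _ (by decide +kernel)⟩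

theorem zH : Ctl (gcl v 11) (wval v wz) := h.ctl h.MH (fun _ => h.zd) fun e => h.ne (h.ek.symm.loc e)

theorem cLB : gcl v 11 ⊓ C1 (wval v wx) = wcl v tLB.Ws :=
  h.eB.ocent hx_ok tLB_ok (by decide +kernel) h.cardB.le

theorem cL0 : gcl v 11 ⊓ C1 (wval v wi) = wcl v tL0.Ws :=
  h.eB.ocent hi_ok tL0_ok (by decide +kernel) h.cardB.le

theorem sylD : SylIn 3 (wcl v tD.Ws) (C1 (wval v wi)) := by
  have l : wcl v tD.Ws ≤ wcl v tL0.Ws := wcl_mono
  exact syl_of_N (l.trans (h.cL0.ge.trans inf_le_right)) (syl_card (n := 2) (m := 128) l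
    (h.e.card tD_ok) (h.eB.card tL0_ok) (by norm_num)) fun g hg => h.cL0.le
    ⟨Ctl.nrm (((h.e.owcj oz_ok wv1 (by decide +kernel)).mono h.MH).ctrl h.zH) (mem_wcl wv1)
      (h.tH tD_ok.up) hg.2, hg.1⟩

theorem ui (g : G) : ¬ Cj (gcl v 11) (wval v wi) (g * wval v wu * g⁻¹) := fun e1 => by
  have e := h.eB
  obtain ⟨k, -, e1⟩ := e1.symm
  have l : cj (k * g) (wcl v tE.Ws) ≤ C1 (wval v wi) := by
    rw [← e1, show k * (g * wval v wu * g⁻¹) * k⁻¹ = k * g * wval v wu * (k * g)⁻¹ by group, ← cj_C1]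
    exact cj_mono (e.wmemC tE_ok.up wu (by decide +kernel))
  have c := (card_cj (k * g) _).trans (e.card tE_ok.up)
  obtain ⟨s, h1, h2⟩ := syl_conj (h.sylD.of_card_le l (IsPGroup.of_card (n := 2) c)
    ((e.card tD_ok.up).trans c.symm).le) (h.sylD.le (mem_wcl wv1)) (e.w3 _ (by decide +kernel))
  have h3 := (h2.symm.loc ((e.owcj oz_ok wv1 (by decide +kernel)).loc h.loc)).conj' (k * g)⁻¹
  rw [inv_inv] at h3
  obtain ⟨c, h4, h5 | h5 | h5⟩ := e.alld tE_ok.up _ k_E (mem_cj.1 h1)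
  exacts [h3.ne ((e.iff h4 e.one).2 h5), h.nx ((e.ocj ox_ok h4 h5).symm.loc h3),
    h.nx' ((e.ocj oxp_ok h4 h5).symm.loc h3)]

theorem exK : ∃ K, NormalIn K (C1 (wval v wx)) ∧ wval v wu ∈ K ∧
    ∀ a ∈ K, a ∈ gcl v 11 → a ∈ wcl v tL1.Ws := by
  have e := h.eB
  have l := h.cLB.ge.trans inf_le_right
  obtain ⟨ρ, h1, h2⟩ := e.rho tLB_ok fB fB_one fB_hom fB_surj
  have k1 : ∀ a, ρ a * ρ a ≠ 1 → ∃ k ∈ wcl v tLB.Ws, k * a * k⁻¹ ∈ wcl v tR.Ws ∧
      k * a * k⁻¹ ∉ wcl v tJ.Ws := fun a ha => by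
    obtain ⟨c, h3, h4, -⟩ := e.alld tLB_ok _ k_LB a.2
    obtain ⟨w, hw, h5, h6⟩ := h4 (h2 a c h3 ▸ ha)
    have p := (by decide +kernel : ∀ w ∈ [[], wu, wu2, wu ++ wu2], (Wl 24 w ∧ tLB.mem (wc w) = true) ∧
      Wl 24 (invW w)) w hw
    have q := e.mul (e.mul (e.wd w p.1.1) h3) (e.wd _ p.2)
    rw [wval_invW] at q
    exact ⟨_, e.wmem tLB_ok w p.1, e.of_mem tR_ok.up q h5, fun r => by
      simpa [h6] using (e.mem tJ_ok.up q).1 r⟩
  obtain ⟨K, h3, h4, h5⟩ := s3c l ρ h1 (fun g hg a b ha hb e1 => by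
      obtain ⟨k, p1, p2, p3⟩ := k1 a ha
      obtain ⟨k', q1, q2, -⟩ := k1 b hb
      have m := mul_mem (mul_mem (l q1) hg) (inv_mem (l p1))
      have := h.zH _ (h.MH (h.cR p2 p3 (mem_inf.2 ⟨mul_mem (mul_mem (inv_mem m) (l (mem_wcl wz)))
        (inv_mem (inv_mem m)), mem_C1_comm.1 (by
          rw [← cj_C1, mem_cj, inv_inv]
          convert e.wmemC tR_ok.up wz (by decide +kernel) q2 using 1
          rw [← e1]; group)⟩)))
      rw [Subgroup.inv_mem_iff, mul_mem_cancel_right (inv_mem (h.tH tLB_ok p1)),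
        mul_mem_cancel_left (h.tH tLB_ok q1)] at this
      exact h.cLB.le ⟨this, hg⟩) (l (mem_wcl wu)) (e.w2 wu (by decide +kernel)) fun g _ a e1 => by
      obtain ⟨c, h3, -, h4, -⟩ := e.alld tLB_ok _ k_LB a.2
      rcases h4 ((e.o2 h3).1 (by rw [← e1, conj_mul, e.w2 wu (by decide +kernel)]; simp)) with p | p
      · rwa [h2 a c h3]
      · exact absurd (e1 ▸ e.ocj hi_ok h3 p) (h.ui g)
  refine ⟨K, h3, h4, fun a ha aH => ?_⟩
  have aL := h.cLB.le ⟨aH, h3.1 ha⟩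
  obtain ⟨r, hr⟩ := h1 (finRotate 3)
  have := h5 (r * ⟨a, aL⟩ * r⁻¹ * ⟨a, aL⟩⁻¹) (mul_mem (h3.2 _ (l r.2) a ha) (inv_mem ha))
  rw [map_mul, map_mul, map_mul, map_inv, map_inv, hr] at this
  obtain ⟨c, h6, -, -, h7⟩ := e.alld tLB_ok _ k_LB aL
  exact e.of_mem tL1_ok h6 (h7 (h2 ⟨a, aL⟩ c h6 ▸ (by decide : ∀ a : Equiv.Perm (Fin 3), a * a = 1 →
    finRotate 3 * a * (finRotate 3)⁻¹ * a⁻¹ * (finRotate 3 * a * (finRotate 3)⁻¹ * a⁻¹) = 1 → a = 1)
    _ (h5 ⟨a, aL⟩ ha) this))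

theorem cj1 {Y : Subgroup G} (h1 : wcl v tL1.Ws ≤ Y) (h2 : ∀ a ∈ Y, a ∈ gcl v 11 → a ∈ wcl v tL1.Ws) :
    Y ⊓ C1 (wval v wj) ≤ gcl v 11 := by
  have e := h.eB
  have l := e.tle tJ_ok.up tL1_ok (by decide +kernel)
  have l9 := e.tle tP9_ok.up tJ_ok.up (by decide +kernel)
  have k : ∀ g ∈ Y ⊓ C1 (wval v wj), g ∈ N (wcl v tP9.Ws) → g ∈ gcl v 11 := fun g hg hn => h.zH g (by
    rw [e.weq wz (wj ++ wj ++ (wj2 ++ wj2 ++ wj3 ++ wj3)) (by decide +kernel), wval_append, ← conj_mul,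
      wval_append, ← conj_mul, mem_C1_iff_conj.1 hg.2]
    exact mul_mem (mul_mem (h.wH _) (h.wH _)) (h.tH tP9_ok.up (conj_mem_of_mem_N hn
      (e.wmem tP9_ok.up _ (by decide +kernel)))))
  have u1 := e.wd wu (by decide)
  have u2 := e.wd (invW wu) (by decide)
  rw [wval_invW] at u2
  have := (h.sig (mem_wcl wz) (mem_wcl wv1)).le_N_of_st (X := Y ⊓ C1 (wval v wj))
    (fun _ => e.exp tJ_ok.up k_Je) (e.ab tJ_ok.up (by decide +kernel))
    (le_inf (l.trans h1) (e.wmemC tJ_ok.up wj (by decide +kernel)))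
    (mem_inf.2 ⟨h1 (mem_wcl wu), mem_C1.2 (e.wcm wu wj (by decide +kernel))⟩)
    (e.w2 wu (by decide +kernel)) l9 (by
      rw [show wcl v tP9.Ws = _ from wcl_D9 v wj2 wj3]
      exact (e.b9 wj2 wj3 (by decide +kernel)).not_isCyclic) (fun a ha => by
      obtain ⟨c, p, q⟩ := e.alld tJ_ok.up _ k_Ju ha
      rw [inv_eq_of_mul_eq_one_right ((pow_three a).symm.trans (e.exp tJ_ok.up k_Je ha))]
      exact e.of_mem tP9_ok.up (e.mul (e.mul (e.mul u1 p) u2) (e.mul p p)) q) (fun a ha => by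
      obtain ⟨c, p, q⟩ := e.alld tP9_ok.up _ k_P9 ha
      exact eq_inv_of_mul_eq_one_left ((e.iff (e.mul (e.mul (e.mul u1 p) u2) p) e.one).2 q))
    fun g hg hn => by
      obtain ⟨c, p, -, q⟩ := e.alld tL1_ok _ k_L1 (h2 g hg.1
        (hn.elim (h.zH.nrm (mem_wcl wz) (h.tH tJ_ok.up)) (k g hg)))
      exact (q ((e.cm p (e.wd _ (by decide))).1 (mem_C1.1 hg.2))).imp (e.of_mem tJ_ok.up p)
        (e.of_mem tJ_ok.up (e.mul p u2))
  exact fun g hg => k g hg (this hg)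

theorem cxB : C1 (wval v wx) ≤ gcl v 11 := by
  have e := h.eB
  obtain ⟨K, h1, h2, h3⟩ := h.exK
  have hZ : zpowers (wval v wx) ≤ C1 (wval v wx) := zpowers_le.2 (self_mem_C1 _)
  have nZ : Nrm (C1 (wval v wx)) (zpowers (wval v wx)) := nrm_of_le_C (C_zpowers _).ge
  have n0 : NormalIn (zpowers (wval v wx) ⊔ K) (C1 (wval v wx)) := ⟨sup_le hZ h1.1, nZ.sup h1.2⟩
  have lB := h.cLB.ge.trans inf_le_right
  have l1 : wcl v tL1.Ws ≤ zpowers (wval v wx) ⊔ K := wcl_le fun w hw => by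
    rw [tL1_Ws, List.mem_cons, List.mem_map] at hw
    rcases hw with rfl | ⟨a, ha, rfl⟩
    · exact mem_sup_left (mem_zpowers _)
    · rw [wval_append, wval_append, wval_invW]
      exact mem_sup_right (h1.2 _ (lB (e.wmem tLB_ok a (by revert a; decide +kernel))) _ h2)
  have ZL : zpowers (wval v wx) ≤ wcl v tL1.Ws := zpowers_le.2 (mem_wcl wx)
  have l2 : ∀ a ∈ zpowers (wval v wx) ⊔ K, a ∈ gcl v 11 → a ∈ wcl v tL1.Ws := fun a ha aH => by
    obtain ⟨s, hs, k, hk, rfl⟩ := CfsgH6.Nrm.exists_mul_of_mem_sup (h1.2.mono hZ) ha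
    exact mul_mem (ZL hs) (h3 k hk ((mul_mem_cancel_left (h.tH tL1_ok (ZL hs))).1 aH))
  generalize zpowers (wval v wx) ⊔ K = Y at *
  have c1 := h.cj1 l1 l2
  have c2 : ∀ j ∈ [wj, wj2, wj3], Y ⊓ C1 (wval v j) ≤ gcl v 11 := fun j hj g hg => by
    obtain ⟨r, -, p, q⟩ := (by decide +kernel : ∀ j ∈ [wj, wj2, wj3], ∃ r ∈ [[], wr, invW wr],
      (Wl 24 r ∧ tLB.mem (wc r) = true) ∧ Wl 24 (r ++ wj) ∧ Wl 24 (j ++ r) ∧ wc (r ++ wj) = wc (j ++ r)) j hj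
    have m := e.wmem tLB_ok r p
    have := c1 (x := (wval v r)⁻¹ * g * (wval v r)⁻¹⁻¹) ⟨n0.2 _ (inv_mem (lB m)) g hg.1, by
      have := (mem_inf.1 hg).2
      rw [← e.wcj r wj j q, ← cj_C1, mem_cj] at this
      rwa [inv_inv]⟩
    rwa [inv_inv, mul_mem_cancel_right (h.tH tLB_ok m), mul_mem_cancel_left (inv_mem (h.tH tLB_ok m))]
      at this
  obtain ⟨Q, _, _, π, hs⟩ := exists_sec (ZL.trans l1) (nZ.mono n0.1)
  obtain ⟨ρ, h4, h5⟩ := e.rho tL1_ok f1 f1_one f1_hom f1_surj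
  obtain ⟨f, h6, h7⟩ := exists_f hs l1 ρ h4 fun a => by
    obtain ⟨c, p, q, -⟩ := e.alld tL1_ok _ k_L1 a.2
    rw [h5 a c p, q, e.zp_iff p]
  have lJ := e.tle tJ_ok.up tL1_ok (by decide +kernel)
  have ZJ : zpowers (wval v wx) ≤ wcl v tJ.Ws := zpowers_le.2 (e.wmem tJ_ok.up wx (by decide +kernel))
  have m : ∀ g : Y, g.1 ∈ gcl v 11 → π g ∈ f.range := fun g hg => h7 ▸ (hs.mem_img ZL).2 (l2 g g.2 hg)
  have h8 := s3701 h6 (T := img π (wcl v tJ.Ws)) (h7 ▸ img_mono π lJ) (by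
      have := hs.card_img ZJ (lJ.trans l1)
      rw [Nat.card_zpowers, orderOf_three (e.w1 wx (by decide +kernel)) (e.w3 wx (by decide +kernel)),
        e.card tJ_ok.up, show tJ.m = 81 from rfl] at this
      omega) (le_antisymm (fun q hq => by
      obtain ⟨g, rfl⟩ := hs.surj q
      exact m g (h.zH.nrm (mem_wcl wz) (h.tH tJ_ok.up) ((hs.mem_N ZJ (lJ.trans l1)).1 hq)))
      fun q hq => by
      obtain ⟨g, rfl⟩ := hs.surj q
      exact (hs.mem_N ZJ (lJ.trans l1)).2 (nrm_iff.1 (e.nrm (n := 11) tJ_ok.up _ (by decide +kernel))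
        ((hs.mem_img ZL).1 (h7 ▸ hq)))) fun t ht t1 q hq => by
      obtain ⟨g, rfl⟩ := hs.surj q
      obtain ⟨b, rfl⟩ := hs.surj t
      have bJ := (hs.mem_img ZJ).1 ht
      have k1 : g.1 * b * g.1⁻¹ * b.1⁻¹ ∈ zpowers (wval v wx) :=
        (hs.eq_iff (g := g * b * g⁻¹)).1 (by simpa using mem_C1_iff_conj.1 hq)
      have k2 : ∀ a ∈ zpowers (wval v wx), g * a * g.1⁻¹ = a := fun a ha =>
        mem_C1_iff_conj.1 (C1_le_C1_of_mem_zpowers ha (n0.1 g.2))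
      have k3 : g * b * g.1⁻¹ ∈ wcl v tJ.Ws := by simpa using mul_mem (ZJ k1) bJ
      refine m g ?_
      obtain ⟨c, p, r | ⟨a, ha, r⟩⟩ := e.alld tJ_ok.up _ k_J bJ
      · exact absurd ((hs.ker b).2 ((e.zp_iff p).2 r)) t1
      have k4 := p3_zp v ha
      have k5 : ∀ {y}, Cj (gcl v 11) (wval v wz) y → y = b * wval v a → g.1 ∈ gcl v 11 := fun s t =>
        s.ctrl h.zH g (by rw [t, ← conj_mul, k2 _ k4]; exact h.tH tJ_ok.up (mul_mem k3 (ZJ k4)))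
      have p' := e.mul p (e.wp3 ha)
      rcases r with r | r | ⟨j, hj, r⟩
      · exact k5 ((e.ocj oz_ok p' r).mono h.MH) rfl
      · exact k5 (h.zd.trans ((e.ocj od_ok p' r).mono h.MH)) rfl
      have zY := l1 (lJ (mem_wcl wz))
      have k6 : g * wval v wz * g.1⁻¹ ∈ Y := mul_mem (mul_mem g.2 zY) (inv_mem g.2)
      have k7 : g * wval v wz * g.1⁻¹ ∈ C1 (wval v wx) ⊓ C1 b.1 := by
        have k8 : g * wval v wz * g.1⁻¹ ∈ C1 (g * b * g.1⁻¹) := by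
          rw [← cj_C1, conj_mem_cj]
          exact mem_C1_comm.1 (e.wmemC tJ_ok.up wz (by decide +kernel) bJ)
        exact ⟨n0.1 k6, mem_C1_comm.1 (by
          convert mul_mem (zpowers_le.2 (mem_C1_comm.1 (n0.1 k6)) (inv_mem k1)) (mem_C1_comm.1 k8) using 1
          group)⟩
      have jw := e.wd j ((by decide : ∀ j ∈ [wj, wj2, wj3], Wl 24 j) j hj)
      refine h.zH g (c2 j hj ⟨k6, ?_⟩)
      rcases r with r | r
      · exact (e.iff p' jw).2 r ▸ mem_C1_mul k7 k4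
      · exact (e.iff (e.mul (e.mul p p) (e.wp3 ha)) jw).2 r ▸ mem_C1_mul
          ⟨k7.1, pow_two b.1 ▸ C1_le_C1_pow _ 2 k7.2⟩ k4
  intro g hg
  have k := n0.2 g hg _ (l1 (lJ (mem_wcl wz)))
  exact h.zH g (h.tH tL1_ok ((hs.mem_img ZL (g := ⟨_, k⟩)).1 (h7 ▸ h8 ▸ mem_top _)))

theorem seB : SE 3 (gcl v 11) := by
  have hx' := h.twB.cxB
  rw [gcl_tw v le_rfl, wval_tw h.h0] at hx'
  exact h.se h.MH h.zH (h.zd.C1_le (h.czM.trans h.MH)) h.cxB hx' (h.ek.C1_le (h.ce.trans h.MH))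

theorem exK0 : ∃ K, NormalIn K (C1 (wval v wi)) ∧ wval v wx' ∈ K ∧
    ∀ a ∈ K, a ∈ wcl v tD.Ws → a ∈ zpowers (wval v wx') := by
  have e := h.eB
  have l := h.cL0.ge.trans inf_le_right
  have u2 := e.w2 wu (by decide +kernel)
  obtain ⟨ρ, h1, h2⟩ := e.rho tL0_ok f0 f0_one f0_hom f0_surj
  have p8 : ∀ {a c}, h.envB.choose a c → h.envB.choose (a ^ 8) (p8 c) := fun {a c} p => by
    have p2 := e.mul p p
    have p4 := e.mul p2 p2
    rw [L43.p8, frcA_eq, frcA_eq, show a ^ 8 = a * a * (a * a) * (a * a * (a * a)) by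
      simp only [pow_succ, pow_zero, one_mul, mul_assoc]]
    exact e.mul p4 p4
  have mx := e.wmem tL0_ok wx (by decide +kernel)
  obtain ⟨K, h3, h4, h5⟩ := s3c l ρ h1 (fun g hg a b ha _ e1 => by
      obtain ⟨c, p, q, -⟩ := e.alld tL0_ok _ k_L0 a.2
      refine h.cL0.le ⟨h.seB _ (h.tH tL0_ok (a ^ 8).2) (fun r => ?_) ((e.o3 (p8 p)).2 q) g ?_, hg⟩
      · have := map_pow ρ a 8
        rw [show a ^ 8 = 1 from Subtype.ext r, map_one] at this
        exact ha ((by decide : ∀ a : Equiv.Perm (Fin 3), 1 = a ^ 8 → a * a = 1) _ this)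
      · rw [coe_pow, ← conj_pow, e1]
        exact pow_mem (h.tH tL0_ok b.2) 8) (l (mem_wcl wu)) u2 fun g hg a e1 => by
      obtain ⟨c, p, -, q⟩ := e.alld tL0_ok _ k_L0 a.2
      rcases q ((e.o2 p).1 (by rw [← e1, conj_mul, u2]; simp)) with r | r | ⟨r1, r2, r3, r4⟩
      · rwa [h2 a c p]
      · exact absurd (e1 ▸ e.ocj hi_ok p r) (h.ui g)
      obtain ⟨y, y1, y2⟩ := e.sound tL0_ok r1
      have y3 := (e.o3 y2).2 r3
      have x3 := e.w3 wx (by decide +kernel)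
      have x1 := e.w1 wx (by decide +kernel)
      obtain ⟨k, k1, S, k2, k3, k4⟩ := exists_conj_common Nat.prime_three (X := C1 (wval v wi) ⊓ C1 a.1)
        (x := g * wval v wx * g⁻¹) (mem_inf.2 ⟨mul_mem (mul_mem hg (l mx)) (inv_mem hg), by
          rw [← e1, ← cj_C1, conj_mem_cj]
          exact mem_C1.2 (e.wcm wx wu (by decide +kernel))⟩)
        (mem_inf.2 ⟨l y1, mem_C1.2 ((e.cm y2 p).2 r4)⟩) (by rw [conj_pow, x3]; simp) y3
      have k5 := h.cL0.le ⟨h.seB _ (h.wH wx) x1 x3 (k * g) (by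
        convert h.seB.le_of_pgroup Nat.prime_three k2.isPGroup (h.tH tL0_ok y1) k3
          (fun r => r2 ((e.iff y2 e.one).1 r)) y3 k4 using 1
        group), mul_mem k1.1 hg⟩
      rw [show a = ⟨_, k5⟩ * ⟨_, mem_wcl wu⟩ * ⟨_, k5⟩⁻¹ from Subtype.ext (by
        rw [← mem_C1_iff_conj.1 (mem_inf.1 k1).2, ← e1]
        simp [mul_assoc]), map_mul, map_mul, h2 ⟨_, mem_wcl wu⟩ _ (e.wd wu (by decide)),
        show f0 (wc wu) = 1 by decide +kernel]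
      simp
  refine ⟨K, h3, ?_, fun a ha aD => ?_⟩
  · have := mul_mem h4 (h3.2 _ (l (e.wmem tL0_ok wx' (by decide +kernel))) _ (inv_mem h4))
    rwa [← wval_invW, ← wval_invW, ← wval_append, ← wval_append, ← wval_append,
      e.weq _ wx' (by decide +kernel)] at this
  · obtain ⟨c, p, q⟩ := e.alld tD_ok.up _ k_D aD
    have := h5 ⟨a, wcl_mono (Ws := tD.Ws) (by decide) aD⟩ ha
    rw [h2 _ c p] at this
    exact (e.zp_iff p).2 (q.resolve_right fun r => r this)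

theorem ciB : C1 (wval v wi) ≤ gcl v 11 := by
  have e := h.eB
  obtain ⟨K, h1, h2, h3⟩ := h.exK0
  obtain ⟨K', h4, h5, h6⟩ := h.twB.exK0
  have hD : wcl v tD.Ws = D9 (wval v wv1) (wval v wd) := wcl_D9 v wv1 wd
  have hD' : wcl (tw v) tD.Ws = D9 (wval v wv1) (wval v wd) := by
    rw [show wcl (tw v) tD.Ws = _ from wcl_D9 _ wv1 wd, wval_tw h.h0, wval_tw h.h0,
      show sbs TW wv1 = invW wv1 from rfl, wval_invW, D9, zpowers_inv]
    rfl
  rw [wval_tw h.h0, e.weq _ wi (by decide +kernel)] at h4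
  rw [wval_tw h.h0, show sbs TW wx' = wx from rfl] at h5 h6
  rw [hD'] at h6
  have b := e.b9 wv1 wd (by decide +kernel)
  have hS := hD ▸ h.sylD
  have n := h1.inf h4.2
  have h7 : K ⊓ K' ≤ gcl v 11 := b.le_of_SE h.seB (h.wH _) (h.wH _) (n.2 _ (hS.le (left_mem_D9 _ _)))
    (n.2 _ (hS.le (right_mem_D9 _ _))) (by
      have := (hS.inf_nrm n.1 n.2).not_dvd_relIndex
      rwa [show D9 (wval v wv1) (wval v wd) ⊓ (K ⊓ K') = ⊥ from eq_bot_iff.2 fun a ha =>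
        zp_inf (e.w3 wx (by decide +kernel)) (e.w3 wx' (by decide +kernel))
        (e.b9 wx wx' (by decide +kernel)).ind (h6 a ha.2.2 ha.1) (h3 a ha.2.1 (hD ▸ ha.1)),
        relIndex_bot_left] at this)
  have h8 : K ≤ gcl v 11 := fun k hk => h.seB _ (h.wH wx) (e.w1 wx (by decide +kernel))
    (e.w3 wx (by decide +kernel)) k ((mul_mem_cancel_right (inv_mem (h.wH wx))).1 (h7 (mem_inf.2 ⟨by
      simpa only [mul_assoc, inv_inv] using mul_mem hk (h1.2 _ (h4.1 h5) _ (inv_mem hk)),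
      mul_mem (h4.2 k (h1.1 hk) _ h5) (inv_mem h5)⟩)))
  exact fun g hg => h.seB _ (h.wH wx') (e.w1 wx' (by decide +kernel)) (e.w3 wx' (by decide +kernel)) g
    (h8 (h1.2 g hg _ h2))

theorem topB : gcl v 11 = ⊤ := by
  have e := h.eB
  have i2 := e.w2 wi (by decide +kernel)
  have x1 := e.w1 wx (by decide +kernel)
  have x3 := e.w3 wx (by decide +kernel)
  by_contra hne
  obtain ⟨D, h1, h2, h5, h3⟩ := final_of h.seB i2 h.ciB (fun t ht t2 => by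
      obtain ⟨s, h1, h2⟩ := syl_conj (syl_card (p := 2) (n := 7) (m := 47385) (h.tH tP128_ok)
        (e.card tP128_ok) h.cardB (by norm_num)) ht (by rwa [pow_two])
      obtain ⟨c, h3, h4⟩ := e.alld tP128_ok _ k_P128 h1
      have k : ∀ w, wval v wx * wval v w = wval v w * wval v wx → Cj (gcl v 11) (wval v w) s →
          ∃ y ∈ gcl v 11, y ≠ 1 ∧ y ^ 3 = 1 ∧ y * t = t * y := fun w p q => by
        obtain ⟨k, h6, rfl⟩ := q.trans h2
        exact ⟨_, mul_mem (mul_mem h6 (h.wH wx)) (inv_mem h6), by simpa using x1,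
          by rw [conj_pow, x3]; simp, by rw [conj_mul, conj_mul, p]⟩
      rcases h4 ((e.o2 h3).1 (by rwa [← pow_two, h2.pow, pow_two])) with h5 | h5 | h5
      · exact ⟨_, h.wH wx, x1, x3, by simp [h2.one.1 ((e.iff h3 e.one).2 h5)]⟩
      · exact k wi (e.wcm _ _ (by decide +kernel)) (e.ocj hi_ok h3 h5)
      · exact k wu (e.wcm _ _ (by decide +kernel)) (e.ocj hu_ok h3 h5)) hne
  have h4 := card_dvd_of_le h1
  rw [h.cardB, show 6065280 = 8320 * 3 ^ 6 from rfl] at h4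
  obtain ⟨m, h6⟩ := (Nat.Coprime.pow_right 6
    ((Nat.Prime.coprime_iff_not_dvd Nat.prime_three).2 h2).symm).dvd_of_dvd_mul_right h4
  rw [h.cardB, ← inf_eq_right.2 h.ciB, h.cL0, e.card tL0_ok, show tL0.m = 1152 from rfl] at h3
  have h7 : Nat.card D = 8320 := by
    rcases m with _ | _ | m
    · omega
    · omega
    · nlinarith
  obtain ⟨P, hP⟩ := exists_sylIn 2 D
  obtain ⟨s, h8, k, -, h9⟩ := syl_conj (sylIn_of_not_dvd (hP.le.trans h1) hP.isPGroup (by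
    rw [← relIndex_mul_relIndex _ _ _ hP.le h1, relIndex_eq_of_mul h1 (n := 729) (by rw [h7, h.cardB])]
    exact fun r => (Nat.prime_two.dvd_mul.1 r).elim hP.not_dvd_relIndex (by norm_num))) (h.wH wi)
    (by rwa [pow_two])
  exact h5 k⁻¹ (by simpa [← h9, mul_assoc] using hP.le h8)

end CtxB

end CfsgH1.L43
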