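import Cfsg.Agent.H1.L43Env

/-! The parabolic subgroup inside the ambient group. -/

set_option autoImplicit false
set_option maxRecDepth 100000
set_option linter.unusedSectionVars false

namespace CfsgH1.L43

open CfsgH3.TC CfsgH8 CfsgH9 Subgroup CfsgH5 CfsgH6 CfsgFT CfsgH7

universe u

variable {G : Type u} [Group G] [Finite G]

structure Ctx (v : ℕ → G) : Prop where
  h0 : v 0 = 1
  rel : RelsHold v R9
  loc : Loc (wval v wz)
  q : ∀ w ∈ [wv1, wv2, wd, ww], wval v w ∈ Qz (wval v wz)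
  syl : ∀ P : Subgroup G, IsPGroup 3 P → Nat.card P ≤ 729

/-- the letters twisted by a diagonal automorphism -/
def tw (v : ℕ → G) (a : ℕ) : G := sval v (TW.getD a 0)

theorem wval_tw {v : ℕ → G} (h0 : v 0 = 1) (w : List ℕ) : wval (tw v) w = wval v (sbs TW w) :=
  (wval_sbs h0 TW w).symm

theorem gcl_tw (v : ℕ → G) {n : ℕ} (hn : n ≤ 11) : gcl (tw v) n = gcl v n := by
  have h : ∀ a ≤ 11, tw v a = v a ∨ tw v a = (v a)⁻¹ := fun a ha => by
    interval_cases a <;> simp [tw, TW, sval]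
  refine le_antisymm (gcl_le fun a h1 h2 => ?_) (gcl_le fun a h1 h2 => ?_)
  · rcases h a (h2.trans hn) with e | e <;> simpa [e] using mem_gcl h1 h2
  · rcases h a (h2.trans hn) with e | e <;> simpa [e] using mem_gcl (val := tw v) h1 h2

/-- conjugates of `a` lying in `H` are conjugate only by elements of `H` -/
def Ctl (H : Subgroup G) (a : G) : Prop := ∀ g, g * a * g⁻¹ ∈ H → g ∈ H

theorem Ctl.nrm {H P : Subgroup G} {a g : G} (h : Ctl H a) (ha : a ∈ P) (hP : P ≤ H) (hg : g ∈ N P) :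
    g ∈ H := h g (hP (conj_mem_of_mem_N hg ha))

theorem not_loc {z y g : G} (hz : Loc z) (yQ : y ∈ Qz z) (yZ : y ∉ zpowers z) (hg : g ∈ C1 z)
    (h : y * (g * y * g⁻¹) ≠ g * y * g⁻¹ * y) : ¬ Loc y := fun hy => by
  obtain ⟨-, A, h1⟩ := good_of hz hy yQ yZ
  exact h (h1.abV.comm ⟨yQ, hy.mem⟩ (conj_mem_of_mem_N (h1.nV hg) ⟨yQ, hy.mem⟩))

namespace Ctx

variable {v : ℕ → G} (h : Ctx v)
include h

theorem env : ∃ R, Env v 20 R :=
  let ⟨_, h1, h2⟩ := wm9 h.h0 h.rel h.loc.ne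
  ⟨_, env_of h1 h2⟩

theorem e : Env v 20 h.env.choose := h.env.choose_spec

theorem iso : Nonempty (gcl vK 9 ≃* gcl v 9) :=
  let ⟨_, h1, h2⟩ := wm9 h.h0 h.rel h.loc.ne
  wm_iso h1 h2

theorem card : Nat.card (gcl v 9) = 151632 :=
  let ⟨f⟩ := h.iso
  (Nat.card_congr f.toEquiv).symm.trans card9

theorem tw : Ctx (tw v) := by
  refine ⟨h.h0, fun w hw => ?_, wval_tw h.h0 _ ▸ h.loc, fun w hw => ?_, h.syl⟩
  · rw [wval_tw h.h0]
    exact h.e.rels (Rs := R9.map (sbs TW)) (by decide +kernel) _ (List.mem_map_of_mem hw)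
  · rw [wval_tw h.h0, wval_tw h.h0]
    simp only [List.mem_cons, List.not_mem_nil, or_false] at hw
    rcases hw with rfl | rfl | rfl | rfl
    · exact (wval_invW v wv1).symm ▸ inv_mem (h.q wv1 (by simp))
    · exact h.q wv2 (by simp)
    · exact h.q wd (by simp)
    · exact (wval_invW v ww).symm ▸ inv_mem (h.q ww (by simp))

theorem wM (w : List ℕ) (hw : Wl 20 w := by decide) : wval v w ∈ gcl v 9 := wval_mem_gcl h.h0 hw

theorem tM {T : Tb} (hT : T.Ok 20) : wcl v T.Ws ≤ gcl v 9 := wcl_gcl h.h0 9 hT.lt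

theorem cz : C1 (wval v wz) = wcl v tC7.Ws :=
  (eq_of_le_of_card_le (h.e.wmemC tC7_ok wz (by decide +kernel))
    (h.loc.card_C1.trans (h.e.card tC7_ok).symm).le).symm

theorem czM : C1 (wval v wz) ≤ gcl v 9 := h.cz ▸ h.tM tC7_ok

theorem nz {g : G} (hg : g * wval v wz * g⁻¹ ∈ zpowers (wval v wz)) : g ∈ gcl v 9 := by
  obtain ⟨a, h1, h2⟩ := zp_p3 h.loc.cube hg
  simp only [p3, List.mem_cons, List.not_mem_nil, or_false] at h1
  rcases h1 with rfl | rfl | rfl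
  · exact absurd (conj_eq_one_iff.1 h2) h.loc.ne
  · exact h.czM (mem_C1_iff_conj.2 h2)
  · rw [← h.e.wcj wT2 wz (wz ++ wz) (by decide +kernel)] at h2
    refine (mul_mem_cancel_left (inv_mem (h.wM wT2))).1 (h.czM (mem_C1_iff_conj.2 ?_))
    calc _ = (wval v wT2)⁻¹ * (g * wval v wz * g⁻¹) * wval v wT2 := by group
      _ = _ := by rw [h2]; group

theorem sylS : SylIn 3 (wcl v tS.Ws) ⊤ :=
  ⟨le_top, h.e.pg tS_ok 6, fun T _ h1 h2 =>
    (eq_of_le_of_card_le h2 ((h.syl T h1).trans (h.e.card tS_ok).ge)).symm⟩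

theorem cls {s : G} (hs : s ∈ wcl v tS.Ws) (s3 : s ^ 3 = 1) (s1 : s ≠ 1) :
    Cj (gcl v 9) (wval v wz) s ∨ Cj (gcl v 9) (wval v wd) s ∨ Cj (gcl v 9) (wval v wx) s ∨
      Cj (gcl v 9) (wval v wx') s ∨ Cj (gcl v 9) (wval v we) s ∨ Cj (gcl v 9) (wval v wk) s := by
  obtain ⟨c, h1, h2⟩ := h.e.alld tS_ok _ k_cls hs
  exact ((h2 ((h.e.o3 h1).1 s3)).resolve_left fun e => s1 ((h.e.iff h1 h.e.one).2 e)).imp
    (h.e.ocj oz_ok h1) (Or.imp (h.e.ocj od_ok h1) (Or.imp (h.e.ocj ox_ok h1)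
    (Or.imp (h.e.ocj oxp_ok h1) (Or.imp (h.e.ocj oe_ok h1) (h.e.ocj ok_ok h1)))))

theorem nloc (w : List ℕ) (hw : wval v w ∈ Qz (wval v wz)) (k : Wl 20 w ∧ (¬ ∃ a ∈ p3 wz, wc w = wc a) ∧
    wc (w ++ ([10, 14] ++ w ++ invW [10, 14])) ≠ wc ([10, 14] ++ w ++ invW [10, 14] ++ w)) : ¬ Loc (wval v w) := by
  refine not_loc h.loc hw (fun e => k.2.1 ((h.e.zp_iff (h.e.wd w k.1)).1 e))
    (h.cz ▸ h.e.wmem tC7_ok [10, 14] (by decide +kernel)) ?_
  have l : Wl 20 ([10, 14] ++ w ++ invW [10, 14]) := fun c hc => by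
    simp only [List.mem_append] at hc
    rcases hc with (hc | hc) | hc
    exacts [(by decide : Wl 20 [10, 14]) c hc, k.1 c hc, (by decide : Wl 20 (invW [10, 14])) c hc]
  have := h.e.wne _ _ ⟨fun c hc => (List.mem_append.1 hc).elim (k.1 c) (l c),
    fun c hc => (List.mem_append.1 hc).elim (l c) (k.1 c), k.2.2⟩
  simpa only [wval_append, wval_invW] using this

theorem nx : ¬ Loc (wval v wx) :=
  h.nloc wx (wval_append v wd wv1 ▸ mul_mem (h.q _ (by simp)) (h.q _ (by simp))) (by decide +kernel)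

theorem nx' : ¬ Loc (wval v wx') := fun e => h.tw.nx (wval_tw h.h0 wx ▸ e)

theorem eQ : wval v we ∈ Qz (wval v wz) :=
  wval_append v wv2 wd ▸ mul_mem (h.q _ (by simp)) (h.q _ (by simp))

theorem ne : ¬ Loc (wval v we) := h.nloc we h.eQ (by decide +kernel)

theorem sig {P : Subgroup G} (h1 : wval v wz ∈ P) (h2 : wval v wv1 ∈ P) : Sig3 P := fun K h3 hn => by
  have c : ∀ w, Wl 20 w ∧ oz.mem (wc w) = true → ∀ m ∈ K, m * wval v w = wval v w * m → m ∈ gcl v 9 :=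
    fun w hw m _ e => (h.e.owcj oz_ok w hw).C1_le h.czM (mem_C1.2 e)
  have hK : K ≤ gcl v 9 := (h.e.b9 wz wv1 (by decide +kernel)).gen (hn _ h1) (hn _ h2) h3
    (c _ (by decide +kernel)) (c _ (by decide +kernel))
    (wval_append v wz wv1 ▸ c _ (by decide +kernel))
    (wval_invW v wv1 ▸ wval_append v wz _ ▸ c _ (by decide +kernel))
  have k : ∀ a ∈ P, a ∈ wcl v tV.Ws → K ≤ C1 a := fun a ha hV m hm => by
    have := eq_one_of_pow_of_not_dvd Nat.prime_three (mul_mem (inv_mem hm) (hn a ha m hm))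
      (h.e.exp tV_ok k_Ve (by
        simpa only [mul_assoc, inv_inv] using mul_mem (h.e.nV _ (inv_mem (hK hm)) a hV) (inv_mem hV))) h3
    rw [inv_mul_eq_one, eq_mul_inv_iff_mul_eq] at this
    exact mem_C1.2 this
  exact eq_bot_iff.2 fun m hm => eq_one_of_coprime_of_mem (h.e.pg tS_ok 6)
    (h.e.sig (h.cz ▸ k _ h1 (mem_wcl wz) hm) (k _ h2 (mem_wcl wv1) hm))
    (coprime_of_mem ((Nat.Prime.coprime_iff_not_dvd Nat.prime_three).2 h3).symm hm)

theorem ce : C1 (wval v we) ≤ gcl v 9 := by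
  have hP := h.e.ocent oe_ok tPe_ok (by decide +kernel) h.card.le
  have PQ : wcl v tPe.Ws ≤ Qz (wval v wz) := wcl_le (by
    simpa [tPe] using ⟨h.loc.mem, h.q _ (by simp), h.q _ (by simp), h.eQ⟩)
  have mx : ∀ {T : Tb}, T.Ok 20 → T.m = 27 → T.all (fun c => decide (pmul c (pmul c c) = o1)) = true →
      (∀ w ∈ T.Ws, ∀ a ∈ T.Ws, pmul (wc a) (wc w) = pmul (wc w) (wc a)) →
      (∀ w ∈ T.Ws, w ∈ tPe.Ws) → wcl v T.Ws ≤ Jt 3 (wcl v tPe.Ws) := fun hT m h1 h2 h3 =>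
    MaxEl.le_Jt ⟨wcl_mono h3, ⟨ab_iff.1 (h.e.ab hT h2), fun _ => h.e.exp hT h1⟩, fun B h4 h5 =>
      (h.loc.ab_le (h4.trans PQ) (ab_iff.2 h5.1)).trans ((h.e.card hT).trans m).ge⟩
  refine (thom (h.e.pg tPe_ok 4) (hP.ge.trans inf_le_right) (z := wval v wz) ⟨mem_wcl wz, h.loc.cube,
    fun x hx => mem_C1.1 (Qz_le _ (PQ hx))⟩ (fun g hg => hP.le ⟨h.czM hg.2, hg.1⟩)
    (fun B h1 h2 g hg => hP.le ⟨h.nz ?_, hg.1⟩) (h.sig (mem_wcl wz) (mem_wcl wv1))).trans (h.tM tPe_ok)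
  have := h.loc.der _ (PQ (h2 (conj_mem_of_mem_N hg.2 (h1 (mx tA2_ok rfl k_A2e (by decide +kernel)
    (by decide) (mem_wcl ww)))))) _ (PQ (h2 (conj_mem_of_mem_N hg.2 (h1 (mx tA1_ok rfl k_A1e
    (by decide +kernel) (by decide) (mem_wcl wv1))))))
  convert this using 1
  have e := h.e.wcj ww wv1 (wz ++ wv1) (by decide +kernel)
  rw [wval_append, ← mul_inv_eq_iff_eq_mul] at e
  rw [← e]
  group

theorem ctl {H : Subgroup G} (hH : gcl v 9 ≤ H) (hd : Loc (wval v wd) → Cj H (wval v wz) (wval v wd))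
    (hk : ¬ Loc (wval v wk)) : Ctl H (wval v wz) := fun g hg => by
  obtain ⟨s, h1, h2⟩ := syl_conj (h.sylS.of_le ((h.tM tS_ok).trans hH) le_top) hg
    (h.loc.conj' g).cube
  have h3 := h2.symm.loc (h.loc.conj' g)
  have h4 : Cj H (wval v wz) s := by
    rcases h.cls h1 h3.cube h3.ne with e | e | e | e | e | e
    exacts [e.mono hH, (hd (e.symm.loc h3)).trans (e.mono hH), absurd (e.symm.loc h3) h.nx,
      absurd (e.symm.loc h3) h.nx', absurd (e.symm.loc h3) h.ne, absurd (e.symm.loc h3) hk]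
  obtain ⟨k, h5, h6⟩ := h4.trans h2
  refine (mul_mem_cancel_left (inv_mem h5)).1 (hH (h.czM (mem_C1_iff_conj.2 ?_)))
  calc _ = k⁻¹ * (g * wval v wz * g⁻¹) * k := by group
    _ = _ := by rw [← h6]; group

theorem cR {b : G} (hb : b ∈ wcl v tR.Ws) (hJ : b ∉ wcl v tJ.Ws) :
    C1 (wval v wx) ⊓ C1 b ≤ gcl v 9 := fun g hg => by
  obtain ⟨c, h1, e | e | ⟨a, ha, e⟩⟩ := h.e.alld tR_ok _ k_R hb
  · exact absurd (h.e.of_mem tJ_ok h1 e) hJ
  · exact (h.e.ocj oz_ok (h.e.cube h1) e).C1_le h.czM (C1_le_C1_pow _ _ hg.2)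
  · exact (h.e.ocj oe_ok (h.e.mul h1 (h.e.wp3 ha)) e).C1_le h.ce
      (mem_C1_comm.1 (mul_mem (mem_C1_comm.1 hg.2) (zpowers_le.2 (mem_C1_comm.1 hg.1) (p3_zp v ha))))

theorem se {H : Subgroup G} (hH : gcl v 9 ≤ H) (hz : Ctl H (wval v wz)) (hd : C1 (wval v wd) ≤ H)
    (hx : C1 (wval v wx) ≤ H) (hx' : C1 (wval v wx') ≤ H) (hk : C1 (wval v wk) ≤ H) : SE 3 H := by
  have hS := (h.tM tS_ok).trans hH
  refine se_of Nat.prime_three h.sylS hS (fun g hg => hz.nrm (mem_wcl wz) hS (mem_N.2 hg))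
    fun s h1 h2 h3 g hg => ?_
  rcases h.cls h1 h3 h2 with e | e | e | e | e | e <;> refine (e.mono hH).C1_le ?_ (mem_C1.2 hg)
  exacts [h.czM.trans hH, hd, hx, hx', h.ce.trans hH, hk]

end Ctx

end CfsgH1.L43
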