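import Cfsg.Agent.H1.L43DatH
import Cfsg.Agent.H1.PSLSimple

/-! The models of the parabolic subgroup and of `PSL₄(3)` inside a group. -/

set_option autoImplicit false
set_option maxRecDepth 100000
set_option linter.unusedSectionVars false

namespace CfsgH1.L43

open CfsgH3.TC CfsgH8 CfsgH9 Subgroup CfsgH5 CfsgH6 CfsgFT CfsgH7

universe u

variable {G : Type u} [Group G] [Finite G]

theorem p3_zp (v : ℕ → G) {w a : List ℕ} (ha : a ∈ p3 w) : wval v a ∈ zpowers (wval v w) := by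
  simp only [p3, List.mem_cons, List.not_mem_nil, or_false] at ha
  rcases ha with rfl | rfl | rfl
  · exact one_mem _
  · exact mem_zpowers _
  · rw [wval_append]; exact mul_mem (mem_zpowers _) (mem_zpowers _)

theorem zp_p3 {v : ℕ → G} {w : List ℕ} (h : wval v w ^ 3 = 1) {g : G} (hg : g ∈ zpowers (wval v w)) :
    ∃ a ∈ p3 w, g = wval v a := by
  obtain ⟨c, rfl⟩ := exists_val h hg
  rcases val_cases c with rfl | rfl | rfl
  · exact ⟨[], by simp [p3], by simp⟩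
  · exact ⟨w, by simp [p3], by simp [ZMod.val_one]⟩
  · exact ⟨w ++ w, by simp [p3], by rw [wval_append, show (-1 : F3).val = 2 from rfl, pow_two]⟩

theorem wcl_D9 (v : ℕ → G) (a b : List ℕ) : wcl v [a, b] = D9 (wval v a) (wval v b) :=
  le_antisymm (wcl_le (by simp [left_mem_D9, right_mem_D9]))
    (D9_le (mem_wcl a (by simp)) (mem_wcl b (by simp)))

theorem syl_conj {p : ℕ} [Fact p.Prime] {P H : Subgroup G} (hP : SylIn p P H) {t : G} (ht : t ∈ H)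
    (tp : t ^ p = 1) : ∃ s ∈ P, Cj H s t := by
  obtain ⟨g, h1, h2⟩ := hP.exists_le_cj (zpowers_le.2 ht) (pg_zp tp)
  exact ⟨_, mem_cj.1 (h2 (mem_zpowers t)), g, h1, by group⟩

theorem Cj.pow {H : Subgroup G} {a g : G} (h : Cj H a g) (n : ℕ) : a ^ n = 1 ↔ g ^ n = 1 := by
  obtain ⟨k, -, rfl⟩ := h
  rw [conj_pow, conj_eq_one_iff]

theorem Cj.one {H : Subgroup G} {a g : G} (h : Cj H a g) : a = 1 ↔ g = 1 := by simpa using h.pow 1

theorem Cj.mem {H : Subgroup G} {a g : G} (h : Cj H a g) (ha : a ∈ H) : g ∈ H := by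
  obtain ⟨k, hk, rfl⟩ := h
  exact mul_mem (mul_mem hk ha) (inv_mem hk)

theorem Cj.loc {H : Subgroup G} {a g : G} (h : Cj H a g) (ha : Loc a) : Loc g := by
  obtain ⟨k, -, rfl⟩ := h
  exact ha.conj' k

namespace Env

variable {v : ℕ → G} {b : ℕ} {R : G → ℕ → Prop} (e : Env v b R)
include e

theorem wp3 {w a : List ℕ} (ha : a ∈ p3 w) (hw : Wl b w := by decide) : R (wval v a) (wc a) := by
  refine e.wd a fun c hc => hw c ?_
  simp only [p3, List.mem_cons, List.not_mem_nil, or_false] at ha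
  rcases ha with rfl | rfl | rfl <;> simp_all

theorem w3 (w : List ℕ) (h : Wl b w ∧ pmul (wc w) (pmul (wc w) (wc w)) = o1) : wval v w ^ 3 = 1 :=
  (e.o3 (e.wd w h.1)).2 h.2

theorem w2 (w : List ℕ) (h : Wl b w ∧ pmul (wc w) (wc w) = o1) : wval v w * wval v w = 1 :=
  (e.o2 (e.wd w h.1)).2 h.2

theorem w1 (w : List ℕ) (h : Wl b w ∧ wc w ≠ o1) : wval v w ≠ 1 := fun h1 =>
  h.2 ((e.iff (e.wd w h.1) e.one).1 h1)

theorem zp_iff {w : List ℕ} {g : G} {c : ℕ} (hg : R g c)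
    (h : Wl b w ∧ pmul (wc w) (pmul (wc w) (wc w)) = o1 := by decide +kernel) :
    g ∈ zpowers (wval v w) ↔ ∃ a ∈ p3 w, c = wc a :=
  ⟨fun h1 => let ⟨a, h2, h3⟩ := zp_p3 (e.w3 w h) h1
    ⟨a, h2, e.fn hg (h3 ▸ e.wp3 h2 h.1)⟩, fun ⟨_, h2, h3⟩ =>
    e.inj hg (h3 ▸ e.wp3 h2 h.1) ▸ p3_zp v h2⟩

theorem b9 (a c : List ℕ) (h : (Wl b a ∧ pmul (wc a) (pmul (wc a) (wc a)) = o1) ∧
    (Wl b c ∧ pmul (wc c) (pmul (wc c) (wc c)) = o1) ∧ pmul (wc a) (wc c) = pmul (wc c) (wc a) ∧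
    wc a ≠ o1 ∧ ¬ ∃ x ∈ p3 a, wc c = wc x) : B9 (wval v a) (wval v c) :=
  ⟨e.w3 a h.1, e.w3 c h.2.1, (e.cm (e.wd a h.1.1) (e.wd c h.2.1.1)).2 h.2.2.1,
    e.w1 a ⟨h.1.1, h.2.2.2.1⟩, fun h1 => h.2.2.2.2 ((e.zp_iff (e.wd c h.2.1.1) h.1).1 h1)⟩

theorem tle {T T' : Tb} (hT : T.Ok b) (hT' : T'.Ok b) (h : ∀ w ∈ T.Ws, T'.mem (wc w) = true) :
    wcl v T.Ws ≤ wcl v T'.Ws := wcl_le fun w hw => e.wmem hT' w ⟨hT.lt w hw, h w hw⟩

end Env

namespace Env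

variable {v : ℕ → G} {R : G → ℕ → Prop} (e : Env v 20 R)
include e

theorem nV : Nrm (gcl v 9) (wcl v tV.Ws) :=
  gcl_eq v 9 ▸ e.nrm (n := 9) tV_ok _ (by decide +kernel)

theorem Vz {g : G} (hg : g ∈ wcl v tV.Ws) : g = 1 ∨ Cj (gcl v 9) (wval v wz) g := by
  obtain ⟨c, h1, h2⟩ := e.alld tV_ok _ k_V hg
  exact h2.imp (e.iff h1 e.one).2 fun h => e.ocj oz_ok h1 h

theorem sig {g : G} (hg : g ∈ wcl v tC7.Ws) (h : g ∈ C1 (wval v wv1)) : g ∈ wcl v tS.Ws := by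
  obtain ⟨c, h1, h2⟩ := e.alld tC7_ok _ k_sig hg
  exact e.of_mem tS_ok h1 (h2 ((e.cm h1 (e.wd _ (by decide))).1 (mem_C1.1 h)))

theorem CV (hc : Nat.card (gcl v 9) ≤ 151632) {g : G} (hg : g ∈ gcl v 9) (h : g ∈ C (wcl v tV.Ws)) :
    g ∈ wcl v tV.Ws := by
  have h1 := e.sig ((e.ocent oz_ok tC7_ok (by decide +kernel) hc).le
    ⟨hg, C_le_C1 (mem_wcl wz) h⟩) (C_le_C1 (mem_wcl wv1) h)
  obtain ⟨c, h2, h3⟩ := e.alld tS_ok _ k_cV h1
  exact e.of_mem tV_ok h2 (h3 ((e.cm h2 (e.wd _ (by decide))).1 (mem_C1.1 (C_le_C1 (mem_wcl wv1) h)))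
    ((e.cm h2 (e.wd _ (by decide))).1 (mem_C1.1 (C_le_C1 (mem_wcl wv2) h))))

theorem nrm_bot (hc : Nat.card (gcl v 9) ≤ 151632) {K : Subgroup G} (hK : NormalIn K (gcl v 9))
    (hz : wval v wz ∉ K) : K = ⊥ := by
  have h1 : ∀ g ∈ K, g ∈ wcl v tV.Ws → g = 1 := fun g h1 h2 => (e.Vz h2).resolve_right fun h3 => by
    obtain ⟨k, h4, h5⟩ := h3.symm
    exact hz (h5 ▸ hK.2 k h4 g h1)
  refine eq_bot_iff.2 fun g hg => h1 g hg (e.CV hc (hK.1 hg) (mem_C.2 fun a ha => ?_))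
  have := h1 (a * g * a⁻¹ * g⁻¹) (mul_mem (hK.2 a (wcl_gcl e.h0 9 (by decide) ha) g hg) (inv_mem hg))
    (by simpa only [mul_assoc] using mul_mem ha (e.nV g (hK.1 hg) _ (inv_mem ha)))
  rwa [mul_inv_eq_one, mul_inv_eq_iff_eq_mul] at this

end Env

theorem wm_wval {n : ℕ} {v : ℕ → G} {ψ : gcl vK n →* G} (h : WM pM pT vK 12 n v ψ) {w : List ℕ}
    (hw : Wl (2 * n + 2) w) : ψ ⟨wval vK w, wval_mem_gcl vK0 hw⟩ = wval v w := by
  obtain ⟨x, h1, h2⟩ := h.rep w hw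
  have := h.lt
  rw [← h1, ← tab.enc_wval fun c hc => (hw c hc).trans_le (by omega)] at *
  congr 1
  exact Subtype.ext (pM.enc_inj h2).symm

theorem wm9 {v : ℕ → G} (h0 : v 0 = 1) (hR : RelsHold v R9) (hz : wval v wz ≠ 1) :
    ∃ ψ, WM pM pT vK 12 9 v ψ ∧ Function.Injective ψ := by
  obtain ⟨ψ, hψ⟩ := exists_wm (val := v) (n := 9) tab (by norm_num) vK0 h0
    (bd9 (Prod.ext (subVal_zero _ _) h0) ((rK9.subVal vK0 (by decide)).prod hR)) card9.ge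
  refine ⟨ψ, hψ, (MonoidHom.ker_eq_bot_iff ψ).1 ?_⟩
  rw [← map_eq_bot_iff_of_injective _ (subtype_injective _)]
  refine (env_K.mono (by norm_num)).nrm_bot card9.le ⟨map_subtype_le _, ?_⟩ ?_
  · rintro a ha _ ⟨x, hx, rfl⟩
    exact ⟨_, ψ.normal_ker.conj_mem x hx ⟨a, ha⟩, rfl⟩
  · rintro ⟨x, h1, h2⟩
    refine hz ((wm_wval hψ (by decide)).symm.trans ?_)
    exact (congrArg ψ (Subtype.ext h2.symm)).trans h1

theorem wm11 {v : ℕ → G} (h0 : v 0 = 1) (hR : RelsHold v R11) (hz : wval v wz ≠ 1) :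
    ∃ ψ, WM pM pT vK 12 11 v ψ ∧ Function.Injective ψ := by
  obtain ⟨ψ, hψ⟩ := exists_wm (val := v) (n := 11) tab (by norm_num) vK0 h0
    (bd11 (Prod.ext (subVal_zero _ _) h0) ((rK11.subVal vK0 (by decide)).prod hR)) card11.ge
  refine ⟨ψ, hψ, (MonoidHom.ker_eq_bot_iff ψ).1 ?_⟩
  have : IsSimpleGroup PS := CfsgH1.isSimpleGroup_psl (by simp)
  have : IsSimpleGroup (gcl vK 11) := gcl_top ▸ topEquiv.isSimpleGroup
  refine ψ.normal_ker.eq_bot_or_eq_top.resolve_right fun e => hz ?_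
  rw [← wm_wval hψ (w := wz) (by decide)]
  exact e.ge (mem_top _)

theorem wm_iso {n : ℕ} {v : ℕ → G} {ψ : gcl vK n →* G} (h : WM pM pT vK 12 n v ψ)
    (hψ : Function.Injective ψ) : Nonempty (gcl vK n ≃* gcl v n) :=
  ⟨(MonoidHom.ofInjective hψ).trans (MulEquiv.subgroupCongr h.range)⟩

end CfsgH1.L43
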