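import Cfsg.Agent.H1.L43B2

/-! The parabolic subgroup of `PSL₄(3)` and the conclusion. -/

set_option autoImplicit false
set_option maxRecDepth 100000
set_option linter.unusedSectionVars false

namespace CfsgH1.L43

open CfsgH3.TC CfsgH8 CfsgH9 Subgroup CfsgH5 CfsgH6 CfsgFT CfsgH7

universe u

def dcL : List (List ℕ × List ℕ) := [([], []), ([6, 12, 16, 12, 16], [6]), ([10, 15], [14, 11]), ([11, 14], [15, 10]), ([], [7]), ([], [14]), ([], [15]), ([], [18]), ([], [19]), ([14, 10, 14], [15, 11]), ([15, 11, 15], [14, 10]), ([18, 8, 18], [19, 9]), ([19, 9, 19], [18, 8]), ([10, 15], [14, 5, 11]), ([10, 15], [14, 11, 16]), ([10, 15], [14, 11, 17]), ([11, 14], [15, 10, 16]), ([11, 14], [15, 10, 17]), ([], [7, 14]), ([], [7, 15]), ([], [7, 18]), ([], [7, 19]), ([], [14, 16]), ([], [14, 17]), ([], [15, 16]), ([], [15, 17]), ([], [18, 9]), ([], [19, 8]), ([14, 10, 14], [15, 11, 16]), ([14, 10, 14], [15, 11, 17]),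 ([15, 11, 15], [14, 10, 16]), ([15, 11, 15], [14, 10, 17]), ([10, 15], [14, 5, 11, 16]), ([10, 15], [14, 5, 11, 17]), ([], [7, 14, 16]), ([], [7, 14, 17]), ([], [7, 15, 16]), ([], [7, 15, 17]), ([], [7, 18, 9])]

theorem coatom9 : IsCoatom (gcl vK 9) := by
  refine ⟨fun e => absurd ((e ▸ card9 :).symm.trans (card_top.trans card_PS)) (by norm_num), fun K hK => ?_⟩
  obtain ⟨g, h1, h2⟩ := SetLike.exists_of_lt hK
  obtain ⟨ω, h3, h4⟩ := l11_cos vK0 rK11 g (gcl_top ▸ mem_top g)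
  have m : ∀ w, Wl 20 w → wval vK w ∈ K := fun w hw => hK.le (wval_mem_gcl vK0 hw)
  rcases (by decide +kernel : ∀ ω ∈ l11W, ω = [] ∨ ∃ p ∈ dcL, Wl 20 p.1 ∧ Wl 20 p.2 ∧ Wl 24 ω ∧
    Wl 24 (p.1 ++ w32 ++ p.2) ∧ wc ω = wc (p.1 ++ w32 ++ p.2)) ω h3 with rfl | ⟨p, -, p1, p2, p3⟩
  · exact absurd (by simpa using h4) h2
  have h5 := (mul_mem_cancel_left h1).1 (hK.le h4)
  rw [Subgroup.inv_mem_iff, env_K.weq _ _ p3, wval_append, wval_append, mul_mem_cancel_right (m _ p2),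
    mul_mem_cancel_left (m _ p1)] at h5
  rw [eq_top_iff, ← gcl_top]
  refine gcl_le fun a a1 a2 => ?_
  rw [← wval_single vK a]
  rcases (by omega : a ≤ 9 ∨ a = 10 ∨ a = 11) with e | rfl | rfl
  · exact m _ fun c hc => by simp at hc; omega
  · exact h5
  · rw [env_K.weq _ (w32 ++ w21 ++ invW w32 ++ invW w21) (by decide +kernel)]
    simp only [wval_append, wval_invW]
    exact mul_mem (mul_mem (mul_mem h5 (m _ (by decide))) (inv_mem h5)) (inv_mem (m _ (by decide)))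

theorem op9 : Op 3 (gcl vK 9) = wcl vK tV.Ws := by
  have e : Env vK 20 _ := env_K.mono (by norm_num)
  have n := normalIn_Op 3 (gcl vK 9)
  have l := (syl_card (p := 3) (n := 6) (m := 208) (wcl_gcl vK0 9 tS_ok.lt) (e.card tS_ok) card9
    (by norm_num)).Op_le Nat.prime_three
  refine le_antisymm (fun g hg => ?_) (le_Op (wcl_gcl vK0 9 tV_ok.lt) e.nV (e.pg tV_ok 3))
  obtain ⟨c, h1, h2⟩ := e.alld tS_ok _ (by decide +kernel : tS.all (fun c => decide (tS.mem (pmul (pmul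
    (wc [12, 17, 12, 10, 15, 10, 12, 17, 12]) c) (wc (invW [12, 17, 12, 10, 15, 10, 12, 17, 12]))) = true →
    tV.mem c = true)) = true) (l hg)
  refine e.of_mem tV_ok h1 (h2 ((e.mem tS_ok (e.mul (e.mul (e.wd _ (by decide)) h1)
    (e.wd _ (by decide)))).1 ?_))
  rw [wval_invW]
  exact l (n.2 _ (wval_mem_gcl vK0 (by decide)) g hg)

theorem card_op9 : Nat.card (Cfsg.pCore 3 (gcl vK 9)) = 27 := by
  rw [← card_map_of_injective (subtype_injective _)]
  exact (congrArg (fun K : Subgroup PS => Nat.card K) op9).trans (env_K.card tV_ok.up)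

abbrev SL33 : Type := Matrix.SpecialLinearGroup (Fin 3) (ZMod 3)

theorem card_SL33 : Nat.card SL33 = 5616 := by
  have h1 := CfsgH3.card_SL_mul (F := ZMod 3) (n := Fin 3)
  rw [Matrix.card_GL_field, Nat.card_zmod] at h1
  simp [Fin.prod_univ_succ] at h1
  rw [Nat.card_eq_fintype_card (α := Matrix.SpecialLinearGroup _ _)]
  omega

theorem quo9 : Nonempty (gcl vK 9 ⧸ Cfsg.pCore 3 (gcl vK 9) ≃* SL33) := by
  let v : ℕ → SL33 := vl (fun _ => 1) fun i j => el i j 1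
  have hR : RelsHold v R9 := by unfold RelsHold; decide +kernel
  obtain ⟨ψ, hψ⟩ := exists_wm (val := v) (n := 9) tab (by norm_num) vK0 rfl
    (bd9 (Prod.ext (subVal_zero _ _) rfl) ((rK9.subVal vK0 (by decide)).prod hR)) card9.ge
  have h1 : Function.Surjective ψ := MonoidHom.range_eq_top.1 (hψ.range.trans (mem_of_el fun i j t => by
    obtain ⟨w, -, p, q⟩ := (by decide +kernel : ∀ i j : Fin 3, ∀ t : ZMod 3,
      ∃ w ∈ [] :: (List.range 20).map fun c => [c], Wl 20 w ∧ wval v w = el i j t) i j t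
    exact q ▸ wval_mem_gcl rfl p))
  have h2 : Cfsg.pCore 3 (gcl vK 9) = ψ.ker := eq_of_le_of_card_le (fun g hg => by
    have : wcl vK tV.Ws ≤ ψ.ker.map (gcl vK 9).subtype := wcl_le fun w hw =>
      ⟨_, (wm_wval hψ (tV_ok.lt w hw)).trans (by revert w; decide +kernel), rfl⟩
    obtain ⟨k, p, q⟩ := this (op9.le (mem_map_of_mem _ hg))
    exact Subtype.ext q ▸ p) (by
    have := card_eq_card_quotient_mul_card_subgroup ψ.ker
    rw [Nat.card_congr (QuotientGroup.quotientKerEquivOfSurjective ψ h1).toEquiv, card_SL33, card9] at this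
    rw [card_op9]
    omega)
  exact ⟨(QuotientGroup.quotientMulEquivOfEq h2).trans (QuotientGroup.quotientKerEquivOfSurjective ψ h1)⟩

variable {G : Type u} [Group G] [Finite G]

theorem main {z y : G} (hz : Loc z) (hy : Loc y) (yQ : y ∈ Qz z) (yZ : y ∉ zpowers z)
    (hs : ∀ P : Subgroup G, IsPGroup 3 P → Nat.card P ≤ 729) :
    Nonempty (G ≃* PS) ∨ Nonempty (G ≃* gcl vK 9) := by
  obtain ⟨w, A, h1⟩ := exists_bas hz hy yQ yZ
  obtain ⟨t, h2⟩ := h1.exists_frame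
  obtain ⟨x, h3, h4⟩ := h2.exists_st
  have e : wval (vl ![z, y, w] x) wz = z := wval_single _ 1
  have h : Ctx (vl ![z, y, w] x) := ⟨rfl, h3.rels, e.symm ▸ hz, fun a ha => by
    simp only [List.mem_cons, List.not_mem_nil, or_false] at ha
    rw [e]
    rcases ha with rfl | rfl | rfl | rfl
    · exact (wval_single (vl ![z, y, w] x) 2).symm ▸ (h1.mem 1).1
    · exact (wval_single (vl ![z, y, w] x) 3).symm ▸ (h1.mem 2).1
    · exact (wval_single (vl ![z, y, w] x) 4).symm ▸ (h1.good 0).AQ (h4 0 2 (by decide)).1.1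
    · exact (wval_single (vl ![z, y, w] x) 6).symm ▸ (h1.good 0).AQ (h4 0 1 (by decide)).1.1, hs⟩
  by_cases hd : Loc (wval (vl ![z, y, w] x) wd)
  · obtain ⟨a, b, h5⟩ := h.exB hd
    obtain ⟨f⟩ := h5.isoB
    exact Or.inl ⟨topEquiv.symm.trans (((MulEquiv.subgroupCongr h5.topB).symm.trans f.symm).trans
      ((MulEquiv.subgroupCongr gcl_top).trans topEquiv))⟩
  · obtain ⟨f⟩ := h.iso
    exact Or.inr ⟨topEquiv.symm.trans ((MulEquiv.subgroupCongr (h.topA hd)).symm.trans f.symm)⟩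

theorem loc0_of {z : G} (z1 : z ≠ 1) (h1 : Cfsg.IsExtraspecial 3 (Qz z)) (h2 : Nat.card (Qz z) = 3 ^ 5)
    (h3 : ∀ a ∈ Qz z, a ^ 3 = 1) (h4 : C (Qz z) ≤ Qz z) (e : C1 z ⧸ Cfsg.pCore 3 (C1 z) ≃* SL23) :
    Loc0 z ∧ Z (Qz z) = zpowers z := by
  classical
  have zC : z ∈ C (Qz z) := le_C1_iff.1 (Qz_le z)
  have m : ∀ a : Qz z, a ∈ center (Qz z) ↔ a.1 ∈ Z (Qz z) := fun a => by
    rw [mem_center_iff]
    exact ⟨fun h => ⟨a.2, fun b hb => congrArg Subtype.val (h ⟨b, hb⟩)⟩, fun h b => Subtype.ext (h.2 b b.2)⟩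
  have h5 : Z (Qz z) = zpowers z := eq_zpowers_of_prime_card (by
    rw [show Z (Qz z) = (center (Qz z)).map (Qz z).subtype from ext fun a =>
      ⟨fun h => ⟨⟨a, h.1⟩, (m _).2 h, rfl⟩, by rintro ⟨b, h, rfl⟩; exact (m b).1 h⟩,
      card_map_of_injective (subtype_injective _), h1.2]
    norm_num) ⟨h4 zC, zC⟩ z1
  refine ⟨⟨z1, h2, h3, h4 zC, fun a ha h => h5.le ⟨ha, fun b hb => (h b hb).symm⟩, fun a ha b hb =>
    h5.le ((m (⟨a, ha⟩ * ⟨b, hb⟩ * ⟨a, ha⟩⁻¹ * ⟨b, hb⟩⁻¹)).1 (h1.1.2.2 ▸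
      commutator_mem_commutator (mem_top _) (mem_top _))),
    fun g => if h : g ∈ C1 z then e (QuotientGroup.mk ⟨g, h⟩) else 1, fun a ha b hb => ?_,
    fun s => ?_, fun g hg => ?_⟩, h5⟩
  · rw [dif_pos ha, dif_pos hb, dif_pos (mul_mem ha hb), ← map_mul]; rfl
  · obtain ⟨g, hg⟩ := QuotientGroup.mk_surjective (e.symm s)
    exact ⟨g, g.2, by simp [hg]⟩
  · rw [dif_pos hg, map_eq_one_iff e e.injective, QuotientGroup.eq_one_iff]
    exact ⟨fun h => ⟨_, h, rfl⟩, fun ⟨k, h, e⟩ => (Subtype.ext e : k = ⟨g, hg⟩) ▸ h⟩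

theorem res_top {H : Type u} [Group H] (e : H ≃* SL23) : Cfsg.pResidual 2 H = ⊤ := by
  have h : ∀ a : SL23, a ^ 3 = 1 → a ≠ 1 → e.symm a ∈ Cfsg.pResidual 2 H := fun a h1 h2 =>
    subset_closure (by rw [Set.mem_ofPred_eq, e.symm.orderOf_eq, orderOf_eq_prime h1 h2]; norm_num)
  refine eq_top_iff.2 fun g _ => ?_
  obtain ⟨i, j, k, l, h1⟩ := sl_gen (e g)
  have h2 := h uM (by decide) (by decide)
  have h3 := h lM (by decide) (by decide)
  rw [← e.symm_apply_apply g, h1]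
  simp only [map_mul, map_pow]
  exact mul_mem (mul_mem (mul_mem (pow_mem h2 _) (pow_mem h3 _)) (pow_mem h2 _)) (pow_mem h3 _)

end CfsgH1.L43
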