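import Cfsg.Agent.H1.L43Good

/-! The natural module `V`, the torus and the root elements. -/

set_option autoImplicit false
set_option linter.unusedSectionVars false

namespace CfsgH1.L43

open Subgroup CfsgH5 CfsgH6 CfsgFT CfsgH9 CfsgH9.P43 CfsgH7 Matrix

universe u

variable {G : Type u} [Group G] [Finite G]

structure Good (V : Subgroup G) (w : G) (A : Subgroup G) : Prop where
  loc : Loc w
  VQ : V ≤ Qz w
  wV : w ∈ V
  AQ : A ≤ Qz w
  wA : w ∈ A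
  abV : Ab V
  abA : Ab A
  nV : C1 w ≤ N V
  nA : C1 w ≤ N A
  inf : ∀ a ∈ A, a ∈ V → a ∈ zpowers w
  sig : ∀ q ∈ Qz w, (∀ g ∈ C1 w, q * (g * q * g⁻¹) = g * q * g⁻¹ * q) → q ∈ V ∨ q ∈ A
  ker : ∀ g ∈ C1 w, (∀ v ∈ V, g * v * g⁻¹ * v⁻¹ ∈ zpowers w) → g ∈ Qz w
  dual : ∀ v ∈ V, ∀ v' ∈ V, (∀ i j : F3, v ^ i.val * v' ^ j.val ∈ zpowers w → i = 0 ∧ j = 0) →
    ∀ c c' : F3, ∃ a ∈ A, a * v * a⁻¹ = v * w ^ c.val ∧ a * v' * a⁻¹ = v' * w ^ c'.val
  card : Nat.card V = 27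
  mov : ∀ y ∈ V, y ∉ zpowers w → ∃ g ∈ C1 w, ∀ i j : F3,
    y ^ i.val * (g * y * g⁻¹) ^ j.val ∈ zpowers w → i = 0 ∧ j = 0

theorem Loc.exists_t {z y : G} (hy : Loc y) (zQ : z ∈ Qz y) (h1 : z ∉ zpowers y) :
    ∃ t ∈ C1 y, t * z * t⁻¹ = z⁻¹ ∧ ∀ q ∈ Qz y, t * q * t⁻¹ * q ∈ zpowers y := by
  obtain ⟨t, ht, h2⟩ := hy.exists_n
  have h3 := hy.neg t ht (by simpa using (h2 1 (one_mem _)).1) (by simpa using (h2 1 (one_mem _)).2)
    z zQ
  obtain ⟨q, hq, e⟩ := hy.exists_conj zQ h1 h3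
  refine ⟨q * t, mul_mem (Qz_le y hq) ht, ?_, hy.neg _ (mul_mem (Qz_le y hq) ht) (h2 q hq).1 (h2 q hq).2⟩
  have e1 := hy.zp_comm h3 (Qz_le y hq)
  have e2 := hy.zp_comm h3 (Qz_le y zQ)
  calc _ = q * (t * z * t⁻¹ * z) * q⁻¹ * (q * z * q⁻¹)⁻¹ := by group
    _ = _ := by rw [e, e1]; generalize t * z * t⁻¹ * z = c; group

theorem sl_mov : ∀ u : V2, u ≠ 0 → ∃ M : SL23, ∀ i j : F3, i • u + j • (M.1 *ᵥ u) = 0 →
    i = 0 ∧ j = 0 := by decide +kernel

theorem good_of {z y : G} (hz : Loc z) (hy : Loc y) (yQ : y ∈ Qz z) (yZ : y ∉ zpowers z) :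
    z ∈ Qz y ∧ ∃ A, Good (Qz z ⊓ Qz y) z A := by
  obtain ⟨s, s', π, h⟩ := exists_gen hz.toLoc0 hy.toLoc0 yQ yZ
  obtain ⟨W, _, _, pr, B, hs⟩ := h.hz.exists_sym
  obtain ⟨A, hA⟩ := hs.act s (C1_le_NQ z h.sC)
  obtain ⟨A', hA'⟩ := hs.act s' (C1_le_NQ z h.sC')
  obtain ⟨co, b, hc⟩ := h.exists_co hs hA hA' hz.neg
  set V := hs.pre (LinearMap.range (co ∘ₗ LinearMap.inl F3 V2 V2))
  set X := hs.pre (LinearMap.range (co ∘ₗ LinearMap.inr F3 V2 V2))
  have mV : ∀ q, q ∈ V ↔ q ∈ Qz z ∧ ∃ u, co (u, 0) = pr q := fun q => Iff.rfl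
  have mX : ∀ q, q ∈ X ↔ q ∈ Qz z ∧ ∃ u, co (0, u) = pr q := fun q => Iff.rfl
  have z0 : pr z = 0 := (hs.zero z hz.mem).2 (mem_zpowers z)
  have act : ∀ g ∈ C1 z, ∀ q ∈ Qz z, ∀ u v, co (u, v) = pr q →
      pr (g * q * g⁻¹) = co ((π g).1 *ᵥ u, (π g).1 *ᵥ v) := fun g hg q hq u v e => by
    obtain ⟨M, hM⟩ := hs.act g (C1_le_NQ z hg)
    rw [hM q hq, ← e, hc.act g hg M hM]
  have nV : C1 z ≤ N V := fun g hg => mem_N_of_conj fun q ⟨hq, u, e⟩ =>
    ⟨conj_mem_Qz hg hq, _, by rw [act g hg q hq u 0 e, mulVec_zero]; rfl⟩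
  have abV : Ab V := ab_iff.2 fun p ⟨hp, u, e⟩ q ⟨hq, v, e'⟩ => (hs.comm_iff hp hq).2 (by
    rw [← e, ← e']
    exact (hc.form u 0 v 0).trans (by simp))
  have hE : Qz z ⊓ Qz y = V := by
    refine eq_of_le_of_card_le (fun e he => ?_) (h.card ▸ hz.ab_le (fun _ hq => hq.1) abV)
    obtain ⟨t, tC, t1, t2⟩ := hy.exists_t h.zQ fun e =>
      hz.ne (zp_inf hz.cube hy.cube yZ (mem_zpowers z) e)
    have tN := mem_NQ_of_inv t1
    obtain ⟨Θ, hΘ⟩ := hs.act t tN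
    have k1 : Θ (co (![1, 0], 0)) = co (![1, 0], 0) := by
      rw [← hc.y, ← hΘ y yQ, mem_C1_iff_conj.1 tC]
    obtain ⟨-, u, k2⟩ := conj_mem_of_mem_N (nV (x := t * s' * t⁻¹) (by
      rw [← C1_inv, ← t1, ← cj_C1]; exact conj_mem_cj.2 h.sC')) ((mV y).2 ⟨yQ, _, hc.y.symm⟩)
    rw [show t * s' * t⁻¹ * y * (t * s' * t⁻¹)⁻¹ = t * (s' * (t⁻¹ * y * t⁻¹⁻¹) * s'⁻¹) * t⁻¹ by group,
      mem_C1_iff_conj.1 (inv_mem tC), hΘ _ (conj_mem_Qz h.sC' yQ), act _ h.sC' y yQ _ _ hc.y.symm,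
      h.ps'] at k2
    have k3 : Θ (co (![0, 1], 0)) = co (u - ![1, 0], 0) := by
      have : ((![0, 1], 0) : V2 × V2) = (lM.1 *ᵥ ![1, 0], lM.1 *ᵥ 0) - (![1, 0], 0) := by decide
      rw [this, map_sub, map_sub, ← k2, k1]
      exact (map_sub co (u, 0) (![1, 0], 0)).symm.trans (by simp)
    have k4 := hs.ac_eq tN (g := s * (t * s)) (by
      have := conj_mem_Qz h.sC (zpowers_le.2 yQ (t2 s h.sQ))
      convert this using 1
      group) (hs.ac_mul (mul_mem tN (C1_le_NQ z h.sC)) hA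
        (hs.ac_mul (C1_le_NQ z h.sC) hΘ hA)) hΘ (co (![0, 1], 0))
    rw [LinearMap.comp_apply, LinearMap.comp_apply, hc.act s h.sC A hA, h.ps,
      show ((uM.1 *ᵥ ![0, 1], uM.1 *ᵥ 0) : V2 × V2) = (![0, 1], 0) + (![1, 0], 0) by decide, map_add,
      map_add, k1, k3, ← map_add, Prod.mk_add_mk, hc.act s h.sC A hA, h.ps] at k4
    have k5 : u 1 = -1 := by
      have := congrArg (fun p => p.1 0) (hc.inj k4)
      simp [uM, Matrix.mulVec, dotProduct, vecHead, vecTail] at this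
      linear_combination this
    obtain ⟨p, q, e1⟩ := hc.surj (pr e)
    obtain ⟨c, e2, -⟩ := h.A_E hs hA he
    rw [e1, hc.act s h.sC A hA, h.ps, hc.y, ← map_sub, ← map_smul] at e2
    have k6 : q 1 = 0 := by
      have := congrArg (fun p => p.2 0) (hc.inj e2)
      simpa [uM, Matrix.mulVec, dotProduct, vecHead, vecTail] using this
    obtain ⟨d, e3⟩ := exists_val hy.cube (t2 e he.2)
    have e4 := congrArg pr e3
    rw [hs.add _ (conj_mem_of_mem_N tN he.1) _ he.1, hΘ e he.1, hs.pow_val yQ, hc.y, e1,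
      ← eq_sub_iff_add_eq, ← map_smul, ← map_sub] at e4
    have e5 := hs.B_act_inv t1 hΘ (co (p, q)) (co (![0, 1], 0))
    rw [e4, k3, Prod.smul_mk, Prod.mk_sub_mk, hc.form, hc.form] at e5
    have k7 : q 0 = 0 := by
      simp [k5, k6] at e5
      exact (by decide : ∀ b q : F3, b ≠ 0 → b * (q * (1 + 0)) = -(b * q) → q = 0) b _ hc.ne
        (by linear_combination e5)
    refine ⟨he.1, p, ?_⟩
    rw [e1, show q = 0 by ext i; fin_cases i <;> simp [k6, k7]]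
    rfl
  refine ⟨h.zQ, X, hz, inf_le_left, ⟨hz.mem, h.zQ⟩, fun _ hq => hq.1, ⟨hz.mem, z0 ▸ zero_mem _⟩,
    h.ab, ab_iff.2 fun p ⟨hp, u, e⟩ q ⟨hq, v, e'⟩ => (hs.comm_iff hp hq).2 ?_, hE ▸ nV,
    fun g hg => mem_N_of_conj fun q ⟨hq, u, e⟩ => ⟨conj_mem_Qz hg hq, _, by
      rw [act g hg q hq 0 u e, mulVec_zero]; rfl⟩, ?_, ?_, ?_, ?_, h.card, ?_⟩
  · rw [← e, ← e']
    exact (hc.form 0 u 0 v).trans (by simp)
  all_goals rw [hE]
  · rintro a ⟨ha, u, e⟩ ⟨-, v, e'⟩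
    have := congrArg Prod.snd (hc.inj (e.trans e'.symm))
    rw [← hs.zero a ha, ← e, show u = 0 from this, map_zero]
  · intro q hq e
    obtain ⟨u, v, e1⟩ := hc.surj (pr q)
    refine (sl_sig u v fun M => ?_).symm.imp (fun e => ⟨hq, u, by rw [e1, e]; rfl⟩)
      fun e => ⟨hq, v, by rw [e1, e]; rfl⟩
    obtain ⟨g, hg, rfl⟩ := h.pi.surj M
    have := (hs.comm_iff hq (conj_mem_Qz hg hq)).1 (e g hg)
    rw [act g hg q hq u v e1.symm, e1, hc.form] at this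
    exact (mul_eq_zero.1 this).resolve_left hc.ne
  · intro g hg e
    refine (h.pi.ker g hg).1 (sl_ker _ fun u => ?_)
    obtain ⟨q, hq, e1⟩ := hs.surj (co (u, 0))
    have := (hs.eq_iff (conj_mem_Qz hg hq) hq).2 (e q ⟨hq, u, e1.symm⟩)
    rw [act g hg q hq u 0 e1.symm, e1] at this
    exact congrArg Prod.fst (hc.inj this)
  · rintro p ⟨hp, u, e⟩ q ⟨hq, u', e'⟩ hi c c'
    replace e : co (u, 0) = pr p := e
    replace e' : co (u', 0) = pr q := e'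
    obtain ⟨v, e1, e2⟩ := sl_dual b u u' c c' hc.ne fun i j e1 => hi i j (by
      rw [← hs.zero _ (mul_mem (pow_mem hp _) (pow_mem hq _)), hs.add _ (pow_mem hp _) _ (pow_mem hq _),
        hs.pow_val hp, hs.pow_val hq, ← e, ← e', ← map_smul, ← map_smul, ← map_add]
      rw [Prod.smul_mk, Prod.smul_mk, Prod.mk_add_mk, e1, smul_zero, smul_zero, add_zero]
      exact map_zero co)
    obtain ⟨a, ha, e3⟩ := hs.surj (co (0, v))
    refine ⟨a, ⟨ha, v, e3.symm⟩, ?_, ?_⟩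
    · rw [hs.conj_eq ha hp, e3, ← e, hc.form, ← e1]; simp
    · rw [hs.conj_eq ha hq, e3, ← e', hc.form, ← e2]; simp
  · rintro p ⟨hp, u, e⟩ h1
    replace e : co (u, 0) = pr p := e
    obtain ⟨M, hM⟩ := sl_mov u fun e1 => h1 ((hs.zero p hp).1 (by rw [← e, e1]; exact map_zero co))
    obtain ⟨g, hg, rfl⟩ := h.pi.surj M
    have hq := conj_mem_Qz hg hp
    refine ⟨g, hg, fun i j e1 => hM i j ?_⟩
    rw [← hs.zero _ (mul_mem (pow_mem hp _) (pow_mem hq _)), hs.add _ (pow_mem hp _) _ (pow_mem hq _),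
      hs.pow_val hp, hs.pow_val hq, act g hg p hp u 0 e, ← e, ← map_smul, ← map_smul, ← map_add,
      ← map_zero co] at e1
    exact congrArg Prod.fst (hc.inj e1)

/-- coordinates in `V` -/
def vv (v : Fin 3 → G) (c : V3) : G := v 0 ^ (c 0).val * v 1 ^ (c 1).val * v 2 ^ (c 2).val

def Act (v : Fin 3 → G) (g : G) (M : M3) : Prop := ∀ c, g * vv v c * g⁻¹ = vv v (M *ᵥ c)

def dM (i : Fin 3) : M3 := Matrix.of fun a b => if a = b then (if a = i then 1 else -1) else 0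
def eM (c : F3) (i j : Fin 3) : M3 :=
  Matrix.of fun a b => if a = b then 1 else if a = i ∧ b = j then c else 0

theorem dM_sq : ∀ i, dM i * dM i = 1 := by decide

theorem Act.mul {v : Fin 3 → G} {g h : G} {A B : M3} (h1 : Act v g A) (h2 : Act v h B) :
    Act v (g * h) (A * B) := fun c => by rw [← mulVec_mulVec, ← h1, ← h2]; group

theorem Act.inv {v : Fin 3 → G} {g : G} {A B : M3} (h1 : Act v g A) (e : A * B = 1) :
    Act v g⁻¹ B := fun c => by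
  have := h1 (B *ᵥ c)
  rw [mulVec_mulVec, e, one_mulVec] at this
  rw [← this]; group

theorem vv_single (v : Fin 3 → G) (i : Fin 3) (a : F3) : vv v (Pi.single i a) = v i ^ a.val := by
  fin_cases i <;> simp [vv]

theorem vv_one (v : Fin 3 → G) (i : Fin 3) : vv v (Pi.single i 1) = v i := by
  rw [vv_single, ZMod.val_one, pow_one]

structure Bas (V : Subgroup G) (v : Fin 3 → G) (A : Fin 3 → Subgroup G) : Prop where
  good : ∀ i, Good V (v i) (A i)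
  ind : ∀ c, vv v c = 1 → c = 0

theorem third : ∀ i j : Fin 3, i ≠ j → ∃ k, k ≠ i ∧ k ≠ j ∧ ∀ l, l = i ∨ l = j ∨ l = k := by decide

namespace Bas

variable {V : Subgroup G} {v : Fin 3 → G} {A : Fin 3 → Subgroup G} (h : Bas V v A)
include h

theorem mem (i : Fin 3) : v i ∈ V := (h.good i).wV
theorem ab : Ab V := (h.good 0).abV
theorem exp {x : G} (hx : x ∈ V) : x ^ 3 = 1 := (h.good 0).loc.exp x ((h.good 0).VQ hx)
theorem vv_mem (c : V3) : vv v c ∈ V :=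
  mul_mem (mul_mem (pow_mem (h.mem 0) _) (pow_mem (h.mem 1) _)) (pow_mem (h.mem 2) _)

theorem vv_add (c c' : V3) : vv v (c + c') = vv v c * vv v c' := by
  have c12 : Commute (v 0) (v 1) := h.ab.comm (h.mem _) (h.mem _)
  have c13 : Commute (v 0) (v 2) := h.ab.comm (h.mem _) (h.mem _)
  have c23 : Commute (v 1) (v 2) := h.ab.comm (h.mem _) (h.mem _)
  simp only [vv, Pi.add_apply, pow_val_add (h.exp (h.mem _))]
  rw [((c13.pow_pow _ _).mul_left (c23.pow_pow _ _)).symm.mul_mul_mul_comm,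
    (c12.pow_pow _ _).symm.mul_mul_mul_comm]

theorem vv_neg (c : V3) : vv v (-c) = (vv v c)⁻¹ := by
  rw [eq_inv_iff_mul_eq_one, ← h.vv_add]; simp [vv]

theorem vv_smul (a : F3) (c : V3) : vv v (a • c) = vv v c ^ a.val := by
  rcases val_cases a with rfl | rfl | rfl
  · simp [vv]
  · simp [ZMod.val_one]
  · rw [pow_val_neg (h.exp (h.vv_mem c)), neg_one_smul, h.vv_neg]; simp [ZMod.val_one]

theorem vv_inj {c c' : V3} (e : vv v c = vv v c') : c = c' :=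
  sub_eq_zero.1 (h.ind _ (by rw [sub_eq_add_neg, h.vv_add, h.vv_neg, e, mul_inv_cancel]))

theorem surj {x : G} (hx : x ∈ V) : ∃ c, x = vv v c := by
  obtain ⟨c, e⟩ := ((Nat.bijective_iff_injective_and_card fun c => (⟨vv v c, h.vv_mem c⟩ : V)).2
    ⟨fun a b e => h.vv_inj (congrArg Subtype.val e), by simp [(h.good 0).card]⟩).2 ⟨x, hx⟩
  exact ⟨c, (congrArg Subtype.val e).symm⟩

theorem act_of {g : G} {M : M3} (e : ∀ j, g * v j * g⁻¹ = vv v (M *ᵥ Pi.single j 1)) :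
    Act v g M := fun c => by
  have : M *ᵥ c = c 0 • M *ᵥ Pi.single 0 1 + c 1 • M *ᵥ Pi.single 1 1 + c 2 • M *ᵥ Pi.single 2 1 := by
    simp only [← mulVec_smul, ← mulVec_add]
    congr 1
    ext i; fin_cases i <;> simp
  rw [this, h.vv_add, h.vv_add, h.vv_smul, h.vv_smul, h.vv_smul, ← e, ← e, ← e, vv]
  simp only [conj_pow]
  group

theorem act_mem {g : G} {M : M3} (e : Act v g M) : g ∈ N V := mem_N_of_conj fun x hx => by
  obtain ⟨c, rfl⟩ := h.surj hx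
  exact e c ▸ h.vv_mem _

theorem C_le : C V ≤ V := fun g hg => by
  have h0 := h.good 0
  refine h0.loc.mem_of_comm h0.VQ h0.abV h0.card (h0.ker g (C_le_C1 h0.wV hg) fun x hx => ?_)
    (le_C1_iff.2 hg)
  rw [← mem_C.1 hg x hx]; simp

theorem mem_of_act {g : G} (e : Act v g 1) : g ∈ V := h.C_le (mem_C.2 fun x hx => by
  obtain ⟨c, rfl⟩ := h.surj hx
  have := e c
  rw [one_mulVec, mul_inv_eq_iff_eq_mul] at this
  exact this.symm)

theorem act_V {g : G} (hg : g ∈ V) : Act v g 1 := fun c => by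
  rw [one_mulVec, h.ab.comm hg (h.vv_mem c), mul_inv_cancel_right]

theorem ind2 {i j k : Fin 3} (h1 : j ≠ i) (h2 : k ≠ i) (h3 : k ≠ j) (a b : F3)
    (e : v j ^ a.val * v k ^ b.val ∈ zpowers (v i)) : a = 0 ∧ b = 0 := by
  obtain ⟨c, e⟩ := exists_val (h.exp (h.mem i)) e
  rw [← vv_single, ← vv_single, ← vv_single, ← h.vv_add] at e
  have := h.vv_inj e
  exact ⟨by simpa [h1, h3.symm] using congrFun this j, by simpa [h2, h3] using congrFun this k⟩

theorem nrmA {g : G} (hg : g ∈ N V) {i : Fin 3} (e : g * v i * g⁻¹ = v i ∨ g * v i * g⁻¹ = (v i)⁻¹) :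
    g ∈ N (A i) := mem_N_of_conj fun q hq => by
  have hi := h.good i
  have gN : g ∈ N (Qz (v i)) := e.elim (fun e => C1_le_NQ _ (mem_C1_iff_conj.2 e)) mem_NQ_of_inv
  have gC : cj g (C1 (v i)) = C1 (v i) := by
    rw [cj_C1]; rcases e with e | e <;> rw [e]; exact C1_inv _
  rcases hi.sig _ (conj_mem_of_mem_N gN (hi.AQ hq)) (fun k hk => by
    have := hi.abA.comm hq (conj_mem_of_mem_N (hi.nA (mem_cj.1 (gC.ge hk))) hq)
    calc _ = g * (q * (g⁻¹ * k * g * q * (g⁻¹ * k * g)⁻¹)) * g⁻¹ := by group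
      _ = _ := by rw [this]; group) with e1 | e1
  · refine zpowers_le.2 hi.wA (hi.loc.nrm_zp gN (hi.inf q hq ?_))
    simpa [mul_assoc] using conj_mem_of_mem_N (inv_mem hg) e1
  · exact e1

theorem exists_t (i : Fin 3) : ∃ t, t * t = 1 ∧ Act v t (dM i) := by
  have hi := h.good i
  obtain ⟨j, h1⟩ := exists_ne i
  obtain ⟨k, h2, h3, h4⟩ := third i j h1.symm
  obtain ⟨t, ht, e⟩ := hi.loc.exists_n
  have e1 := hi.loc.neg t ht (by simpa using (e 1 (one_mem _)).1) (by simpa using (e 1 (one_mem _)).2)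
  obtain ⟨c, e2⟩ := exists_val hi.loc.cube (e1 _ (hi.VQ (h.mem j)))
  obtain ⟨c', e3⟩ := exists_val hi.loc.cube (e1 _ (hi.VQ (h.mem k)))
  obtain ⟨a, ha, e4, e5⟩ := hi.dual _ (h.mem j) _ (h.mem k) (h.ind2 h1 h2 h3) c c'
  have aC := Qz_le _ (hi.AQ ha)
  have k1 : ∀ {x : G} {d : F3}, t * x * t⁻¹ * x = v i ^ d.val → a * x * a⁻¹ = x * v i ^ d.val →
      a * t * x * (a * t)⁻¹ = x⁻¹ := fun {x d} p q => by
    calc _ = a * (t * x * t⁻¹ * x) * a⁻¹ * (a * x * a⁻¹)⁻¹ := by group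
      _ = _ := by rw [p, q, mem_C1_iff_conj.1 (C1_le_C1_pow _ _ aC)]; group
  have k2 : Act v (a * t) (dM i) := h.act_of fun l => by
    rcases h4 l with rfl | rfl | rfl
    · rw [mem_C1_iff_conj.1 (mul_mem aC ht), (by decide : ∀ l, dM l *ᵥ Pi.single l 1 = Pi.single l 1),
        vv_one]
    · rw [k1 e2 e4, (by decide : ∀ i l, l ≠ i → dM i *ᵥ Pi.single l 1 = -Pi.single l 1) _ _ h1,
        h.vv_neg, vv_one]
    · rw [k1 e3 e5, (by decide : ∀ i l, l ≠ i → dM i *ᵥ Pi.single l 1 = -Pi.single l 1) _ _ h2,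
        h.vv_neg, vv_one]
  have k3 : dM i * dM i = 1 := dM_sq i
  refine ⟨a * t * (a * t) * (a * t), ?_, by simpa [k3] using (k2.mul k2).mul k2⟩
  rw [← h.exp (h.mem_of_act (k3 ▸ k2.mul k2)), pow_three']; group

end Bas

theorem exists_bas {z y : G} (hz : Loc z) (hy : Loc y) (yQ : y ∈ Qz z) (yZ : y ∉ zpowers z) :
    ∃ w A, Bas (Qz z ⊓ Qz y) ![z, y, w] A := by
  obtain ⟨zQ, A0, h0⟩ := good_of hz hy yQ yZ
  have zY : z ∉ zpowers y := fun e => hz.ne (zp_inf hz.cube hy.cube yZ (mem_zpowers z) e)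
  obtain ⟨-, A1, h1⟩ := good_of hy hz zQ zY
  obtain ⟨g, hg, e⟩ := h0.mov y ⟨yQ, hy.mem⟩ yZ
  have e0 := mem_C1_iff_conj.1 hg
  obtain ⟨-, A2, h2⟩ := good_of (hy.conj' g) hz (by rw [← cj_Qz, ← e0]; exact conj_mem_cj.2 zQ)
    (by rw [← cj_zpowers, ← e0, conj_mem_cj]; exact zY)
  rw [← cj_Qz, ← mem_N.1 (C1_le_NQ z hg), ← cj_inf, inf_comm, mem_N.1 (h0.nV hg)] at h2
  rw [inf_comm] at h1
  refine ⟨g * y * g⁻¹, ![A0, A1, A2], fun i => by fin_cases i <;> assumption, fun c hc => ?_⟩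
  obtain ⟨e1, e2⟩ := e (c 1) (c 2) (by
    rw [vv, mul_assoc, mul_eq_one_iff_inv_eq] at hc
    exact hc.symm ▸ inv_mem (pow_mem (mem_zpowers z) _))
  have e3 : c 0 = 0 := pow_val_inj hz.ne hz.cube (by simpa [vv, e1, e2] using hc)
  ext i; fin_cases i <;> assumption

structure Frame (V : Subgroup G) (v : Fin 3 → G) (A : Fin 3 → Subgroup G) (t : Fin 3 → G) :
    Prop extends Bas V v A where
  tt : ∀ i, t i * t i = 1
  tc : ∀ i j, t i * t j = t j * t i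
  act : ∀ i, Act v (t i) (dM i)

theorem Bas.exists_frame {V : Subgroup G} {v : Fin 3 → G} {A : Fin 3 → Subgroup G}
    (h : Bas V v A) : ∃ t, Frame V v A t := by
  obtain ⟨a, a2, ha⟩ := h.exists_t 0
  obtain ⟨b, b2, hb⟩ := h.exists_t 1
  have h1 : Act v (a * b) (dM 2) := (by decide : dM 0 * dM 1 = dM 2) ▸ ha.mul hb
  have h2 := h.exp (h.mem_of_act ((by decide : dM 2 * dM 2 = 1) ▸ h1.mul h1))
  have h3 : Act v (a * b * (a * b) * (a * b)) (dM 2) :=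
    (by decide : dM 2 * dM 2 * dM 2 = dM 2) ▸ (h1.mul h1).mul h1
  have h4 : a * b * (a * b) * (a * b) * (a * b * (a * b) * (a * b)) = 1 := by
    rw [← h2, pow_three']; group
  have h5 : a * (a * b * (a * b) * (a * b)) = a * b * (a * b) * (a * b) * a := by
    conv_rhs => rw [← inv_eq_of_mul_eq_one_right h4]
    simp only [_root_.mul_inv_rev, inv_eq_of_mul_eq_one_right a2, inv_eq_of_mul_eq_one_right b2]
    simp only [← mul_assoc, a2, one_mul]
    rw [mul_assoc _ a a, a2, mul_one]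
  generalize a * b * (a * b) * (a * b) = c at *
  have h6 : a * c * (a * c) = 1 := by rw [mul_assoc, ← mul_assoc c, ← h5, mul_assoc, h4, mul_one, a2]
  refine ⟨![a, a * c, c], h, fun i => by fin_cases i <;> assumption, fun i j => ?_, fun i => ?_⟩
  · have c1 : Commute a c := h5
    fin_cases i <;> fin_cases j
    exacts [rfl, ((Commute.refl a).mul_right c1).eq, h5, ((Commute.refl a).mul_left c1.symm).eq, rfl,
      (c1.mul_left (Commute.refl c)).eq, h5.symm, (c1.symm.mul_right (Commute.refl c)).eq, rfl]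
  · fin_cases i
    exacts [ha, (by decide : dM 0 * dM 2 = dM 1) ▸ ha.mul h3, h3]

/-- Steinberg relations -/
structure St (v : Fin 3 → G) (x : Fin 3 → Fin 3 → G) : Prop where
  v3 : ∀ i, v i ^ 3 = 1
  vc : ∀ i j, v i * v j = v j * v i
  x3 : ∀ i j, i ≠ j → x i j ^ 3 = 1
  xv : ∀ i j, i ≠ j → x i j * v j * (x i j)⁻¹ * (v j)⁻¹ = v i
  xv' : ∀ i j k, i ≠ j → k ≠ j → x i j * v k = v k * x i j
  xx : ∀ i j k, i ≠ j → j ≠ k → k ≠ i → x i j * x j k * (x i j)⁻¹ * (x j k)⁻¹ = x i k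
  c1 : ∀ i j k, i ≠ j → i ≠ k → x i j * x i k = x i k * x i j
  c2 : ∀ i j k, i ≠ j → k ≠ j → k ≠ i → x i j * x k j = x k j * x i j

namespace Frame

variable {V : Subgroup G} {v : Fin 3 → G} {A : Fin 3 → Subgroup G} {t : Fin 3 → G}
  (h : Frame V v A t)

/-- the unipotent radical inside the Levi complement -/
def U (i : Fin 3) : Subgroup G where
  carrier := {x | x ∈ A i ∧ t i * x * (t i)⁻¹ = x⁻¹}
  mul_mem' := fun {a b} ha hb => ⟨mul_mem ha.1 hb.1, by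
    rw [← conj_mul, ha.2, hb.2, (h.good i).abA.comm ha.1 hb.1, _root_.mul_inv_rev]⟩
  one_mem' := ⟨one_mem _, by simp⟩
  inv_mem' := fun {a} ha => ⟨inv_mem ha.1, by rw [← ha.2, conj_inv, ha.2]⟩

include h

theorem t_v (i j : Fin 3) : t i * v j * (t i)⁻¹ = if i = j then v j else (v j)⁻¹ := by
  have := h.act i (Pi.single j 1)
  rw [vv_one, (by decide : ∀ i l, dM i *ᵥ Pi.single l 1 =
    if i = l then Pi.single l 1 else -Pi.single l 1)] at this
  split_ifs at this ⊢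
  · rwa [vv_one] at this
  · rwa [h.vv_neg, vv_one] at this

theorem tC (i : Fin 3) : t i ∈ C1 (v i) := mem_C1_iff_conj.2 (by simpa using h.t_v i i)

theorem neg (i : Fin 3) : ∀ q ∈ Qz (v i), t i * q * (t i)⁻¹ * q ∈ zpowers (v i) := by
  refine (h.good i).loc.neg _ (h.tC i) (fun e => ?_) (h.tt i ▸ one_mem _)
  obtain ⟨j, h1⟩ := exists_ne i
  obtain ⟨k, h2, h3, -⟩ := third i j h1.symm
  have := inv_mem ((h.good i).loc.der _ e _ ((h.good i).VQ (h.mem j)))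
  rw [h.t_v, if_neg h1.symm] at this
  exact absurd (h.ind2 h1 h2 h3 2 0 (by simpa [show (2 : F3).val = 2 from rfl, pow_two] using this)).1
    (by decide)

theorem eqU {i : Fin 3} {p q : G} {M M' : M3} (hp : p ∈ h.U i) (hq : q ∈ h.U i) (h1 : Act v p M)
    (h2 : Act v q M') (e : M = M') : p = q := by
  have h3 := mul_mem (inv_mem hq) hp
  have h4 : q⁻¹ * p ∈ V := h.mem_of_act fun c => by
    rw [one_mulVec, show q⁻¹ * p * vv v c * (q⁻¹ * p)⁻¹ = q⁻¹ * (p * vv v c * p⁻¹) * q by group, h1,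
      e, ← h2]
    group
  have h5 := h3.2
  rw [(h.good i).loc.zp_comm ((h.good i).inf _ h3.1 h4) (h.tC i), mul_inv_cancel_right,
    eq_inv_iff_mul_eq_one] at h5
  have h6 := h.exp h4
  rw [pow_three', h5, one_mul, inv_mul_eq_one] at h6
  exact h6.symm

theorem exists_x (i j : Fin 3) : ∃ x, i ≠ j → x ∈ h.U i ∧ Act v x (eM 1 i j) := by
  by_cases h1 : i = j
  · exact ⟨1, fun e => absurd h1 e⟩
  have hi := h.good i
  obtain ⟨k, h2, h3, h4⟩ := third i j h1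
  obtain ⟨a, ha, e4, e5⟩ := hi.dual _ (h.mem j) _ (h.mem k) (h.ind2 (Ne.symm h1) h2 h3) 1 0
  have aQ := hi.AQ ha
  have k2 : Act v a (eM 1 i j) := h.act_of fun l => by
    rcases h4 l with rfl | rfl | rfl
    · rw [mem_C1_iff_conj.1 (Qz_le _ aQ), (by decide : ∀ i j l, l ≠ j →
        eM 1 i j *ᵥ Pi.single l 1 = Pi.single l 1) _ _ _ h1, vv_one]
    · rw [e4, (by decide : ∀ i j, i ≠ j → eM 1 i j *ᵥ Pi.single j 1 = Pi.single j 1 + Pi.single i 1)
        _ _ h1, h.vv_add, vv_one, vv_single]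
    · rw [e5, (by decide : ∀ i j l, l ≠ j → eM 1 i j *ᵥ Pi.single l 1 = Pi.single l 1) _ _ _ h3,
        vv_one]
      simp
  have k3 := h.neg i a aQ
  have k4 := h.exp (zpowers_le.2 hi.wV k3)
  have k5 := hi.loc.zp_comm k3 (h.tC i)
  have k6 := hi.loc.zp_comm k3 (Qz_le _ aQ)
  refine ⟨a * (t i * a * (t i)⁻¹ * a), fun _ => ⟨⟨mul_mem ha (zpowers_le.2 hi.wA k3), ?_⟩,
    by simpa using k2.mul (h.act_V (zpowers_le.2 hi.wV k3))⟩⟩
  rw [← conj_mul, mul_inv_eq_iff_eq_mul.2 k5, eq_inv_iff_mul_eq_one, ← k4, pow_three', k6]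
  generalize t i * a * (t i)⁻¹ = b at *
  have k7 : b * a * (b * a * a) = a * (b * a) * (b * a) := by rw [← k6, ← mul_assoc, ← k6]
  calc _ = b * (b * a * (b * a * a)) := by group
    _ = _ := by rw [k7]; simp only [mul_assoc]

theorem conjU {i : Fin 3} {g p : G} (hg : g ∈ N V) (e : g * v i * g⁻¹ = v i ∨ g * v i * g⁻¹ = (v i)⁻¹)
    (hc : t i * g = g * t i) (hp : p ∈ h.U i) : g * p * g⁻¹ ∈ h.U i :=
  ⟨conj_mem_of_mem_N (h.nrmA hg e) hp.1, by
    calc _ = t i * g * p * (t i * g)⁻¹ := by group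
      _ = _ := by rw [hc, conj_inv, ← hp.2]; group⟩

theorem t_conj {i : Fin 3} (k : Fin 3) {p : G} (hp : p ∈ h.U i) : t k * p * (t k)⁻¹ ∈ h.U i :=
  h.conjU (h.act_mem (h.act k)) (by rw [h.t_v]; split_ifs <;> simp) (h.tc _ _) hp

theorem exists_st : ∃ x, St v x ∧ ∀ i j, i ≠ j → x i j ∈ h.U i ∧ Act v (x i j) (eM 1 i j) ∧
    ∀ k, k ≠ i → k ≠ j → t k * x i j = x i j * t k := by
  choose x hx using h.exists_x
  have i1 : ∀ i j, i ≠ j → Act v (x i j)⁻¹ (eM (-1) i j) := fun i j e =>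
    (hx i j e).2.inv ((by decide : ∀ i j, i ≠ j → eM 1 i j * eM (-1) i j = 1) i j e)
  have t1 : ∀ i j k, i ≠ j → k ≠ i → k ≠ j → t k * x i j = x i j * t k := fun i j k a b c =>
    mul_inv_eq_iff_eq_mul.1 (h.eqU (h.t_conj k (hx i j a).1) (hx i j a).1
      (((h.act k).mul (hx i j a).2).mul ((h.act k).inv (dM_sq k)))
      (hx i j a).2 ((by decide : ∀ i j k, i ≠ j → k ≠ i → k ≠ j →
        dM k * eM 1 i j * dM k = eM 1 i j) i j k a b c))
  have xv' : ∀ i j k, i ≠ j → k ≠ j → x i j * v k * (x i j)⁻¹ = v k := fun i j k a b => by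
    have := (hx i j a).2 (Pi.single k 1)
    rwa [(by decide : ∀ i j l, l ≠ j → eM 1 i j *ᵥ Pi.single l 1 = Pi.single l 1) _ _ _ b,
      vv_one] at this
  have n1 : ∀ i j k, j ≠ k → i ≠ j → i ≠ k → ∀ p ∈ h.U i, x j k * p * (x j k)⁻¹ ∈ h.U i :=
    fun i j k a b c p hp => h.conjU (h.act_mem (hx j k a).2) (Or.inl (xv' j k i a c))
      (t1 j k i a b c) hp
  refine ⟨x, ⟨fun i => h.exp (h.mem i), fun i j => h.ab.comm (h.mem i) (h.mem j),
    fun i j a => (h.good i).loc.exp _ ((h.good i).AQ (hx i j a).1.1), fun i j a => ?_,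
    fun i j k a b => mul_inv_eq_iff_eq_mul.1 (xv' i j k a b), fun i j k a b c => ?_,
    fun i j k a b => (h.good i).abA.comm (hx i j a).1.1 (hx i k b).1.1, fun i j k a b c => ?_⟩,
    fun i j a => ⟨(hx i j a).1, (hx i j a).2, fun k => t1 i j k a⟩⟩
  · have := (hx i j a).2 (Pi.single j 1)
    rw [(by decide : ∀ i j, i ≠ j → eM 1 i j *ᵥ Pi.single j 1 = Pi.single i 1 + Pi.single j 1)
      _ _ a, h.vv_add, vv_one, vv_one] at this
    rw [this, mul_inv_cancel_right]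
  · refine h.eqU (by
      simpa only [mul_assoc] using mul_mem (hx i j a).1 (n1 i j k b a c.symm _ (inv_mem (hx i j a).1)))
      (hx i k c.symm).1 ((((hx i j a).2.mul (hx j k b).2).mul (i1 i j a)).mul (i1 j k b))
      (hx i k c.symm).2 ?_
    revert i j k; decide
  · refine (mul_inv_eq_iff_eq_mul.1 (h.eqU (n1 i k j b c.symm a _ (hx i j a).1) (hx i j a).1
      (((hx k j b).2.mul (hx i j a).2).mul (i1 k j b)) (hx i j a).2 ?_)).symm
    revert i j k; decide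

end Frame

end CfsgH1.L43
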