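import Cfsg.Agent.H1.L43Quad

/-! The two invariant isotropic planes. -/

set_option autoImplicit false
set_option linter.unusedSectionVars false

namespace CfsgH1.L43

open Subgroup CfsgH5 CfsgH6 CfsgFT CfsgH9 CfsgH9.P43 CfsgH7 Matrix

universe u

abbrev V2 : Type := Fin 2 → F3

def uM : SL23 := ⟨!![1, 1; 0, 1], by decide⟩
def lM : SL23 := ⟨!![1, 0; 1, 1], by decide⟩
def nM : SL23 := ⟨!![-1, 0; 0, -1], by decide⟩

theorem sl_u : ∀ a : SL23, a ^ 3 = 1 → a ≠ 1 → ∃ k, k * a * k⁻¹ = uM ∨ k * a⁻¹ * k⁻¹ = uM := by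
  decide +kernel
theorem sl_l : ∃ w : SL23, w * uM⁻¹ * w⁻¹ = lM := by decide +kernel
theorem sl_gen : ∀ g : SL23, ∃ i j k l : Fin 3,
    g = uM ^ i.val * lM ^ j.val * uM ^ k.val * lM ^ l.val := by decide +kernel
theorem sl_n : uM * lM * (uM * lM) = nM ∧ nM * nM = 1 ∧ nM ≠ 1 ∧ (∀ g, g * nM = nM * g) ∧
    ∀ g : SL23, g * g = 1 → g ≠ 1 → g = nM := by decide +kernel
theorem sl_sig : ∀ u v : V2, (∀ M : SL23, u 0 * (M.1 *ᵥ v) 1 - u 1 * (M.1 *ᵥ v) 0 +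
    v 0 * (M.1 *ᵥ u) 1 - v 1 * (M.1 *ᵥ u) 0 = 0) → u = 0 ∨ v = 0 := by decide +kernel
theorem sl_ker : ∀ M : SL23, (∀ u : V2, M.1 *ᵥ u = u) → M = 1 := by decide +kernel
theorem sl_dual : ∀ (b : F3) (u u' : V2) (c c' : F3), b ≠ 0 →
    (∀ i j : F3, i • u + j • u' = 0 → i = 0 ∧ j = 0) →
    ∃ v : V2, b * (v 0 * u 1 - v 1 * u 0) = c ∧ b * (v 0 * u' 1 - v 1 * u' 0) = c' := by
  decide +kernel

variable {G : Type u} [Group G] [Finite G]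

/-- the central involution of `C(z)/Q` inverts `Q/Z` -/
def Inv (z : G) : Prop :=
  ∀ g ∈ C1 z, g ∉ Qz z → g * g ∈ Qz z → ∀ q ∈ Qz z, g * q * g⁻¹ * q ∈ zpowers z

structure Loc (z : G) : Prop extends Loc0 z where
  neg : Inv z

theorem Loc.inv' {z : G} (h : Loc z) : Loc z⁻¹ :=
  ⟨h.toLoc0.inv, by simpa only [Inv, Qz_inv, C1_inv, zpowers_inv] using h.neg⟩

theorem Loc.conj' {z : G} (h : Loc z) (g : G) : Loc (g * z * g⁻¹) :=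
  ⟨h.toLoc0.conj g, fun k h1 h2 h3 q hq => by
    rw [← cj_C1, mem_cj] at h1
    rw [← cj_Qz, mem_cj] at h2 h3 hq
    rw [← cj_zpowers, mem_cj]
    convert h.neg _ h1 h2 (by convert h3 using 1; group) _ hq using 1
    group⟩

theorem Loc0.exists_conj {z a c : G} (h : Loc0 z) (ha : a ∈ Qz z) (h1 : a ∉ zpowers z)
    (hc : c ∈ zpowers z) : ∃ q ∈ Qz z, q * a * q⁻¹ = a * c := by
  obtain ⟨W, _, _, pr, B, hs⟩ := h.exists_sym
  obtain ⟨c, rfl⟩ := exists_val h.cube hc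
  obtain ⟨w, hw⟩ : ∃ w, B w (pr a) ≠ 0 := by
    by_contra hc
    push Not at hc
    exact h1 ((hs.zero a ha).1 (hs.nondeg fun w => by rw [hs.skew, hc, neg_zero]))
  obtain ⟨q, hq, e⟩ := hs.surj ((c * B w (pr a)) • w)
  refine ⟨q, hq, ?_⟩
  rw [hs.conj_eq hq ha, e, map_smul, LinearMap.smul_apply, smul_eq_mul,
    (by decide : ∀ c b : F3, b ≠ 0 → c * b * b = c) c _ hw]

theorem Loc0.exists_n {z : G} (h : Loc0 z) : ∃ t ∈ C1 z, ∀ q ∈ Qz z, q * t ∉ Qz z ∧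
    q * t * (q * t) ∈ Qz z := by
  obtain ⟨π, hπ⟩ := h.hom
  obtain ⟨t, ht, e⟩ := hπ.surj nM
  refine ⟨t, ht, fun q hq => ?_⟩
  have h1 := mul_mem (Qz_le z hq) ht
  have h2 : π (q * t) = nM := by rw [hπ.mul _ (Qz_le z hq) _ ht, (hπ.ker _ (Qz_le z hq)).2 hq, e, one_mul]
  rw [← hπ.ker _ h1, ← hπ.ker _ (mul_mem h1 h1), hπ.mul _ h1 _ h1, h2]
  exact ⟨sl_n.2.2.1, sl_n.2.1⟩

structure Gen (z y s s' : G) (π : G → SL23) : Prop extends Pair z y s where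
  pi : IsPi z π
  ps : π s = uM
  sC' : s' ∈ C1 z
  ps' : π s' = lM
  q' : Qd z s'

theorem exists_gen {z y : G} (hz : Loc0 z) (hy : Loc0 y) (yQ : y ∈ Qz z) (yZ : y ∉ zpowers z) :
    ∃ s s' π, Gen z y s s' π := by
  obtain ⟨s, π, h, hπ, e⟩ : ∃ s π, Pair z y s ∧ IsPi z π ∧ π s = uM := by
    obtain ⟨s, h⟩ := exists_pair hz hy yQ yZ
    obtain ⟨π, hπ⟩ := hz.hom
    obtain ⟨k, e | e⟩ := sl_u (π s) (by rw [← hπ.pow h.sC, hy.exp s h.sQ, hπ.one])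
      fun e => h.sn ((hπ.ker s h.sC).1 e)
    · exact ⟨s, _, h, hπ.conj k, e⟩
    · exact ⟨s⁻¹, _, h.inv, hπ.conj k, by rw [← e, hπ.inv h.sC]⟩
  obtain ⟨w, hw⟩ := sl_l
  obtain ⟨g, hg, rfl⟩ := hπ.surj w
  have h1 := inv_mem h.sC
  exact ⟨s, g * s⁻¹ * g⁻¹, π, h, hπ, e, mul_mem (mul_mem hg h1) (inv_mem hg), by
    rw [hπ.mul _ (mul_mem hg h1) _ (inv_mem hg), hπ.mul _ hg _ h1, hπ.inv hg, hπ.inv h.sC, e, hw],
    h.inv.quad.conj hg⟩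

namespace Sym

variable {z : G} {W : Type u} [AddCommGroup W] [Module F3 W] {pr : G → W}
  {B : W →ₗ[F3] W →ₗ[F3] F3} (h : Sym z pr B)

/-- image of a subgroup -/
def sm (X : Subgroup G) : Submodule F3 W where
  carrier := {w | ∃ a ∈ X ⊓ Qz z, pr a = w}
  add_mem' := by
    rintro _ _ ⟨a, ha, rfl⟩ ⟨b, hb, rfl⟩
    exact ⟨a * b, mul_mem ha hb, h.add a ha.2 b hb.2⟩
  zero_mem' := ⟨1, one_mem _, h.one⟩
  smul_mem' := by
    rintro c _ ⟨a, ha, rfl⟩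
    exact ⟨a ^ c.val, pow_mem ha _, h.pow_val ha.2 c⟩

/-- preimage of a submodule -/
def pre (Y : Submodule F3 W) : Subgroup G where
  carrier := {a | a ∈ Qz z ∧ pr a ∈ Y}
  mul_mem' := fun {a b} ha hb => ⟨mul_mem ha.1 hb.1, h.add a ha.1 b hb.1 ▸ add_mem ha.2 hb.2⟩
  one_mem' := ⟨one_mem _, h.one ▸ zero_mem _⟩
  inv_mem' := fun {a} ha => ⟨inv_mem ha.1, h.inv ha.1 ▸ neg_mem ha.2⟩

theorem mem_sm {X : Subgroup G} (hX : zpowers z ≤ X) {a : G} (ha : a ∈ Qz z) :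
    pr a ∈ h.sm X ↔ a ∈ X := by
  refine ⟨?_, fun e => ⟨a, ⟨e, ha⟩, rfl⟩⟩
  rintro ⟨b, hb, e⟩
  simpa using mul_mem (hX ((h.eq_iff ha hb.2).1 e.symm)) hb.1

include h in
theorem sq_zero {g : G} (hg : g ∈ C1 z) (hq : Qd z g) {A : W →ₗ[F3] W} (hA : Ac z pr g A) (w : W) :
    (A - LinearMap.id : W →ₗ[F3] W) ((A - LinearMap.id : W →ₗ[F3] W) w) = 0 := by
  obtain ⟨a, ha, rfl⟩ := h.surj w
  have h1 := conj_mem_Qz hg ha
  have h2 := conj_mem_Qz hg h1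
  have := hq a ha
  rw [← h.zero _ (mul_mem (mul_mem h2 h1) ha), h.add _ (mul_mem h2 h1) _ ha, h.add _ h2 _ h1,
    hA _ h1, hA _ ha] at this
  simp only [LinearMap.sub_apply, LinearMap.id_apply, map_sub]
  linear_combination (norm := abel) this - three (A (pr a))

include h in
theorem B_sig {g : G} (hg : g ∈ C1 z) (hq : Qd z g) {A : W →ₗ[F3] W} (hA : Ac z pr g A) (a b : W) :
    B ((A - LinearMap.id : W →ₗ[F3] W) a) b = -B a ((A - LinearMap.id : W →ₗ[F3] W) b) := by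
  have h1 := h.B_act hg hA a b
  have h2 := h.B_act hg hA (A a - a) b
  have h3 := h.sq_zero hg hq hA a
  simp only [LinearMap.sub_apply, LinearMap.id_apply, sub_eq_zero] at h3
  rw [h3] at h2
  simp only [LinearMap.sub_apply, LinearMap.id_apply, map_sub] at h2 ⊢
  linear_combination h1 - h2

end Sym

/-- coordinates on the symplectic space -/
structure Co (z y : G) (π : G → SL23) {W : Type u} [AddCommGroup W] [Module F3 W] (pr : G → W)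
    (B : W →ₗ[F3] W →ₗ[F3] F3) (co : V2 × V2 →ₗ[F3] W) (b : F3) : Prop where
  ne : b ≠ 0
  form : ∀ u v u' v', B (co (u, v)) (co (u', v')) =
    b * (u 0 * v' 1 - u 1 * v' 0 + v 0 * u' 1 - v 1 * u' 0)
  surj : ∀ w, ∃ u v, w = co (u, v)
  act : ∀ g ∈ C1 z, ∀ A, Ac z pr g A → ∀ u v, A (co (u, v)) = co ((π g).1 *ᵥ u, (π g).1 *ᵥ v)
  y : pr y = co (![1, 0], 0)

theorem Co.inj {z y : G} {π : G → SL23} {W : Type u} [AddCommGroup W] [Module F3 W] {pr : G → W}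
    {B : W →ₗ[F3] W →ₗ[F3] F3} {co : V2 × V2 →ₗ[F3] W} {b : F3} (h : Co z y π pr B co b) :
    Function.Injective co := by
  rw [injective_iff_map_eq_zero]
  rintro ⟨u, v⟩ e
  have h1 := h.form u v ![1, 0] 0
  have h2 := h.form u v ![0, 1] 0
  have h3 := h.form u v 0 ![1, 0]
  have h4 := h.form u v 0 ![0, 1]
  simp [e, h.ne] at h1 h2 h3 h4
  ext i <;> fin_cases i <;> simp [*]

namespace Gen

variable {z y s s' : G} {π : G → SL23} (h : Gen z y s s' π)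
include h

theorem ind (P : G → Prop) (hQ : ∀ q ∈ Qz z, P q) (h1 : P s) (h2 : P s')
    (hm : ∀ a ∈ C1 z, ∀ b ∈ C1 z, P a → P b → P (a * b)) : ∀ g ∈ C1 z, P g := by
  have hp : ∀ a ∈ C1 z, P a → ∀ n : ℕ, P (a ^ n) := fun a ha e n => by
    induction n with
    | zero => simpa using hQ 1 (one_mem _)
    | succ n ih => rw [pow_succ]; exact hm _ (pow_mem ha n) _ ha ih e
  intro g hg
  obtain ⟨i, j, k, l, e⟩ := sl_gen (π g)
  have a1 := pow_mem h.sC i.val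
  have a2 := pow_mem h.sC' j.val
  have a3 := pow_mem h.sC k.val
  have a4 := pow_mem h.sC' l.val
  have a5 := mul_mem a1 a2
  have a6 := mul_mem a5 a3
  rw [← h.ps, ← h.ps', ← h.pi.pow h.sC, ← h.pi.pow h.sC, ← h.pi.pow h.sC', ← h.pi.pow h.sC',
    ← h.pi.mul _ a1 _ a2, ← h.pi.mul _ a5 _ a3, ← h.pi.mul _ a6 _ a4,
    h.pi.eq_iff hg (mul_mem a6 a4)] at e
  have := hm _ (Qz_le z e) _ (mul_mem a6 a4) (hQ _ e) (hm _ a6 _ a4 (hm _ a5 _ a3 (hm _ a1 _ a2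
    (hp _ h.sC h1 _) (hp _ h.sC' h2 _)) (hp _ h.sC h1 _)) (hp _ h.sC' h2 _))
  rwa [inv_mul_cancel_right] at this

theorem tC : s * s' * (s * s') ∈ C1 z := mul_mem (mul_mem h.sC h.sC') (mul_mem h.sC h.sC')

theorem pt : π (s * s' * (s * s')) = nM := by
  rw [h.pi.mul _ (mul_mem h.sC h.sC') _ (mul_mem h.sC h.sC'), h.pi.mul _ h.sC _ h.sC', h.ps, h.ps',
    sl_n.1]

variable {W : Type u} [AddCommGroup W] [Module F3 W] {pr : G → W}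
  {B : W →ₗ[F3] W →ₗ[F3] F3} (hs : Sym z pr B) {A A' : W →ₗ[F3] W} (hA : Ac z pr s A)
  (hA' : Ac z pr s' A')
include hs hA hA'

theorem acT : Ac z pr (s * s' * (s * s')) ((A ∘ₗ A') ∘ₗ (A ∘ₗ A')) :=
  hs.ac_mul (C1_le_NQ z (mul_mem h.sC h.sC')) (hs.ac_mul (C1_le_NQ z h.sC') hA hA')
    (hs.ac_mul (C1_le_NQ z h.sC') hA hA')

theorem T_comm {g : G} (hg : g ∈ C1 z) {M : W →ₗ[F3] W} (hM : Ac z pr g M) (w : W) :
    (M - LinearMap.id : W →ₗ[F3] W) (((A ∘ₗ A') ∘ₗ (A ∘ₗ A')) w) =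
      ((A ∘ₗ A') ∘ₗ (A ∘ₗ A')) ((M - LinearMap.id : W →ₗ[F3] W) w) := by
  have := hs.ac_eq (C1_le_NQ z (mul_mem h.tC hg)) ((h.pi.eq_iff (mul_mem hg h.tC)
    (mul_mem h.tC hg)).1 (by rw [h.pi.mul _ hg _ h.tC, h.pi.mul _ h.tC _ hg, h.pt, sl_n.2.2.2.1]))
    (hs.ac_mul (C1_le_NQ z h.tC) hM (h.acT hs hA hA'))
    (hs.ac_mul (C1_le_NQ z hg) (h.acT hs hA hA') hM) w
  rw [LinearMap.sub_apply, LinearMap.sub_apply, map_sub]
  exact congrArg₂ _ this rfl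

theorem fac_grp {X Y : Subgroup G} (h0 : zpowers z ≤ X) (h1 : X ≤ Y) (h2 : Y ≤ Qz z)
    (n1 : C1 z ≤ N X) (n2 : C1 z ≤ N Y)
    (irr : ∀ P, X < P → P < Y → ∃ k ∈ C1 z, ∃ b ∈ P, k * b * k⁻¹ ∉ P)
    (nt : ∃ k ∈ C1 z, ∃ a ∈ Y, k * a * k⁻¹ * a⁻¹ ∉ X) :
    (∀ w ∈ hs.sm X, (A - LinearMap.id : W →ₗ[F3] W) w ∈ hs.sm X ∧
      (A' - LinearMap.id : W →ₗ[F3] W) w ∈ hs.sm X) ∧
    ∃ w ∈ hs.sm Y, w ∉ hs.sm X ∧ ((A ∘ₗ A') ∘ₗ (A ∘ₗ A')) w = -w ∧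
      (A - LinearMap.id : W →ₗ[F3] W) w ∈ hs.sm X := by
  have k : ∀ {X : Subgroup G}, C1 z ≤ N X → ∀ w ∈ hs.sm X,
      (A - LinearMap.id : W →ₗ[F3] W) w ∈ hs.sm X ∧
      (A' - LinearMap.id : W →ₗ[F3] W) w ∈ hs.sm X := by
    rintro X hX _ ⟨a, ha, rfl⟩
    exact ⟨sub_mem ⟨_, ⟨conj_mem_of_mem_N (hX h.sC) ha.1, conj_mem_Qz h.sC ha.2⟩, hA a ha.2⟩
      ⟨a, ha, rfl⟩, sub_mem ⟨_, ⟨conj_mem_of_mem_N (hX h.sC') ha.1, conj_mem_Qz h.sC' ha.2⟩,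
      hA' a ha.2⟩ ⟨a, ha, rfl⟩⟩
  refine ⟨k n1, fac (hs.sq_zero h.sC h.quad hA) (hs.sq_zero h.sC' h.q' hA') (fun w => by simp)
    (fun w => ?_) (h.T_comm hs hA hA' h.sC hA) (h.T_comm hs hA hA' h.sC' hA')
    (fun w ⟨a, ha, e⟩ => ⟨a, ⟨h1 ha.1, ha.2⟩, e⟩) (k n1) (k n2) (fun U u1 u2 u3 => ?_) ?_⟩
  · exact hs.ac_Q ((h.pi.ker _ (mul_mem h.tC h.tC)).1 (by rw [h.pi.mul _ h.tC _ h.tC, h.pt, sl_n.2.1]))
      (hs.ac_mul (C1_le_NQ z h.tC) (h.acT hs hA hA') (h.acT hs hA hA')) w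
  · have p1 : X ≤ hs.pre U := fun a ha => ⟨h2 (h1 ha), u1 ⟨a, ⟨ha, h2 (h1 ha)⟩, rfl⟩⟩
    have p2 : hs.pre U ≤ Y := fun a ha => (hs.mem_sm (h0.trans h1) ha.1).1 (u2 ha.2)
    have p3 := h.ind (fun k => ∀ b ∈ hs.pre U, k * b * k⁻¹ ∈ hs.pre U) (fun q hq b hb => by
        obtain ⟨M, hM⟩ := hs.act q (le_N _ hq)
        exact ⟨conj_mem_Qz (Qz_le z hq) hb.1, by rw [hM b hb.1, hs.ac_Q hq hM]; exact hb.2⟩)
      (fun b hb => ⟨conj_mem_Qz h.sC hb.1, by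
        rw [hA b hb.1]; simpa using add_mem (u3 _ hb.2).1 hb.2⟩)
      (fun b hb => ⟨conj_mem_Qz h.sC' hb.1, by
        rw [hA' b hb.1]; simpa using add_mem (u3 _ hb.2).2 hb.2⟩)
      fun a _ b _ e1 e2 c hc => by simpa [mul_assoc] using e1 _ (e2 c hc)
    have p4 : ∀ {Z : Subgroup G}, hs.pre U = Z → U ≤ hs.sm Z := fun e w hw => by
      obtain ⟨a, ha, rfl⟩ := hs.surj w
      exact ⟨a, ⟨e.le ⟨ha, hw⟩, ha⟩, rfl⟩
    by_contra hc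
    obtain ⟨k, hk, b, hb, e⟩ := irr (hs.pre U)
      (lt_of_le_of_ne p1 fun e => hc (Or.inl (le_antisymm (p4 e.symm) u1)))
      (lt_of_le_of_ne p2 fun e => hc (Or.inr (le_antisymm u2 fun w ⟨a, ha, e'⟩ =>
        e' ▸ (e.ge ha.1).2)))
    exact e (p3 k hk b hb)
  · by_contra hc
    push Not at hc
    obtain ⟨k, hk, a, ha, e⟩ := nt
    have p : ∀ {g : G} {M : W →ₗ[F3] W}, g ∈ C1 z → Ac z pr g M → ∀ a ∈ Y,
        (M - LinearMap.id : W →ₗ[F3] W) (pr a) ∈ hs.sm X → g * a * g⁻¹ * a⁻¹ ∈ X := by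
      intro g M hg hM a ha e
      have a1 := conj_mem_Qz hg (h2 ha)
      rw [← hs.mem_sm h0 (mul_mem a1 (inv_mem (h2 ha))), hs.add _ a1 _ (inv_mem (h2 ha)),
        hM a (h2 ha), hs.inv (h2 ha)]
      simpa [sub_eq_add_neg] using e
    refine e (h.ind (fun k => ∀ a ∈ Y, k * a * k⁻¹ * a⁻¹ ∈ X)
      (fun q hq a ha => h0 (h.hz.der q hq a (h2 ha)))
      (fun a ha => p h.sC hA a ha (hc _ ⟨a, ⟨ha, h2 ha⟩, rfl⟩).1)
      (fun a ha => p h.sC' hA' a ha (hc _ ⟨a, ⟨ha, h2 ha⟩, rfl⟩).2)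
      (fun a ha b _ e1 e2 c hc => ?_) k hk a ha)
    convert mul_mem (conj_mem_of_mem_N (n1 ha) (e2 c hc)) (e1 c hc) using 1
    group

omit hs hA hA' in
theorem inv_of_chain {X Y X' Y' : Subgroup G} (h0 : zpowers z ≤ X) (h1 : X ≤ Y) (h2 : Y ≤ X')
    (h3 : X' ≤ Y') (h4 : Y' ≤ Qz z) (n1 : C1 z ≤ N X) (n2 : C1 z ≤ N Y) (n3 : C1 z ≤ N X')
    (n4 : C1 z ≤ N Y') (irr : ∀ P, X < P → P < Y → ∃ k ∈ C1 z, ∃ b ∈ P, k * b * k⁻¹ ∉ P)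
    (irr' : ∀ P, X' < P → P < Y' → ∃ k ∈ C1 z, ∃ b ∈ P, k * b * k⁻¹ ∉ P)
    (nt : ∃ k ∈ C1 z, ∃ a ∈ Y, k * a * k⁻¹ * a⁻¹ ∉ X)
    (nt' : ∃ k ∈ C1 z, ∃ a ∈ Y', k * a * k⁻¹ * a⁻¹ ∉ X') : Inv z := by
  obtain ⟨W, _, _, pr, B, hs⟩ := h.hz.exists_sym
  obtain ⟨A, hA⟩ := hs.act s (C1_le_NQ z h.sC)
  obtain ⟨A', hA'⟩ := hs.act s' (C1_le_NQ z h.sC')
  obtain ⟨i1, a, ⟨a', a0, a1⟩, a2, a3, a4⟩ :=
    h.fac_grp hs hA hA' h0 h1 ((h2.trans h3).trans h4) n1 n2 irr nt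
  obtain ⟨i2, b, -, b2, b3, b4⟩ := h.fac_grp hs hA hA' ((h0.trans h1).trans h2) h3 h4 n3 n4 irr' nt'
  have key := neg_of_two (hs.sq_zero h.sC h.quad hA) (hs.sq_zero h.sC' h.q' hA') (fun w => by simp)
    hs.card (h.T_comm hs hA hA' h.sC' hA') i1 i2 ⟨a', ⟨h2 a0.1, a0.2⟩, a1⟩ a2 a3 a4 b2 b3 b4
  intro g hg g1 g2 q hq
  obtain ⟨M, hM⟩ := hs.act g (C1_le_NQ z hg)
  have := hs.ac_eq (C1_le_NQ z h.tC) ((h.pi.eq_iff hg h.tC).1 (by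
    rw [h.pt]
    exact sl_n.2.2.2.2 _ (by rw [← h.pi.mul _ hg _ hg, h.pi.ker _ (mul_mem hg hg)]; exact g2)
      fun e => g1 ((h.pi.ker g hg).1 e))) hM (h.acT hs hA hA') (pr q)
  rw [← hs.zero _ (mul_mem (conj_mem_Qz hg hq) hq), hs.add _ (conj_mem_Qz hg hq) _ hq, hM q hq, this,
    key, neg_add_cancel]

theorem exists_co (hi : Inv z) : ∃ co b, Co z y π pr B co b := by
  have hσ := hs.sq_zero h.sC h.quad hA
  have hτ := hs.sq_zero h.sC' h.q' hA'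
  have bσ := hs.B_sig h.sC h.quad hA
  have bτ := hs.B_sig h.sC' h.q' hA'
  have hr : ∀ w, (A - LinearMap.id : W →ₗ[F3] W) ((A' - LinearMap.id : W →ₗ[F3] W) w) +
      (A' - LinearMap.id : W →ₗ[F3] W) ((A - LinearMap.id : W →ₗ[F3] W) w) = w := fun w => by
    refine rel_of_neg hσ hτ (T := (A ∘ₗ A') ∘ₗ (A ∘ₗ A')) (fun w => by simp) ?_
    obtain ⟨q, hq, rfl⟩ := hs.surj w
    have := hi _ h.tC (fun e => sl_n.2.2.1 (h.pt ▸ (h.pi.ker _ h.tC).2 e))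
      ((h.pi.ker _ (mul_mem h.tC h.tC)).1 (by rw [h.pi.mul _ h.tC _ h.tC, h.pt, sl_n.2.1])) q hq
    rw [← hs.zero _ (mul_mem (conj_mem_Qz h.tC hq) hq), hs.add _ (conj_mem_Qz h.tC hq) _ hq,
      h.acT hs hA hA' q hq] at this
    exact eq_neg_of_add_eq_zero_left this
  have eA : ∀ w, A w = w + (A - LinearMap.id : W →ₗ[F3] W) w := fun w => by simp
  have eA' : ∀ w, A' w = w + (A' - LinearMap.id : W →ₗ[F3] W) w := fun w => by simp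
  have y0 : (A - LinearMap.id : W →ₗ[F3] W) (pr y) = 0 := by simp [h.A_y hs hA]
  obtain ⟨e, he, e1⟩ := h.exists_e
  obtain ⟨c, e2, e3⟩ := h.A_E hs hA he
  replace e2 : (A - LinearMap.id : W →ₗ[F3] W) (pr e) = c • pr y := e2
  have e4 : B (pr y) (pr e) = 0 := (hs.comm_iff h.yQ he.1).1 (mem_C1.1 (Qz_le y he.2)).symm
  obtain ⟨w, hw⟩ : ∃ w, B w (pr y) ≠ 0 := by
    by_contra hc
    push Not at hc
    exact h.y_ne hs hA (hs.nondeg fun w => by rw [hs.skew, hc, neg_zero])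
  generalize (A - LinearMap.id : W →ₗ[F3] W) = σ at *
  generalize (A' - LinearMap.id : W →ₗ[F3] W) = τ at *
  have k1 : ∀ x, σ x = 0 → σ (τ x) = x := fun x hx => by simpa [hx] using hr x
  have g1 : B (pr y) (τ (pr y)) = 0 := by
    have := bσ (τ (pr y)) (pr e)
    rw [k1 _ y0, e4, e2, map_smul, smul_eq_mul, zero_eq_neg, mul_eq_zero, hs.skew] at this
    exact neg_eq_zero.1 (this.resolve_left fun e => e1 (e3 e))
  have g2 : ∀ x x', B x (τ x') = B x' (τ x) := fun x x' => by rw [hs.skew x', bτ, neg_neg]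
  have g3 : B (σ w) (τ (pr y)) ≠ 0 := by rwa [bσ, k1 _ y0, neg_ne_zero]
  obtain ⟨a, a0, a1, a2⟩ : ∃ a, σ a = 0 ∧ B a (τ (pr y)) ≠ 0 ∧ B a (τ a) = 0 := by
    refine ⟨σ w + (B (σ w) (τ (σ w)) * B (σ w) (τ (pr y))) • pr y, by simp [hσ, y0],
      by simpa [g1] using g3, ?_⟩
    simp only [map_add, map_smul, LinearMap.add_apply, LinearMap.smul_apply, smul_eq_mul, g1,
      g2 (pr y) (σ w)]
    exact (by decide : ∀ p q : F3, q ≠ 0 → p + p * q * q + p * q * (q + p * q * 0) = 0) _ _ g3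
  have g4 : B (pr y) a = 0 := by rw [← k1 _ y0, bσ, a0, map_zero, neg_zero]
  have g5 : B (τ (pr y)) (τ a) = 0 := by rw [bτ, hτ, map_zero, neg_zero]
  let co : V2 × V2 →ₗ[F3] W :=
    { toFun := fun p => p.1 0 • pr y + p.1 1 • τ (pr y) + p.2 0 • a + p.2 1 • τ a
      map_add' := fun p q => by simp only [Prod.fst_add, Prod.snd_add, Pi.add_apply, add_smul]; abel
      map_smul' := fun c p => by simp [mul_smul] }
  have hco : ∀ u v, co (u, v) = u 0 • pr y + u 1 • τ (pr y) + v 0 • a + v 1 • τ a := fun _ _ => rfl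
  have hB : ∀ u v u' v', B (co (u, v)) (co (u', v')) =
      B a (τ (pr y)) * (u 0 * v' 1 - u 1 * v' 0 + v 0 * u' 1 - v 1 * u' 0) := fun u v u' v' => by
    simp only [hco, map_add, map_smul, LinearMap.add_apply, LinearMap.smul_apply, smul_eq_mul,
      hs.alt, g1, a2, g4, g5, hs.skew (τ _) (pr y), hs.skew (τ _) a, hs.skew a (pr y),
      hs.skew (τ a) (τ (pr y)), g2 (pr y) a]
    ring
  have hsurj : ∀ w, ∃ u v, w = co (u, v) := fun w => by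
    obtain ⟨i, j, k, l, e⟩ := span4 hs.card (a := pr y) (b := τ (pr y)) (c := a) (d := τ a)
      (fun i j k l e => by
        have e' : co (![i, j], ![k, l]) = 0 := e
        have h1 := hB ![i, j] ![k, l] ![1, 0] 0
        have h2 := hB ![i, j] ![k, l] ![0, 1] 0
        have h3 := hB ![i, j] ![k, l] 0 ![1, 0]
        have h4 := hB ![i, j] ![k, l] 0 ![0, 1]
        simp [e', a1] at h1 h2 h3 h4
        exact ⟨h4, h3, h2, h1⟩) w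
    exact ⟨![i, j], ![k, l], e⟩
  refine ⟨co, _, a1, hB, hsurj, h.ind _ (fun q hq M hM u v => ?_) (fun M hM u v => ?_)
    (fun M hM u v => ?_) (fun p hp q hq e1 e2 M hM u v => ?_), by simp [hco]⟩
  · rw [hs.ac_Q hq hM, (h.pi.ker q (Qz_le z hq)).2 hq]; simp
  · rw [hs.ac_eq (C1_le_NQ z h.sC) (by simp) hM hA, eA, h.ps]
    simp [hco, y0, a0, k1 _ y0, k1 _ a0, uM, add_smul, Matrix.mulVec, dotProduct]
    abel
  · rw [hs.ac_eq (C1_le_NQ z h.sC') (by simp) hM hA', eA', h.ps']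
    simp [hco, hτ, lM, add_smul, Matrix.mulVec, dotProduct]
    abel
  · obtain ⟨M1, h1⟩ := hs.act p (C1_le_NQ z hp)
    obtain ⟨M2, h2⟩ := hs.act q (C1_le_NQ z hq)
    rw [hs.ac_eq (C1_le_NQ z (mul_mem hp hq)) (by simp) hM (hs.ac_mul (C1_le_NQ z hq) h1 h2),
      LinearMap.comp_apply, e2 _ h2, e1 _ h1, h.pi.mul p hp q hq, mulVec_mulVec, mulVec_mulVec]
    rfl

end Gen

end CfsgH1.L43
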