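import Cfsg.Agent.H1.L43Mod

/-! Elements of a group represented by codes of `PSL₄(3)`, and flat tables of subgroups. -/

set_option autoImplicit false

namespace CfsgH1.L43

open CfsgH3.TC CfsgH8 CfsgH9 Subgroup

universe u

variable {G : Type u} [Group G]

/-- the code of a word -/
noncomputable def wc (w : List ℕ) : ℕ := pM.wcode pT w

/-- the code of the identity -/
def o1 : ℕ := 1329227995786124798723422788966678529

/-- all letters are below `b` -/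
def Wl (b : ℕ) (w : List ℕ) : Prop := ∀ c ∈ w, c < b

instance instDecWl (b : ℕ) (w : List ℕ) : Decidable (Wl b w) := by unfold Wl; infer_instance

structure Env (val : ℕ → G) (b : ℕ) (R : G → ℕ → Prop) : Prop where
  h0 : val 0 = 1
  one : R 1 o1
  mul : ∀ {g k c e}, R g c → R k e → R (g * k) (pmul c e)
  inj : ∀ {g k c}, R g c → R k c → g = k
  fn : ∀ {g c e}, R g c → R g e → c = e
  wd : ∀ w, Wl b w → R (wval val w) (wc w)

theorem env_K : Env vK 24 fun g c => pM.enc g = c :=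
  ⟨vK0, pM.enc_one, fun h1 h2 => h1 ▸ h2 ▸ pM.enc_mul _ _, fun h1 h2 => pM.enc_inj (h1.trans h2.symm),
    fun h1 h2 => h1.symm.trans h2, fun _ hw => tab.enc_wval hw⟩

theorem env_of {n : ℕ} {val : ℕ → G} {ψ : gcl vK n →* G} (h : WM pM pT vK 12 n val ψ)
    (hψ : Function.Injective ψ) : Env val (2 * n + 2) (Rep pM ψ) :=
  ⟨h.g0, Rep.one, Rep.mul, Rep.eq, fun h1 h2 => Nat.eq_of_beq_eq_true (h1.beq hψ h2 rfl), h.rep⟩

/-- the subgroup generated by some words -/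
def wcl (val : ℕ → G) (Ws : List (List ℕ)) : Subgroup G := closure {g | ∃ w ∈ Ws, wval val w = g}

theorem mem_wcl {val : ℕ → G} {Ws : List (List ℕ)} (w : List ℕ) (h : w ∈ Ws := by decide) :
    wval val w ∈ wcl val Ws := subset_closure ⟨w, h, rfl⟩

theorem wcl_le {val : ℕ → G} {Ws : List (List ℕ)} {K : Subgroup G}
    (h : ∀ w ∈ Ws, wval val w ∈ K) : wcl val Ws ≤ K :=
  (closure_le _).2 fun _ ⟨w, hw, e⟩ => e ▸ h w hw

theorem wcl_mono {val : ℕ → G} {Ws Ws' : List (List ℕ)} (h : ∀ w ∈ Ws, w ∈ Ws' := by decide) :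
    wcl val Ws ≤ wcl val Ws' := wcl_le fun w hw => mem_wcl w (h w hw)

theorem wcl_gcl {val : ℕ → G} (h0 : val 0 = 1) {Ws : List (List ℕ)} (n : ℕ)
    (h : ∀ w ∈ Ws, Wl (2 * n + 2) w := by decide) : wcl val Ws ≤ gcl val n :=
  wcl_le fun w hw => wval_mem_gcl h0 (h w hw)

theorem gcl_eq (val : ℕ → G) (k : ℕ) : gcl val k = wcl val (subLetters k) := by
  refine le_antisymm (gcl_le fun a h1 h2 => ?_) (wcl_le fun w hw => ?_)
  · rw [← wval_single val a]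
    exact mem_wcl _ (List.mem_map.2 ⟨a - 1, List.mem_range.2 (by omega), by congr 1; omega⟩)
  · obtain ⟨a, ha, rfl⟩ := List.mem_map.1 hw
    exact wval_single val (a + 1) ▸ mem_gcl (by omega) (List.mem_range.1 ha)

theorem wcl_ind [Finite G] {val : ℕ → G} {Ws : List (List ℕ)} {P : G → Prop} (h1 : P 1)
    (h2 : ∀ g ∈ wcl val Ws, ∀ w ∈ Ws, P g → P (g * wval val w)) {g : G} (hg : g ∈ wcl val Ws) :
    P g := by
  have e := closure_toSubmonoid_of_finite (s := {g | ∃ w ∈ Ws, wval val w = g})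
  have hg' : g ∈ Submonoid.closure {g | ∃ w ∈ Ws, wval val w = g} := e ▸ hg
  induction hg' using Submonoid.closure_induction_right with
  | one => exact h1
  | mul_right x hx y hy ih =>
    obtain ⟨w, hw, rfl⟩ := hy
    have : x ∈ wcl val Ws := (e.symm ▸ hx : x ∈ (Subgroup.closure _).toSubmonoid)
    exact h2 x this w hw (ih this)

/-- a flat table of the elements of a subgroup -/
structure Tb where
  Ws : List (List ℕ)
  s : List ℕ
  m : ℕ
  t : ℕ → ℕ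
  P : ℕ → ℕ
  I : ℕ → ℕ

/-- packed arrays -/
noncomputable def pk (w mask : ℕ) (T : NT) (j : ℕ) : ℕ :=
  frcA j fun j => dg w mask (T.get (Nat.shiftRight j 9)) (Nat.land j 511)

/-- perfect hashing -/
noncomputable def hs (q p M : ℕ) (D I : ℕ → ℕ) (c : ℕ) : ℕ :=
  I (Nat.mod (Nat.add (Nat.mod c q) (D (Nat.mod c p))) M)

noncomputable def Tb.mem (T : Tb) (c : ℕ) : Bool :=
  frcA c fun c => frcA (T.I c) fun j => band (Nat.blt j T.m) (Nat.beq (T.t j) c)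

noncomputable def Tb.ck (T : Tb) (j : ℕ) : Bool :=
  frcA (T.t j) fun c => band (Nat.beq (T.I c) j)
    (band (allL T.s fun a => T.mem (pmul c a))
      (bor (Nat.beq c o1) (frcA (T.P j) fun q => band (Nat.blt (Nat.div q 16) j)
        (band (Nat.blt (Nat.mod q 16) T.s.length)
          (Nat.beq c (pmul (T.t (Nat.div q 16)) (T.s.getD (Nat.mod q 16) 0)))))))

structure Tb.Ok (T : Tb) (b : ℕ) : Prop where
  lt : ∀ w ∈ T.Ws, Wl b w
  s : T.Ws.map wc = T.s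
  one : T.mem o1 = true
  ck : allLt T.m T.ck = true

noncomputable def Tb.all (T : Tb) (p : ℕ → Bool) : Bool := allLt T.m fun j => frcA (T.t j) p

theorem Tb.mem_iff {T : Tb} {c : ℕ} : T.mem c = true ↔
    T.I c < T.m ∧ T.t (T.I c) = c := by
  rw [Tb.mem, frcA_eq, frcA_eq, band_iff, Nat.blt_eq, Nat.beq_eq]

theorem Tb.Ok.mono {T : Tb} {b b' : ℕ} (h : T.Ok b) (hb : b ≤ b') : T.Ok b' :=
  ⟨fun w hw c hc => (h.lt w hw c hc).trans_le hb, h.s, h.one, h.ck⟩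

theorem Tb.Ok.ck' {T : Tb} {b : ℕ} (h : T.Ok b) {j : ℕ} (hj : j < T.m) :
    T.I (T.t j) = j ∧ (∀ w ∈ T.Ws, T.mem (pmul (T.t j) (wc w)) = true) ∧
      (T.t j = o1 ∨ ∃ i < j, ∃ w ∈ T.Ws, T.t j = pmul (T.t i) (wc w)) := by
  have := allLt_iff.1 h.ck j hj
  simp only [Tb.ck, frcA_eq, band_iff, bor_iff, Nat.beq_eq, Nat.blt_eq, allL_iff, ← h.s,
    List.length_map] at this
  refine ⟨this.1, fun w hw => this.2.1 _ (List.mem_map_of_mem hw), this.2.2.imp_right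
    fun ⟨h1, h2, h3⟩ => ⟨_, h1, _, List.getElem_mem h2, ?_⟩⟩
  rw [h3, List.getD_eq_getElem _ _ (by simpa using h2), List.getElem_map]

namespace Env

variable {val : ℕ → G} {b : ℕ} {R : G → ℕ → Prop} (h : Env val b R)
include h

theorem mono {b' : ℕ} (hb : b' ≤ b) : Env val b' R :=
  ⟨h.h0, h.one, h.mul, h.inj, h.fn, fun w hw => h.wd w fun c hc => (hw c hc).trans_le hb⟩

theorem iff {g k : G} {c e : ℕ} (h1 : R g c) (h2 : R k e) : g = k ↔ c = e :=
  ⟨fun e => h.fn h1 (e ▸ h2), fun e => h.inj h1 (e ▸ h2)⟩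

theorem cm {g k : G} {c e : ℕ} (h1 : R g c) (h2 : R k e) : g * k = k * g ↔ pmul c e = pmul e c :=
  h.iff (h.mul h1 h2) (h.mul h2 h1)

theorem cj {g k a : G} {c e f : ℕ} (h1 : R g c) (h2 : R k e) (h3 : R a f) :
    g * k * g⁻¹ = a ↔ pmul c e = pmul f c := by
  rw [mul_inv_eq_iff_eq_mul]; exact h.iff (h.mul h1 h2) (h.mul h3 h1)

theorem o2 {g : G} {c : ℕ} (h1 : R g c) : g * g = 1 ↔ pmul c c = o1 := h.iff (h.mul h1 h1) h.one

theorem cube {g : G} {c : ℕ} (h1 : R g c) : R (g ^ 3) (pmul c (pmul c c)) :=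
  pow_three g ▸ h.mul h1 (h.mul h1 h1)

theorem o3 {g : G} {c : ℕ} (h1 : R g c) : g ^ 3 = 1 ↔ pmul c (pmul c c) = o1 :=
  h.iff (h.cube h1) h.one

theorem weq (w w' : List ℕ) (e : Wl b w ∧ Wl b w' ∧ wc w = wc w') : wval val w = wval val w' :=
  (h.iff (h.wd w e.1) (h.wd w' e.2.1)).2 e.2.2

theorem wne (w w' : List ℕ) (e : Wl b w ∧ Wl b w' ∧ wc w ≠ wc w') : wval val w ≠ wval val w' :=
  fun e' => e.2.2 ((h.iff (h.wd w e.1) (h.wd w' e.2.1)).1 e')

theorem wcm (w w' : List ℕ) (e : Wl b (w ++ w') ∧ Wl b (w' ++ w) ∧ wc (w ++ w') = wc (w' ++ w)) :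
    wval val w * wval val w' = wval val w' * wval val w := by
  rw [← wval_append, ← wval_append]; exact h.weq _ _ e

theorem wcj (w w' w'' : List ℕ)
    (e : Wl b (w ++ w') ∧ Wl b (w'' ++ w) ∧ wc (w ++ w') = wc (w'' ++ w)) :
    wval val w * wval val w' * (wval val w)⁻¹ = wval val w'' := by
  rw [mul_inv_eq_iff_eq_mul, ← wval_append, ← wval_append]; exact h.weq _ _ e

theorem rels {Rs : List (List ℕ)} (e : ∀ w ∈ Rs, Wl b w ∧ wc w = o1) : RelsHold val Rs :=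
  fun w hw => (h.iff (h.wd w (e w hw).1) h.one).2 (e w hw).2

variable {T : Tb} (hT : T.Ok b)
include hT

theorem sound {j : ℕ} (hj : j < T.m) : ∃ g ∈ wcl val T.Ws, R g (T.t j) := by
  induction j using Nat.strong_induction_on with
  | _ j ih =>
    rcases (hT.ck' hj).2.2 with e | ⟨i, hi, w, hw, e⟩
    · exact ⟨1, one_mem _, e ▸ h.one⟩
    · obtain ⟨g, h1, h2⟩ := ih i hi (hi.trans hj)
      exact ⟨_, mul_mem h1 (mem_wcl w hw), e ▸ h.mul h2 (h.wd w (hT.lt w hw))⟩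

theorem of_mem {g : G} {c : ℕ} (h1 : R g c) (e : T.mem c = true) : g ∈ wcl val T.Ws := by
  obtain ⟨h2, h3⟩ := Tb.mem_iff.1 e
  obtain ⟨k, h4, h5⟩ := h.sound hT h2
  exact h.inj (h3 ▸ h5) h1 ▸ h4

theorem wmem (w : List ℕ) (e : Wl b w ∧ T.mem (wc w) = true) : wval val w ∈ wcl val T.Ws :=
  h.of_mem hT (h.wd w e.1) e.2

variable [Finite G]

theorem compl {g : G} (hg : g ∈ wcl val T.Ws) : ∃ j < T.m, R g (T.t j) := by
  refine wcl_ind (P := fun g => ∃ j < T.m, R g (T.t j)) ?_ ?_ hg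
  · obtain ⟨h1, h2⟩ := Tb.mem_iff.1 hT.one
    exact ⟨_, h1, h2.symm ▸ h.one⟩
  · rintro g - w hw ⟨j, hj, h1⟩
    obtain ⟨h2, h3⟩ := Tb.mem_iff.1 ((hT.ck' hj).2.1 w hw)
    exact ⟨_, h2, h3.symm ▸ h.mul h1 (h.wd w (hT.lt w hw))⟩

theorem all {p : ℕ → Bool} (hp : T.all p = true) {g : G} (hg : g ∈ wcl val T.Ws) :
    ∃ c, R g c ∧ p c = true := by
  obtain ⟨j, hj, h1⟩ := h.compl hT hg
  exact ⟨_, h1, frcA_eq _ p ▸ allLt_iff.1 hp j hj⟩

theorem alld (p : ℕ → Prop) [DecidablePred p] (hp : T.all (fun c => decide (p c)) = true) {g : G}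
    (hg : g ∈ wcl val T.Ws) : ∃ c, R g c ∧ p c :=
  let ⟨c, h1, h2⟩ := h.all hT hp hg
  ⟨c, h1, of_decide_eq_true h2⟩

theorem mem {g : G} {c : ℕ} (h1 : R g c) : g ∈ wcl val T.Ws ↔ T.mem c = true := by
  refine ⟨fun hg => ?_, h.of_mem hT h1⟩
  obtain ⟨j, hj, h2⟩ := h.compl hT hg
  rw [h.fn h1 h2, Tb.mem_iff, (hT.ck' hj).1]
  exact ⟨hj, rfl⟩

theorem wnot (w : List ℕ) (e : Wl b w ∧ T.mem (wc w) = false) : wval val w ∉ wcl val T.Ws :=
  fun e' => by simpa [e.2] using (h.mem hT (h.wd w e.1)).1 e'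

theorem card : Nat.card (wcl val T.Ws) = T.m := by
  choose f h1 h2 using fun j : Fin T.m => h.sound hT j.2
  rw [← Nat.card_eq_of_bijective (fun j => (⟨f j, h1 j⟩ : wcl val T.Ws)) ⟨fun i j e => ?_, fun g => ?_⟩]
  · simp
  · have := h.fn (h2 i) ((show f j = f i from (congrArg Subtype.val e).symm) ▸ h2 j)
    exact Fin.ext (by rw [← (hT.ck' i.2).1, this, (hT.ck' j.2).1])
  · obtain ⟨j, hj, h3⟩ := h.compl hT g.2
    exact ⟨⟨j, hj⟩, Subtype.ext (h.inj (h2 _) h3)⟩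

theorem exists_rho {M : Type} [Group M] [DecidableEq M] (φ : ℕ → M) (h1 : φ o1 = 1)
    (hm : T.all (fun c => allL T.s fun a => decide (φ (pmul c a) = φ c * φ a)) = true) :
    ∃ ρ : wcl val T.Ws →* M, ∀ g c, R g.1 c → ρ g = φ c := by
  choose f h2 h3 using fun g : wcl val T.Ws => h.compl hT g.2
  have e : ∀ g c, R g.1 c → φ (T.t (f g)) = φ c := fun g c e => by rw [h.fn (h3 g) e]
  refine ⟨MonoidHom.mk' (fun g => φ (T.t (f g))) fun a k => ?_, e⟩
  obtain ⟨k, hk⟩ := k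
  refine wcl_ind (P := fun k => ∀ hk, φ (T.t (f (a * ⟨k, hk⟩))) =
    φ (T.t (f a)) * φ (T.t (f ⟨k, hk⟩))) (fun _ => ?_) (fun g hg w hw ih _ => ?_) hk hk
  · rw [e ⟨1, _⟩ _ h.one, h1, mul_one]; congr 3; exact mul_one a
  · have key : ∀ g : wcl val T.Ws, φ (T.t (f (g * ⟨_, mem_wcl w hw⟩))) =
        φ (T.t (f g)) * φ (wc w) := fun g => by
      obtain ⟨c, h4, h5⟩ := h.all hT hm g.2
      rw [e g c h4, e _ _ (h.mul h4 (h.wd w (hT.lt w hw)))]
      exact of_decide_eq_true (allL_iff.1 h5 _ (hT.s ▸ List.mem_map_of_mem hw))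
    have := key (a * ⟨g, hg⟩)
    rw [ih hg, mul_assoc, mul_assoc, ← key] at this
    exact this

end Env

end CfsgH1.L43
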