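import Cfsg.Agent.H1.L43Rel
import Cfsg.Agent.H1.CTSL3
import Cfsg.Agent.H6.PSLSmall
import Cfsg.Agent.H9.P43Sp
import Cfsg.Agent.H9.Spectrum

/-! A model of `PSL₄(3)` and flat lists of elements of subgroups. -/

set_option autoImplicit false
set_option maxRecDepth 100000

namespace CfsgH1.L43

open CfsgH3.TC CfsgH8 CfsgH9 CfsgH9.P43 Subgroup Matrix

abbrev SL4 : Type := Matrix.SpecialLinearGroup (Fin 4) (ZMod 3)
abbrev PS : Type := Matrix.ProjectiveSpecialLinearGroup (Fin 4) (ZMod 3)

theorem frcA_eq {α : Type} (x : ℕ) (f : ℕ → α) : frcA x f = f x := by cases x <;> rfl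

noncomputable def red (c : ℕ) : ℕ := Nat.sub c (Nat.mul 3 (Nat.land (Nat.shiftRight (Nat.mul c 11) 5)
  9341084582143408800955381380479911687))

noncomputable def nrc (a : ℕ) : ℕ := frcA (frcA (Nat.add a a) red) fun b => Bool.rec b a (Nat.ble a b)

noncomputable def raw4 (a b : ℕ) : ℕ :=
  Nat.add (Nat.add (Nat.add
    (Nat.mul (Nat.land a 20203181445841325826244859658495) (Nat.land b 4294967295))
    (Nat.mul (Nat.land (Nat.shiftRight a 8) 20203181445841325826244859658495) (Nat.land (Nat.shiftRight b 32) 4294967295)))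
    (Nat.mul (Nat.land (Nat.shiftRight a 16) 20203181445841325826244859658495) (Nat.land (Nat.shiftRight b 64) 4294967295)))
    (Nat.mul (Nat.land (Nat.shiftRight a 24) 20203181445841325826244859658495) (Nat.land (Nat.shiftRight b 96) 4294967295))

noncomputable def pmul (a b : ℕ) : ℕ :=
  frcA a fun a => frcA b fun b => frcA (frcA (raw4 a b) red) nrc

noncomputable def ec (A : Matrix (Fin 4) (Fin 4) (ZMod 3)) : ℕ := encMat 4 3 8 A

theorem ec_neg (A : Matrix (Fin 4) (Fin 4) (ZMod 3)) : red (Nat.add (ec A) (ec A)) = ec (-A) := by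
  have : -A = A + A := by
    ext i j
    exact (by decide : ∀ a : ZMod 3, -a = a + a) _
  rw [this, ec, ec, encMat_add sp_ok (by norm_num)]
  rfl

theorem nrc_eq (A : Matrix (Fin 4) (Fin 4) (ZMod 3)) : nrc (ec A) = min (ec A) (ec (-A)) := by
  rw [nrc, frcA_eq, frcA_eq, ec_neg]
  cases h : Nat.ble (ec A) (ec (-A))
  · exact (min_eq_right (Nat.le_of_lt (Nat.lt_of_not_le (by rw [← Nat.ble_eq, h]; simp)))).symm
  · exact (min_eq_left (Nat.le_of_ble_eq_true h)).symm

theorem nrc_neg (A : Matrix (Fin 4) (Fin 4) (ZMod 3)) : nrc (ec (-A)) = nrc (ec A) := by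
  rw [nrc_eq, nrc_eq, neg_neg, min_comm]

theorem nrc_cases (A : Matrix (Fin 4) (Fin 4) (ZMod 3)) :
    nrc (ec A) = ec A ∨ nrc (ec A) = ec (-A) := by
  rw [nrc_eq]; exact min_choice _ _

theorem pmul_ec (A B : Matrix (Fin 4) (Fin 4) (ZMod 3)) : pmul (ec A) (ec B) = nrc (ec (A * B)) := by
  rw [pmul, frcA_eq, frcA_eq, frcA_eq, frcA_eq, ec.eq_1 (A * B), encMat_mul sp_ok]
  congr 2
  change _ = Nat.add (Nat.add (Nat.add (Nat.add 0 _) _) _) _
  rw [show ∀ a, Nat.add 0 a = a from Nat.zero_add]
  rfl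

theorem mk_eq {g h : SL4} : (g : PS) = h ↔ h.1 = g.1 ∨ h.1 = -g.1 := by
  rw [QuotientGroup.eq, Matrix.SpecialLinearGroup.mem_center_iff]
  have e : g.1 * (g⁻¹ * h).1 = h.1 := congrArg Subtype.val (mul_inv_cancel_left g h)
  have e' : (g⁻¹ * h).1 = g⁻¹.1 * h.1 := rfl
  have e'' : g⁻¹.1 * g.1 = 1 := congrArg Subtype.val (inv_mul_cancel g)
  constructor
  · rintro ⟨r, h1, h2⟩
    rw [← e, ← h2]
    rcases (by decide : ∀ r : ZMod 3, r ^ 4 = 1 → r = 1 ∨ r = -1) r (by simpa using h1) with rfl | rfl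
    · simp
    · rw [map_neg, map_one]; simp
  · rintro (h1 | h1)
    · exact ⟨1, by simp, by rw [e', h1, e'']; simp⟩
    · exact ⟨-1, by decide, by rw [e', h1, mul_neg, e'', map_neg, map_one]⟩

noncomputable def penc (q : PS) : ℕ := nrc (ec q.out.1)

theorem penc_mk (g : SL4) : penc g = nrc (ec g.1) := by
  rcases mk_eq.1 (QuotientGroup.out_eq' (g : PS)).symm with h | h
  · rw [penc, h]
  · rw [penc, h, nrc_neg]

attribute [irreducible] penc

noncomputable def pM : Model PS where
  enc := penc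
  one := 1329227995786124798723422788966678529
  mul := pmul
  enc_one := (penc_mk 1).trans (by decide +kernel)
  enc_mul := by
    rintro ⟨g⟩ ⟨h⟩
    change penc (g * h : SL4) = pmul (penc (g : SL4)) (penc (h : SL4))
    rw [penc_mk, penc_mk, penc_mk, show (g * h).1 = g.1 * h.1 from rfl]
    rcases nrc_cases g.1 with e | e <;> rcases nrc_cases h.1 with e' | e' <;>
      simp only [e, e', pmul_ec, mul_neg, neg_mul, neg_neg, nrc_neg]
  enc_inj := by
    rintro ⟨g⟩ ⟨h⟩ e
    change penc (g : SL4) = penc (h : SL4) at e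
    rw [penc_mk, penc_mk] at e
    have hi : ∀ {A B}, ec A = ec B → A = B := fun e => encMat_inj (by norm_num) e
    refine mk_eq.2 ?_
    rcases nrc_cases g.1 with e1 | e1 <;> rcases nrc_cases h.1 with e2 | e2 <;> rw [e1, e2] at e
    · exact Or.inl (hi e).symm
    · exact Or.inr (by rw [hi e, neg_neg])
    · exact Or.inr (hi e).symm
    · exact Or.inl (neg_injective (hi e)).symm

theorem enc_mk (g : SL4) : pM.enc g = nrc (ec g.1) :=
  (congrFun (show pM.enc = penc from rfl) _).trans (penc_mk g)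

def ea (a : ℕ) : Fin 4 × Fin 4 := ([(0, 0)] ++ [(0, 3), (1, 3), (2, 3), (0, 2), (1, 2), (0, 1), (2, 1), (1, 0), (2, 0), (3, 2), (3, 1)] : List (Fin 4 × Fin 4)).getD a (0, 0)

noncomputable def vK (a : ℕ) : PS := (el (ea a).1 (ea a).2 (1 : ZMod 3) : SL4)

noncomputable def pT : NT := (.node (.node (.node (.node (.node (.leaf (nat_lit 1329227995786124798723422788966678529)) (.leaf (nat_lit 1329227995786124798723422793261645825))) (.leaf (nat_lit 1329227995786124798723422788966744065))) (.node (.node (.leaf (nat_lit 1329227995786124798795480383004606465)) (.leaf (nat_lit 1334420292644659626351953285295898625))) (.leaf (nat_lit 1329227995786124798723422788966678785)))) (.node (.node (.node (.leaf (nat_lit 1329227995786124798723422788983455745)) (.leaf (nat_lit 1329227995786124817170166862676230145))) (.leaf (nat_lit 1329227995786124798723704263943389185))) (.node (.node (.leaf (nat_lit 1329227996095609808544767857691459585)) (.leaf (nat_lit 1329248278195728450393846736217964545))) (.leaf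 (nat_lit 1329227995786129521089905658611892225))))) (.node (.node (.node (.node (.leaf (nat_lit 1329227995786124798723422788966678529)) (.leaf (nat_lit 1329227995786124798723422797556613121))) (.leaf (nat_lit 1329227995786124798723422788966809601))) (.node (.node (.leaf (nat_lit 1329227995786124798867537977042534401)) (.leaf (nat_lit 1339612589503194453980483781625118721))) (.leaf (nat_lit 1329227995786124798723422788966679041)))) (.node (.node (.node (.leaf (nat_lit 1329227995786124798723422789000232961)) (.leaf (nat_lit 1329227995786124835616910936385781761))) (.leaf (nat_lit 1329227995786124798723985738920099841))) (.node (.node (.leaf (nat_lit 1329227996405094818366112926416240641)) (.leaf (nat_lit 1329268560605332102064270683469250561))) (.leaf (nat_lit 1329227995786134243456388528257105921))))))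

theorem vK0 : vK 0 = 1 := rfl

theorem tab : pM.Tab pT vK (2 * 12) := by
  have h : ∀ a < 12, nrc (ec (el (ea a).1 (ea a).2 (1 : ZMod 3)).1) = pT.get (2 * a) ∧
      nrc (ec (el (ea a).1 (ea a).2 (-1 : ZMod 3)).1) = pT.get (2 * a + 1) ∧
      pM.mul (pT.get (2 * a)) (pT.get (2 * a + 1)) = pM.one := by decide +kernel
  intro c hc
  obtain ⟨a, rfl | rfl⟩ := Nat.even_or_odd' c
  · rw [show sval vK (2 * a) = vK a by simp [sval], vK, enc_mk, (h a (by omega)).1]
  · obtain ⟨h1, h2, h3⟩ := h a (by omega)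
    rw [← h1, ← h2, ← enc_mk, ← enc_mk, ← pM.enc_mul, ← pM.enc_one] at h3
    rw [sval, if_neg (by omega), show (2 * a + 1) / 2 = a by omega, vK,
      inv_eq_of_mul_eq_one_right (pM.enc_inj h3), enc_mk, h2]

theorem rK11 : RelsHold vK R11 := tab.relsHold (by decide) (by decide +kernel)

theorem rK7 : RelsHold vK R7 := tab.relsHold (by decide) (by decide +kernel)

theorem rK9 : RelsHold vK R9 := rK11.mono (by decide)

theorem card_PS : Nat.card PS = 6065280 := by
  have h1 := CfsgH3.card_SL_mul (F := ZMod 3) (n := Fin 4)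
  rw [card_GL_field, Nat.card_zmod] at h1
  have h2 := CfsgH6.card_psl_mul 4 (ZMod 3)
  have h3 : Nat.card (center SL4) = 2 := by
    rw [Nat.card_eq_two_iff' (1 : center SL4)]
    refine ⟨⟨⟨-1, by decide⟩, Matrix.SpecialLinearGroup.mem_center_iff.2 ⟨-1, by decide, by rw [map_neg, map_one]⟩⟩, by
      intro e
      have := congrArg (fun g : center SL4 => g.1.1 0 0) e
      revert this
      decide, fun g hg => ?_⟩
    rcases mk_eq.1 ((QuotientGroup.eq_one_iff g.1).2 g.2).symm with e | e
    · exact absurd (Subtype.ext (Subtype.ext e)) hg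
    · exact Subtype.ext (Subtype.ext e)
  rw [h3] at h2
  simp [Fin.prod_univ_succ] at h1
  change Nat.card PS * 2 = _ at h2
  rw [Nat.card_eq_fintype_card (α := Matrix.SpecialLinearGroup _ _)] at h2
  omega

theorem gcl_top : gcl vK 11 = ⊤ := by
  have h : (gcl vK 11).comap (QuotientGroup.mk' _) = ⊤ := mem_of_el fun i j t => by
    have h1 : ∀ i j : Fin 4, ∀ t : ZMod 3, ∃ w ∈ ([[]] ++ (List.range 24).map (fun c => [c]) ++
        [[22, 16, 23, 17], [16, 22, 17, 23]] : List (List ℕ)), (∀ c ∈ w, c < 24) ∧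
        pM.wcode pT w = nrc (ec (el i j t).1) := by decide +kernel
    obtain ⟨w, -, h2, h3⟩ := h1 i j t
    rw [← enc_mk, ← tab.enc_wval h2] at h3
    rw [mem_comap, QuotientGroup.mk'_apply, ← pM.enc_inj h3]
    exact wval_mem_gcl vK0 h2
  rw [eq_top_iff]
  rintro ⟨g⟩ -
  exact (h.ge (mem_top g) : _)

theorem card11 : Nat.card (gcl vK 11) = 6065280 := by rw [gcl_top, card_top, card_PS]

theorem card9 : Nat.card (gcl vK 9) = 151632 := by
  have h1 := ((l11_cos vK0 rK11).bd (N := Nat.card (gcl vK 9)) ⟨inferInstance, le_rfl⟩ rfl).2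
  have h2 := (bd9 vK0 rK9).2
  rw [card11, show l11W.length = 40 from rfl] at h1
  omega

theorem card7 : Nat.card (gcl vK 7) = 5832 := by
  have h1 := ((l9_cos vK0 rK9).bd (N := Nat.card (gcl vK 7)) ⟨inferInstance, le_rfl⟩ rfl).2
  have h2 := ((l7_cos vK0 rK7).bd (bd6 vK0 rK9) rfl).2
  rw [card9, show l9W.length = 26 from rfl] at h1
  rw [show l7W.length = 8 from rfl] at h2
  omega

theorem card6 : Nat.card (gcl vK 6) = 729 := by
  have h1 := ((l7_cos vK0 rK7).bd (N := Nat.card (gcl vK 6)) ⟨inferInstance, le_rfl⟩ rfl).2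
  have h2 := (bd6 vK0 rK9).2
  rw [card7, show l7W.length = 8 from rfl] at h1
  omega

end CfsgH1.L43
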