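import Cfsg.Agent.H1.L43Tab
import Cfsg.Agent.H1.L43Gen

/-! Tables of conjugates. -/

set_option autoImplicit false

namespace CfsgH1.L43

open CfsgH3.TC CfsgH8 CfsgH9 Subgroup CfsgH5 CfsgFT

universe u

variable {G : Type u} [Group G]

noncomputable def Tb.cko (T : Tb) (si : List ℕ) (r j : ℕ) : Bool :=
  frcA (T.t j) fun c => band (Nat.beq (T.I c) j)
    (bor (Nat.beq c r) (frcA (T.P j) fun q => band (Nat.blt (Nat.div q 16) j)
      (band (Nat.blt (Nat.mod q 16) T.s.length) (Nat.beq c (pmul (pmul (T.s.getD (Nat.mod q 16) 0)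
        (T.t (Nat.div q 16))) (si.getD (Nat.mod q 16) 0))))))

structure Tb.Oo (T : Tb) (n : ℕ) (w : List ℕ) : Prop where
  lt : ∀ w ∈ T.Ws, Wl (2 * n + 2) w
  s : T.Ws.map wc = T.s
  wl : Wl (2 * n + 2) w
  ck : ∃ si r, T.Ws.map (fun w => wc (invW w)) = si ∧ wc w = r ∧ allLt T.m (T.cko si r) = true

theorem Tb.Oo.ck' {T : Tb} {n : ℕ} {w0 : List ℕ} (h : T.Oo n w0) {j : ℕ} (hj : j < T.m) :
    T.I (T.t j) = j ∧ (T.t j = wc w0 ∨ ∃ i < j, ∃ w ∈ T.Ws,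
      T.t j = pmul (pmul (wc w) (T.t i)) (wc (invW w))) := by
  obtain ⟨_, _, rfl, rfl, e⟩ := h.ck
  have := allLt_iff.1 e j hj
  simp only [Tb.cko, frcA_eq, band_iff, bor_iff, Nat.beq_eq, Nat.blt_eq, ← h.s,
    List.length_map] at this
  refine ⟨this.1, this.2.imp_right fun ⟨h1, h2, h3⟩ => ⟨_, h1, _, List.getElem_mem h2, ?_⟩⟩
  rwa [List.getD_eq_getElem _ _ (by simpa using h2), List.getD_eq_getElem _ _ (by simpa using h2),
    List.getElem_map, List.getElem_map] at h3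

theorem Wl.inv {n : ℕ} {w : List ℕ} (h : Wl (2 * n + 2) w) : Wl (2 * n + 2) (invW w) :=
  invW_lt (n := n + 1) h

theorem Wl.mono {b b' : ℕ} {w : List ℕ} (h : Wl b w) (hb : b ≤ b') : Wl b' w :=
  fun c hc => (h c hc).trans_le hb

/-- `g` is conjugate to `a` by an element of `H` -/
def Cj (H : Subgroup G) (a g : G) : Prop := ∃ h ∈ H, h * a * h⁻¹ = g

theorem Cj.mono {H K : Subgroup G} {a g : G} (h : Cj H a g) (hK : H ≤ K) : Cj K a g :=
  let ⟨k, h1, h2⟩ := h; ⟨k, hK h1, h2⟩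

theorem Cj.trans {H : Subgroup G} {a b g : G} (h : Cj H a b) (h' : Cj H b g) : Cj H a g := by
  obtain ⟨k, h1, rfl⟩ := h
  obtain ⟨l, h2, rfl⟩ := h'
  exact ⟨l * k, mul_mem h2 h1, by group⟩

theorem Cj.symm {H : Subgroup G} {a g : G} (h : Cj H a g) : Cj H g a := by
  obtain ⟨k, h1, rfl⟩ := h
  exact ⟨k⁻¹, inv_mem h1, by group⟩

theorem Cj.C1_le {H : Subgroup G} {a g : G} (h : Cj H a g) (hC : C1 a ≤ H) : C1 g ≤ H := by
  obtain ⟨k, h1, rfl⟩ := h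
  rw [← cj_C1]
  exact cj_le_of_le hC h1

theorem Cj.ctrl {H : Subgroup G} {a g : G} (h : Cj H a g) (hC : ∀ k, k * a * k⁻¹ ∈ H → k ∈ H)
    (k : G) (hk : k * g * k⁻¹ ∈ H) : k ∈ H := by
  obtain ⟨l, h1, rfl⟩ := h
  exact (mul_mem_cancel_right h1).1 (hC (k * l) (by convert hk using 1; group))

namespace Env

variable {val : ℕ → G} {b : ℕ} {R : G → ℕ → Prop} (h : Env val b R)
include h

theorem osound {T : Tb} {n : ℕ} {w0 : List ℕ} (hT : T.Oo n w0) (hb : 2 * n + 2 ≤ b) {j : ℕ}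
    (hj : j < T.m) : ∃ k ∈ gcl val n, R (k * wval val w0 * k⁻¹) (T.t j) := by
  induction j using Nat.strong_induction_on with
  | _ j ih =>
    rcases (hT.ck' hj).2 with e | ⟨i, hi, w, hw, e⟩
    · exact ⟨1, one_mem _, by simpa [e] using h.wd _ (hT.wl.mono hb)⟩
    · obtain ⟨g, h1, h2⟩ := ih i hi (hi.trans hj)
      refine ⟨_, mul_mem (wval_mem_gcl h.h0 (hT.lt w hw)) h1, ?_⟩
      have := h.mul (h.mul (h.wd w ((hT.lt w hw).mono hb)) h2) (h.wd _ ((hT.lt w hw).inv.mono hb))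
      rw [wval_invW, ← e] at this
      convert this using 1
      group

theorem ocj {T : Tb} {n : ℕ} {w0 : List ℕ} (hT : T.Oo n w0) {g : G} {c : ℕ} (h1 : R g c)
    (e : T.mem c = true) (hb : 2 * n + 2 ≤ b := by norm_num) : Cj (gcl val n) (wval val w0) g := by
  obtain ⟨h2, h3⟩ := Tb.mem_iff.1 e
  obtain ⟨k, h4, h5⟩ := h.osound hT hb h2
  exact ⟨k, h4, h.inj (h3 ▸ h5) h1⟩

theorem owcj {T : Tb} {n : ℕ} {w0 : List ℕ} (hT : T.Oo n w0) (w : List ℕ)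
    (e : Wl b w ∧ T.mem (wc w) = true) (hb : 2 * n + 2 ≤ b := by norm_num) :
    Cj (gcl val n) (wval val w0) (wval val w) := h.ocj hT (h.wd w e.1) e.2 hb

theorem wmemC {T : Tb} (hT : T.Ok b) (w : List ℕ)
    (e : Wl b w ∧ ∀ a ∈ T.Ws, pmul (wc a) (wc w) = pmul (wc w) (wc a)) :
    wcl val T.Ws ≤ C1 (wval val w) :=
  wcl_le fun a ha => mem_C1.2 ((h.cm (h.wd a (hT.lt a ha)) (h.wd w e.1)).2 (e.2 a ha))

variable [Finite G]

theorem ocent {T K : Tb} {n : ℕ} {w0 : List ℕ} (hT : T.Oo n w0) (hK : K.Ok (2 * n + 2))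
    (e : ∀ a ∈ K.Ws, pmul (wc a) (wc w0) = pmul (wc w0) (wc a))
    (hc : Nat.card (gcl val n) ≤ T.m * K.m) (hb : 2 * n + 2 ≤ b := by norm_num) :
    gcl val n ⊓ C1 (wval val w0) = wcl val K.Ws := by
  refine (eq_of_le_of_card_le (le_inf (wcl_gcl h.h0 n hK.lt)
    (h.wmemC (hK.mono hb) w0 ⟨hT.wl.mono hb, e⟩)) ?_).symm
  choose f h1 h2 using fun j : Fin T.m => h.osound hT hb j.2
  have h3 := Nat.card_le_card_of_injective (fun p : Fin T.m × (gcl val n ⊓ C1 (wval val w0) :) =>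
    (⟨f p.1 * p.2, mul_mem (h1 _) p.2.2.1⟩ : gcl val n)) (by
    rintro ⟨i, a, a1, a2⟩ ⟨j, c, c1, c2⟩ e
    have e1 : f i * a = f j * c := congrArg Subtype.val e
    have e2 : f i * wval val w0 * (f i)⁻¹ = f j * wval val w0 * (f j)⁻¹ := by
      calc _ = f i * a * wval val w0 * (f i * a)⁻¹ := by
            conv_lhs => rw [← mem_C1_iff_conj.1 a2]
            group
        _ = f j * (c * wval val w0 * c⁻¹) * (f j)⁻¹ := by rw [e1]; group
        _ = _ := by rw [mem_C1_iff_conj.1 c2]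
    have e3 : i = j := Fin.ext (by
      rw [← (hT.ck' i.2).1, h.fn (h2 i) (e2 ▸ h2 j), (hT.ck' j.2).1])
    subst e3
    exact Prod.ext rfl (Subtype.ext (mul_left_cancel e1)))
  rw [Nat.card_prod, Nat.card_eq_fintype_card (α := Fin _), Fintype.card_fin] at h3
  rw [h.card (hK.mono hb)]
  refine Nat.le_of_mul_le_mul_left (h3.trans hc) (Nat.pos_of_ne_zero fun e => ?_)
  have := card_pos (gcl val n)
  rw [e] at hc
  omega

theorem nrm {T : Tb} {n : ℕ} (hT : T.Ok b) (Ws : List (List ℕ))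
    (e : ∀ w ∈ Ws, Wl (2 * n + 2) w ∧ ∀ a ∈ T.Ws, T.mem (wc (w ++ a ++ invW w)) = true)
    (hb : 2 * n + 2 ≤ b := by norm_num) : Nrm (wcl val Ws) (wcl val T.Ws) :=
  nrm_of_le_N (wcl_le fun w hw => mem_N_of_cj_le (cj_le_iff.2 (wcl_le fun a ha => by
    have := h.wmem hT (w ++ a ++ invW w) ⟨by
      simp only [Wl, List.mem_append]
      rintro c ((e1 | e1) | e1)
      exacts [((e w hw).1.mono hb) c e1, hT.lt a ha c e1, ((e w hw).1.inv.mono hb) c e1],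
      (e w hw).2 a ha⟩
    rw [wval_append, wval_append, wval_invW] at this
    rwa [mem_cj, inv_inv])))

theorem rho {T : Tb} (hT : T.Ok b) {M : Type} [Group M] [DecidableEq M] (φ : ℕ → M) (h1 : φ o1 = 1)
    (hm : T.all (fun c => allL T.s fun a => decide (φ (pmul c a) = φ c * φ a)) = true)
    (hs : ∀ m, ∃ j < T.m, φ (T.t j) = m) :
    ∃ ρ : wcl val T.Ws →* M, Function.Surjective ρ ∧ ∀ g c, R g.1 c → ρ g = φ c := by
  obtain ⟨ρ, e⟩ := h.exists_rho hT φ h1 hm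
  refine ⟨ρ, fun m => ?_, e⟩
  obtain ⟨j, hj, rfl⟩ := hs m
  obtain ⟨g, h2, h3⟩ := h.sound hT hj
  exact ⟨⟨g, h2⟩, e _ _ h3⟩

theorem exp {T : Tb} (hT : T.Ok b) (hp : T.all (fun c => decide (pmul c (pmul c c) = o1)) = true)
    {g : G} (hg : g ∈ wcl val T.Ws) : g ^ 3 = 1 :=
  let ⟨_, h1, h2⟩ := h.alld hT _ hp hg
  (h.o3 h1).2 h2

theorem ab {T : Tb} (hT : T.Ok b)
    (e : ∀ w ∈ T.Ws, ∀ a ∈ T.Ws, pmul (wc a) (wc w) = pmul (wc w) (wc a)) : Ab (wcl val T.Ws) :=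
  wcl_le fun w hw => le_C1_iff.1 (h.wmemC hT w ⟨hT.lt w hw, e w hw⟩)

theorem pg {T : Tb} (hT : T.Ok b) (n : ℕ) (e : T.m = 3 ^ n := by rfl) : IsPGroup 3 (wcl val T.Ws) :=
  IsPGroup.of_card ((h.card hT).trans e)

end Env

end CfsgH1.L43
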