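import Cfsg.Agent.H1.L43Sym
import Cfsg.Agent.H7.Loc1

/-! Quadratic action on the symplectic space. -/

set_option autoImplicit false
set_option linter.unusedSectionVars false

namespace CfsgH1.L43

open Subgroup CfsgH5 CfsgH6 CfsgFT CfsgH9 CfsgH9.P43 CfsgH7 Matrix

universe u

section module

variable {W : Type u} [AddCommGroup W] [Module F3 W]

theorem three (w : W) : w + w + w = 0 := by
  have : (1 + 1 + 1 : F3) • w = 0 := by rw [show (1 + 1 + 1 : F3) = 0 by decide, zero_smul]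
  simpa only [add_smul, one_smul] using this

theorem half {U : Submodule F3 W} {w : W} (h : w + w ∈ U) : w ∈ U := by
  rw [eq_neg_of_add_eq_zero_right (three w)]; exact neg_mem h

theorem span4 (hc : Nat.card W = 81) {a b c d : W}
    (h : ∀ i j k l : F3, i • a + j • b + k • c + l • d = 0 → i = 0 ∧ j = 0 ∧ k = 0 ∧ l = 0)
    (w : W) : ∃ i j k l : F3, w = i • a + j • b + k • c + l • d := by
  haveI : Finite W := Nat.finite_of_card_ne_zero (by omega)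
  let f : F3 × F3 × F3 × F3 → W := fun p => p.1 • a + p.2.1 • b + p.2.2.1 • c + p.2.2.2 • d
  have hf : Function.Injective f := by
    rintro ⟨i, j, k, l⟩ ⟨i', j', k', l'⟩ e
    obtain ⟨h1, h2, h3, h4⟩ := h (i - i') (j - j') (k - k') (l - l') (by
      simp only [f] at e
      simp only [sub_smul]
      rw [← sub_eq_zero] at e
      rw [← e]; abel)
    rw [sub_eq_zero] at h1 h2 h3 h4
    simp [*]
  obtain ⟨p, hp⟩ := ((Nat.bijective_iff_injective_and_card f).2 ⟨hf, by simp [hc]⟩).2 w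
  exact ⟨_, _, _, _, hp.symm⟩

variable {σ τ T : W →ₗ[F3] W} (hσ : ∀ w, σ (σ w) = 0) (hτ : ∀ w, τ (τ w) = 0)
  (hT : ∀ w, T w = (w + τ w + σ (w + τ w)) + τ (w + τ w + σ (w + τ w)) +
    σ ((w + τ w + σ (w + τ w)) + τ (w + τ w + σ (w + τ w))))
include hσ hτ hT

theorem gi_T (w : W) : T w - σ (T w) - τ (T w - σ (T w)) = w + τ w + σ (w + τ w) := by
  rw [hT]
  simp only [map_add, map_sub, hσ, hτ, map_zero]
  abel

theorem rel_of_neg {w : W} (h : T w = -w) : σ (τ w) + τ (σ w) = w := by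
  have := gi_T hσ hτ hT w
  rw [h] at this
  simp only [map_add, map_sub, map_neg] at this
  have h3 := three w
  linear_combination (norm := abel) -h3 - this

theorem fac (h2 : ∀ w, T (T w) = w) (h3 : ∀ w, σ (T w) = T (σ w)) (h4 : ∀ w, τ (T w) = T (τ w))
    {U U' : Submodule F3 W} (hle : U ≤ U') (i1 : ∀ w ∈ U, σ w ∈ U ∧ τ w ∈ U)
    (i2 : ∀ w ∈ U', σ w ∈ U' ∧ τ w ∈ U')
    (irr : ∀ X : Submodule F3 W, U ≤ X → X ≤ U' → (∀ w ∈ X, σ w ∈ X ∧ τ w ∈ X) → X = U ∨ X = U')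
    (nt : ∃ w ∈ U', σ w ∉ U ∨ τ w ∉ U) :
    ∃ w ∈ U', w ∉ U ∧ T w = -w ∧ σ w ∈ U := by
  have iT : ∀ {X : Submodule F3 W}, (∀ w ∈ X, σ w ∈ X ∧ τ w ∈ X) → ∀ w ∈ X, T w ∈ X := by
    intro X hX w hw
    have a1 := add_mem hw (hX w hw).2
    have a2 := add_mem a1 (hX _ a1).1
    have a3 := add_mem a2 (hX _ a2).2
    rw [hT]; exact add_mem a3 (hX _ a3).1
  have key : ∀ w ∈ U', T w + w ∈ U := by
    rcases irr (U' ⊓ U.comap (T + LinearMap.id)) (fun w hw => ⟨hle hw, by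
        simpa using add_mem (iT i1 w hw) hw⟩)
      inf_le_left (fun w hw => ⟨⟨(i2 w hw.1).1, by
        have := (i1 _ hw.2).1
        simpa [h3] using this⟩, (i2 w hw.1).2, by
        have := (i1 _ hw.2).2
        simpa [h4] using this⟩) with e | e
    swap
    · exact fun w hw => (e.ge hw).2
    exfalso
    have k1 : ∀ w ∈ U', σ w + σ w + τ w + τ w + σ (τ w) - τ (σ w) ∈ U := fun w hw => by
      have a1 : T w - w ∈ U := e.le ⟨sub_mem (iT i2 w hw) hw, by simp [h2]⟩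
      have a2 := sub_mem a1 (i1 _ a1).1
      have a3 := sub_mem a2 (i1 _ a2).2
      have a4 := gi_T hσ hτ hT w
      convert a3 using 1
      simp only [map_add, map_sub] at a4 ⊢
      linear_combination (norm := abel) -a4
    have k2 : ∀ w ∈ U', σ (τ (σ w)) ∈ U := fun w hw => half (by
      simpa [hσ] using (i1 _ (k1 _ (i2 w hw).1)).1)
    have k3 : ∀ w ∈ U', σ (τ w) ∈ U := fun w hw => half (by
      have := add_mem (i1 _ (k1 _ hw)).1 (k2 w hw)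
      simpa [hσ] using this)
    have k4 : ∀ w ∈ U', τ (σ w) ∈ U := fun w hw => half (by
      have := sub_mem (k1 _ (i2 w hw).1) (k2 w hw)
      simpa [hσ] using this)
    have k5 : ∀ w ∈ U', σ w ∈ U := by
      rcases irr (U' ⊓ U.comap σ) (fun w hw => ⟨hle hw, (i1 w hw).1⟩) inf_le_left
        (fun w hw => ⟨⟨(i2 w hw.1).1, by simp [hσ]⟩, (i2 w hw.1).2, k3 w hw.1⟩) with e | e
      · exact fun w hw => e.le ⟨(i2 w hw).1, by simp [hσ]⟩
      · exact fun w hw => (e.ge hw).2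
    obtain ⟨w, hw, h5 | h5⟩ := nt
    · exact h5 (k5 w hw)
    · refine h5 (half ?_)
      have := sub_mem (sub_mem (add_mem (sub_mem (k1 w hw) (k3 w hw)) (k4 w hw)) (k5 w hw)) (k5 w hw)
      convert this using 1
      abel
  obtain ⟨w, hw, h5, h6⟩ : ∃ w ∈ U', w ∉ U ∧ σ w ∈ U := by
    obtain ⟨w, hw, h5⟩ := nt
    by_cases h6 : σ w ∈ U
    · exact ⟨w, hw, fun e => h5.elim (fun h => h h6) fun h => h (i1 w e).2, h6⟩
    · exact ⟨σ w, (i2 w hw).1, h6, by simp [hσ]⟩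
  refine ⟨w - T w, sub_mem hw (iT i2 w hw), fun e => h5 (half ?_), by simp [h2], ?_⟩
  · convert add_mem e (key w hw) using 1
    abel
  · rw [map_sub, h3]; exact sub_mem h6 (iT i1 _ h6)

theorem neg_of_two (hc : Nat.card W = 81) (h4 : ∀ w, τ (T w) = T (τ w))
    {U U' : Submodule F3 W} (i1 : ∀ w ∈ U, σ w ∈ U ∧ τ w ∈ U) (i2 : ∀ w ∈ U', σ w ∈ U' ∧ τ w ∈ U')
    {a b : W} (a1 : a ∈ U') (a2 : a ∉ U) (a3 : T a = -a) (a4 : σ a ∈ U)
    (b2 : b ∉ U') (b3 : T b = -b) (b4 : σ b ∈ U') (w : W) : T w = -w := by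
  have k : ∀ {X : Submodule F3 W} {x : W}, (∀ w ∈ X, σ w ∈ X ∧ τ w ∈ X) → x ∉ X → T x = -x →
      σ x ∈ X → ∀ i j : F3, i • x + j • τ x ∈ X → i = 0 ∧ j = 0 := by
    intro X x hX x2 x3 x4 i j e
    have e1 : j • x ∈ X := by
      have := sub_mem (add_mem (hX _ e).1 (X.smul_mem j (hX _ x4).2)) (X.smul_mem i x4)
      rw [← rel_of_neg hσ hτ hT x3]
      convert this using 1
      simp only [map_add, map_smul, smul_add]
      abel
    have e2 : j = 0 := by_contra fun h => x2 ((X.smul_mem_iff h).1 e1)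
    rw [e2, zero_smul, add_zero] at e
    exact ⟨by_contra fun h => x2 ((X.smul_mem_iff h).1 e), e2⟩
  obtain ⟨i, j, l, m, rfl⟩ := span4 hc (a := a) (b := τ a) (c := b) (d := τ b) (fun i j l m e => by
    obtain ⟨rfl, rfl⟩ := k i2 b2 b3 b4 l m (by
      rw [add_assoc, add_eq_zero_iff_neg_eq] at e
      rw [← e]
      exact neg_mem (add_mem (U'.smul_mem _ a1) (U'.smul_mem _ (i2 a a1).2)))
    obtain ⟨rfl, rfl⟩ := k i1 a2 a3 a4 i j (by
      simp only [zero_smul, add_zero] at e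
      rw [e]; exact zero_mem _)
    simp) w
  simp only [map_add, map_smul, ← h4, a3, b3, map_neg, smul_neg]
  abel

end module

variable {G : Type u} [Group G] [Finite G]

/-- `g` induces `A` -/
def Ac (z : G) {W : Type u} [AddCommGroup W] [Module F3 W] (pr : G → W) (g : G)
    (A : W →ₗ[F3] W) : Prop := ∀ a ∈ Qz z, pr (g * a * g⁻¹) = A (pr a)

namespace Sym

variable {z : G} {W : Type u} [AddCommGroup W] [Module F3 W] {pr : G → W}
  {B : W →ₗ[F3] W →ₗ[F3] F3} (h : Sym z pr B)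
include h

theorem one : pr 1 = 0 := (h.zero 1 (one_mem _)).2 (one_mem _)

theorem inv {a : G} (ha : a ∈ Qz z) : pr a⁻¹ = -pr a := by
  rw [eq_neg_iff_add_eq_zero, ← h.add _ (inv_mem ha) _ ha, inv_mul_cancel, h.one]

theorem pow {a : G} (ha : a ∈ Qz z) (n : ℕ) : pr (a ^ n) = (n : F3) • pr a := by
  induction n with
  | zero => simp [h.one]
  | succ n ih => rw [pow_succ, h.add _ (pow_mem ha n) _ ha, ih, Nat.cast_succ, add_smul, one_smul]

theorem pow_val {a : G} (ha : a ∈ Qz z) (c : F3) : pr (a ^ c.val) = c • pr a := by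
  rw [h.pow ha, ZMod.natCast_zmod_val]

theorem eq_iff {a b : G} (ha : a ∈ Qz z) (hb : b ∈ Qz z) : pr a = pr b ↔ a * b⁻¹ ∈ zpowers z := by
  rw [← h.zero _ (mul_mem ha (inv_mem hb)), h.add _ ha _ (inv_mem hb), h.inv hb, add_neg_eq_zero]

theorem comm_iff {a b : G} (ha : a ∈ Qz z) (hb : b ∈ Qz z) :
    a * b = b * a ↔ B (pr a) (pr b) = 0 := by
  have := h.comm a ha b hb
  constructor
  · intro e
    refine pow_val_inj h.loc.ne h.loc.cube ?_
    rw [← this, e]; simp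
  · intro e
    rw [e, ZMod.val_zero, pow_zero, mul_inv_eq_one, mul_inv_eq_iff_eq_mul] at this
    exact this

theorem alt (w : W) : B w w = 0 := by
  obtain ⟨a, ha, rfl⟩ := h.surj w
  exact (h.comm_iff ha ha).1 rfl

theorem skew (w w' : W) : B w w' = -B w' w := by
  have := h.alt (w + w')
  simp only [map_add, LinearMap.add_apply, h.alt] at this
  linear_combination this

theorem nondeg {w : W} (hw : ∀ w', B w w' = 0) : w = 0 := by
  obtain ⟨a, ha, rfl⟩ := h.surj w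
  exact (h.zero a ha).2 (h.loc.cen a ha fun b hb => (h.comm_iff ha hb).2 (hw _))

theorem ac_mul {g k : G} {A A' : W →ₗ[F3] W} (hk : k ∈ N (Qz z)) (h1 : Ac z pr g A)
    (h2 : Ac z pr k A') : Ac z pr (g * k) (A ∘ₗ A') := fun a ha => by
  rw [LinearMap.comp_apply, ← h2 a ha, ← h1 _ (conj_mem_of_mem_N hk ha)]
  congr 1; group

theorem ac_Q {g : G} {A : W →ₗ[F3] W} (hg : g ∈ Qz z) (h1 : Ac z pr g A) (w : W) : A w = w := by
  obtain ⟨a, ha, rfl⟩ := h.surj w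
  rw [← h1 a ha, h.add _ (mul_mem hg ha) _ (inv_mem hg), h.add _ hg _ ha, h.inv hg]; abel

theorem ac_eq {g k : G} {A A' : W →ₗ[F3] W} (hk : k ∈ N (Qz z)) (e : g * k⁻¹ ∈ Qz z)
    (h1 : Ac z pr g A) (h2 : Ac z pr k A') (w : W) : A w = A' w := by
  obtain ⟨a, ha, rfl⟩ := h.surj w
  obtain ⟨A'', h3⟩ := h.act _ (le_N _ e)
  have := h.ac_mul hk h3 h2 a ha
  rw [inv_mul_cancel_right, h1 a ha, LinearMap.comp_apply, h.ac_Q e h3] at this
  exact this

theorem B_act {g : G} {A : W →ₗ[F3] W} (hg : g ∈ C1 z) (h1 : Ac z pr g A) (w w' : W) :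
    B (A w) (A w') = B w w' := by
  obtain ⟨a, ha, rfl⟩ := h.surj w
  obtain ⟨b, hb, rfl⟩ := h.surj w'
  refine pow_val_inj h.loc.ne h.loc.cube ?_
  rw [← h1 a ha, ← h1 b hb, ← h.comm _ (conj_mem_Qz hg ha) _ (conj_mem_Qz hg hb),
    ← mem_C1_iff_conj.1 (C1_le_C1_pow z (B (pr a) (pr b)).val hg), ← h.comm a ha b hb]
  group

theorem B_act_inv {g : G} {A : W →ₗ[F3] W} (hg : g * z * g⁻¹ = z⁻¹) (h1 : Ac z pr g A) (w w' : W) :
    B (A w) (A w') = -B w w' := by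
  obtain ⟨a, ha, rfl⟩ := h.surj w
  obtain ⟨b, hb, rfl⟩ := h.surj w'
  have hn := mem_NQ_of_inv hg
  refine pow_val_inj h.loc.ne h.loc.cube ?_
  rw [← h1 a ha, ← h1 b hb, ← h.comm _ (conj_mem_of_mem_N hn ha) _ (conj_mem_of_mem_N hn hb),
    pow_val_neg h.loc.cube, ← inv_pow, ← hg, conj_pow, ← h.comm a ha b hb]
  group

theorem conj_eq {a b : G} (ha : a ∈ Qz z) (hb : b ∈ Qz z) :
    a * b * a⁻¹ = b * z ^ (B (pr a) (pr b)).val := by
  rw [h.loc.zp_comm (pow_mem (mem_zpowers z) _) (Qz_le z hb), ← h.comm a ha b hb]; group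

end Sym

namespace Loc0

variable {z : G} (h : Loc0 z)
include h

theorem card_C {a : G} (ha : a ∈ Qz z) (h1 : a ∉ zpowers z) :
    Nat.card (Qz z ⊓ C1 a : Subgroup G) = 81 := by
  obtain ⟨W, _, _, pr, B, hs⟩ := h.exists_sym
  have := (card_ker3 (A := Qz z) (K := Qz z ⊓ C1 a) (fun b => B (pr b) (pr a))
    (fun b hb c hc => by simp [hs.add b hb c hc]) (fun b => by
      rw [mem_inf, mem_C1]
      exact and_congr_right fun hb => hs.comm_iff hb ha)).2 (by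
    by_contra hc
    push Not at hc
    exact h1 (h.cen a ha fun b hb => ((hs.comm_iff hb ha).2 (hc b hb)).symm))
  rw [h.card] at this
  omega

theorem ab_le {A : Subgroup G} (hA : A ≤ Qz z) (hab : Ab A) : Nat.card A ≤ 27 := by
  obtain ⟨W, _, _, pr, B, hs⟩ := h.exists_sym
  by_contra hc
  have h0 : ∀ K : Subgroup G, K ≤ Qz z → K ≤ C (Qz z) → Nat.card K ≤ 3 := fun K h1 h2 => by
    rw [← h.ord, ← Nat.card_zpowers]
    exact card_le_of_le fun k hk => h.cen k (h1 hk) fun b hb => (mem_C.1 (h2 hk) b hb).symm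
  have h1 : A ≠ Qz z := fun e => by
    have := h0 A hA (e ▸ hab)
    omega
  have h2 := card_mul_relIndex hA
  rw [h.card] at h2
  have h3 : A.relIndex (Qz z) = 3 := by
    have h4 : A.relIndex (Qz z) ≠ 1 := fun e => h1 (le_antisymm hA (relIndex_eq_one.1 e))
    have h5 : A.relIndex (Qz z) ∣ 3 ^ 5 := Dvd.intro_left _ h2
    obtain ⟨i, hi, e⟩ := (Nat.dvd_prime_pow Nat.prime_three).1 h5
    rw [e] at h2 h4 ⊢
    interval_cases i <;> omega
  obtain ⟨b, hb, hbA⟩ := SetLike.exists_of_lt (lt_of_le_of_ne hA h1)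
  have h4 := (eq_or_eq_of_prime_relIndex (h3 ▸ Nat.prime_three) (le_sup_left (b := zpowers b))
    (sup_le hA (zpowers_le.2 hb))).resolve_left fun e => hbA (e.le (mem_sup_right (mem_zpowers b)))
  have h5 := (card_ker3 (A := A) (K := A ⊓ C1 b) (fun c => B (pr c) (pr b))
    (fun b hb c hc => by simp [hs.add b (hA hb) c (hA hc)]) (fun c => by
      rw [mem_inf, mem_C1]
      exact and_congr_right fun hc => hs.comm_iff (hA hc) hb)).1
  have h6 := h0 (A ⊓ C1 b) (inf_le_left.trans hA) (by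
    rw [← h4, C_sup, C_zpowers]
    exact inf_le_inf_right _ hab)
  omega

theorem mem_of_comm {A : Subgroup G} (hA : A ≤ Qz z) (hab : Ab A) (hc : Nat.card A = 27) {s : G}
    (hs : s ∈ Qz z) (h1 : A ≤ C1 s) : s ∈ A := by
  have := h.ab_le (sup_le hA (zpowers_le.2 hs)) (hab.sup (ab_zpowers s) (by rwa [C_zpowers]))
  rw [eq_of_le_of_card_le (le_sup_left (a := A) (b := zpowers s)) (hc ▸ this)]
  exact mem_sup_right (mem_zpowers s)

end Loc0

theorem zp_inf {z y c : G} (hz : z ^ 3 = 1) (hy : y ^ 3 = 1) (h : y ∉ zpowers z)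
    (h1 : c ∈ zpowers z) (h2 : c ∈ zpowers y) : c = 1 := by
  rcases CfsgH8.mem_zpowers_three hy h2 with e | e | e
  · exact e
  · exact absurd (e ▸ h1) h
  · exact absurd (inv_mem_iff.1 (e ▸ h1)) h

/-- `g` acts quadratically -/
def Qd (z g : G) : Prop := ∀ a ∈ Qz z, g * (g * a * g⁻¹) * g⁻¹ * (g * a * g⁻¹) * a ∈ zpowers z

theorem Qd.conj {z g k : G} (h : Qd z g) (hk : k ∈ C1 z) : Qd z (k * g * k⁻¹) := fun a ha => by
  have := (conj_mem_cj (g := k)).2 (h _ (conj_mem_Qz (inv_mem hk) ha))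
  rw [cj_zpowers, mem_C1_iff_conj.1 hk] at this
  convert this using 1
  group

structure Pair (z y s : G) : Prop where
  hz : Loc0 z
  hy : Loc0 y
  yQ : y ∈ Qz z
  yZ : y ∉ zpowers z
  zQ : z ∈ Qz y
  card : Nat.card (Qz z ⊓ Qz y : Subgroup G) = 27
  sQ : s ∈ Qz y
  sC : s ∈ C1 z
  sn : s ∉ Qz z

theorem ab_inf {z y : G} (hz : Loc0 z) (hy : Loc0 y) (yZ : y ∉ zpowers z) : Ab (Qz z ⊓ Qz y) :=
  ab_iff.2 fun a ha b hb => by
    have := zp_inf hz.cube hy.cube yZ (hz.der a ha.1 b hb.1) (hy.der a ha.2 b hb.2)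
    rwa [mul_inv_eq_one, mul_inv_eq_iff_eq_mul] at this

theorem sl_comm : ∀ a b : SL23, a ^ 3 = 1 → b ^ 3 = 1 → (a * b) ^ 3 = 1 → (a * b⁻¹) ^ 3 = 1 →
    a * b * a⁻¹ * b⁻¹ = 1 := by decide +kernel

theorem exists_pair {z y : G} (hz : Loc0 z) (hy : Loc0 y) (yQ : y ∈ Qz z) (yZ : y ∉ zpowers z) :
    ∃ s, Pair z y s := by
  obtain ⟨π, hπ⟩ := hy.hom
  have h1 := hz.card_C yQ yZ
  have zQ : z ∈ Qz y := by
    obtain ⟨a, ha, b, hb, e⟩ : ∃ a ∈ Qz z ⊓ C1 y, ∃ b ∈ Qz z ⊓ C1 y, a * b ≠ b * a := by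
      by_contra hc
      push Not at hc
      have := hz.ab_le inf_le_left (ab_iff.2 hc)
      omega
    have k : ∀ c ∈ Qz z ⊓ C1 y, π c ^ 3 = 1 := fun c hc => by
      rw [← hπ.pow hc.2, hz.exp c hc.1, hπ.one]
    have h2 : a * b * a⁻¹ * b⁻¹ ∈ Qz y := by
      rw [← hπ.ker _ (mul_mem (mul_mem (mul_mem ha.2 hb.2) (inv_mem ha.2)) (inv_mem hb.2)),
        hπ.mul _ (mul_mem (mul_mem ha.2 hb.2) (inv_mem ha.2)) _ (inv_mem hb.2),
        hπ.mul _ (mul_mem ha.2 hb.2) _ (inv_mem ha.2), hπ.mul _ ha.2 _ hb.2, hπ.inv ha.2, hπ.inv hb.2]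
      refine sl_comm _ _ (k a ha) (k b hb) ?_ ?_
      · rw [← hπ.mul _ ha.2 _ hb.2]; exact k _ (mul_mem ha hb)
      · rw [← hπ.inv hb.2, ← hπ.mul _ ha.2 _ (inv_mem hb.2)]; exact k _ (mul_mem ha (inv_mem hb))
    rcases CfsgH8.mem_zpowers_three hz.cube (hz.der a ha.1 b hb.1) with e1 | e1 | e1
    · exact absurd (by rwa [mul_inv_eq_one, mul_inv_eq_iff_eq_mul] at e1) e
    · exact e1 ▸ h2
    · exact inv_mem_iff.1 (e1 ▸ h2)
  have h2 := hz.ab_le inf_le_left (ab_inf hz hy yZ)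
  have h3 : Nat.card (Qz z ⊓ Qz y : Subgroup G) = 27 := by
    have h4 := card_inf_mul_relIndex (Qz y) (Qz z ⊓ C1 y)
    have h5 := relIndex_dvd_of_nrm' (A := Qz z ⊓ C1 y) inf_le_right (nrm_of_le_N (C1_le_NQ y))
    have h6 := relIndex_dvd_card' (Qz y) (Qz z ⊓ C1 y)
    rw [hπ.relIndex] at h5
    rw [h1] at h4 h6
    have h7 := Nat.le_of_dvd (by norm_num) (Nat.dvd_gcd h5 h6)
    rw [← inf_assoc, inf_comm (Qz y), inf_assoc, inf_eq_left.2 (Qz_le y)] at h4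
    have : Nat.gcd 24 81 = 3 := by norm_num
    nlinarith
  have h4 := hy.card_C zQ fun e => hz.ne (zp_inf hz.cube hy.cube yZ (mem_zpowers z) e)
  obtain ⟨s, hs, hn⟩ : ∃ s ∈ Qz y ⊓ C1 z, s ∉ Qz z := by
    by_contra hc
    push Not at hc
    have := card_le_of_le (show Qz y ⊓ C1 z ≤ Qz z ⊓ Qz y from fun s hs => ⟨hc s hs, hs.1⟩)
    omega
  exact ⟨s, hz, hy, yQ, yZ, zQ, h3, hs.1, hs.2, hn⟩

namespace Pair

variable {z y s : G} (h : Pair z y s)
include h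

theorem inv : Pair z y s⁻¹ :=
  ⟨h.hz, h.hy, h.yQ, h.yZ, h.zQ, h.card, inv_mem h.sQ, inv_mem h.sC, fun e => h.sn (inv_mem_iff.1 e)⟩

theorem ab : Ab (Qz z ⊓ Qz y) := ab_inf h.hz h.hy h.yZ

theorem exists_e : ∃ e ∈ Qz z ⊓ Qz y, e * s ≠ s * e := by
  by_contra hc
  push Not at hc
  exact h.sn (h.hy.mem_of_comm inf_le_right h.ab h.card h.sQ fun e he => mem_C1.2 (hc e he)).1

theorem mem_D9 {e : G} (he : e ∈ Qz z ⊓ Qz y) (h1 : e * s = s * e) : e ∈ D9 z y := by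
  have hb : B9 z y := ⟨h.hz.cube, h.hy.cube, (mem_C1.1 (Qz_le z h.yQ)).symm, h.hz.ne, h.yZ⟩
  have h2 : D9 z y ≤ Qz z ⊓ Qz y ⊓ C1 s := D9_le ⟨⟨h.hz.mem, h.zQ⟩, mem_C1_comm.1 h.sC⟩
    ⟨⟨h.yQ, h.hy.mem⟩, mem_C1_comm.1 (Qz_le y h.sQ)⟩
  have h3 := card_dvd_of_le' (inf_le_left : Qz z ⊓ Qz y ⊓ C1 s ≤ _)
  obtain ⟨f, hf, hn⟩ := h.exists_e
  have h4 : Nat.card (Qz z ⊓ Qz y ⊓ C1 s : Subgroup G) ≠ 27 := fun e =>
    hn (mem_C1.1 ((eq_of_le_of_card_eq inf_le_left (e.trans h.card.symm)).ge hf).2)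
  rw [h.card] at h3
  obtain ⟨i, hi, e⟩ := (Nat.dvd_prime_pow Nat.prime_three (m := 3)).1 h3
  rw [eq_of_le_of_card_le h2 (by rw [hb.card]; rw [e] at h4 ⊢; interval_cases i <;> omega)]
  exact ⟨he, mem_C1.2 h1⟩

variable {W : Type u} [AddCommGroup W] [Module F3 W] {pr : G → W}
  {B : W →ₗ[F3] W →ₗ[F3] F3} (hs : Sym z pr B) {A : W →ₗ[F3] W} (hA : Ac z pr s A)
include hs hA

theorem A_y : A (pr y) = pr y := by rw [← hA y h.yQ, mem_C1_iff_conj.1 (Qz_le y h.sQ)]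

theorem A_E {e : G} (he : e ∈ Qz z ⊓ Qz y) : ∃ c : F3, A (pr e) - pr e = c • pr y ∧
    (c = 0 → e * s = s * e) := by
  obtain ⟨c, hc⟩ := exists_val h.hy.cube (h.hy.der s h.sQ e he.2)
  refine ⟨c, ?_, fun e0 => ?_⟩
  · rw [← hA e he.1, ← hs.pow_val h.yQ, ← hc, hs.add _ (conj_mem_Qz h.sC he.1) _ (inv_mem he.1),
      hs.inv he.1, sub_eq_add_neg]
  · rw [e0, ZMod.val_zero, pow_zero, mul_inv_eq_one, mul_inv_eq_iff_eq_mul] at hc
    exact hc.symm

theorem y_ne : pr y ≠ 0 := fun e => h.yZ ((hs.zero y h.yQ).1 e)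

theorem quad0 (w : W) : A (A w) + A w + w = 0 := by
  have hN := C1_le_NQ z h.sC
  have h3 : ∀ w, A (A (A w)) = w := fun w => by
    have := hs.ac_mul hN (hs.ac_mul hN hA hA) hA
    rw [← pow_three', h.hy.exp s h.sQ] at this
    exact hs.ac_Q (one_mem _) this w
  have k : ∀ w, B (pr y) w ≠ 0 → A (A w) + A w + w = 0 := fun w hw => by
    obtain ⟨q, hq, e⟩ := hs.surj (A w - w)
    have h1 : q ∈ C1 y := mem_C1.2 ((hs.comm_iff hq h.yQ).2 (by
      rw [e, map_sub, LinearMap.sub_apply, sub_eq_zero]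
      conv_lhs => rw [← h.A_y hs hA, hs.B_act h.sC hA]))
    have h2 : s * q * s⁻¹ * q⁻¹ ∈ Qz z ⊓ Qz y := mem_inf.2 ⟨mul_mem (conj_mem_Qz h.sC hq) (inv_mem hq), by
      rw [show s * q * s⁻¹ * q⁻¹ = s * (q * s⁻¹ * q⁻¹) by group]
      exact mul_mem h.sQ (conj_mem_Qz h1 (inv_mem h.sQ))⟩
    have h4 : pr (s * q * s⁻¹ * q⁻¹) = A (A w) + A w + w := by
      rw [hs.add _ (conj_mem_Qz h.sC hq) _ (inv_mem hq), hA q hq, hs.inv hq, e, map_sub]
      linear_combination (norm := abel) -three (A w)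
    obtain ⟨c, h5, h6⟩ := h.A_E hs hA h2
    have h7 := h6 ((smul_eq_zero.1 (by
      rw [← h5, h4]; simp only [map_add, h3]; abel)).resolve_right (h.y_ne hs hA))
    obtain ⟨a, ha, b, hb, e2⟩ := (mem_sup_nrm (nrm_of_le_C (by
      rw [C_zpowers, zpowers_le]; exact Qz_le y h.zQ))).1 (h.mem_D9 h2 h7)
    obtain ⟨d, rfl⟩ := exists_val h.hy.cube hb
    rw [e2, hs.add _ (h.hz.zp_le ha) _ (pow_mem h.yQ _), (hs.zero _ (h.hz.zp_le ha)).2 ha, zero_add,
      hs.pow_val h.yQ] at h4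
    have h8 : B (A (A w) + A w + w) w = 0 := by
      simp only [map_add, LinearMap.add_apply, hs.alt]
      rw [← hs.B_act h.sC hA (A (A w)), h3, hs.skew w]; ring
    rw [← h4, map_smul, LinearMap.smul_apply, smul_eq_mul, mul_eq_zero] at h8
    rw [← h4, h8.resolve_right hw, zero_smul]
  by_cases hw : B (pr y) w = 0
  · obtain ⟨v, hv⟩ : ∃ v, B (pr y) v ≠ 0 := by
      by_contra hc
      push Not at hc
      exact h.y_ne hs hA (hs.nondeg hc)
    have h1 := k v hv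
    have h2 := k (w + v) (by simpa [hw] using hv)
    simp only [map_add] at h2
    linear_combination (norm := abel) h2 - h1
  · exact k w hw

omit hs hA in
theorem quad : Qd z s := fun a ha => by
  obtain ⟨W, _, _, pr, B, hs⟩ := h.hz.exists_sym
  obtain ⟨A, hA⟩ := hs.act s (C1_le_NQ z h.sC)
  have h1 := conj_mem_Qz h.sC ha
  have h2 := conj_mem_Qz h.sC h1
  rw [← hs.zero _ (mul_mem (mul_mem h2 h1) ha), hs.add _ (mul_mem h2 h1) _ ha, hs.add _ h2 _ h1,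
    hA _ h1, hA _ ha]
  exact h.quad0 hs hA _

end Pair

end CfsgH1.L43
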