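import Cfsg.Agent.H9.P43Loc

/-! The symplectic space of an extraspecial group `3^{1+4}` with `SL₂(3)` on top. -/

set_option autoImplicit false
set_option linter.unusedSectionVars false

namespace CfsgH1.L43

open Subgroup CfsgH5 CfsgH6 CfsgFT CfsgH9 CfsgH9.P43 Matrix

universe u

abbrev F3 : Type := ZMod 3
abbrev SL23 : Type := Matrix.SpecialLinearGroup (Fin 2) (ZMod 3)

variable {G : Type u} [Group G]

/-- the extraspecial group attached to `z` -/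
def Qz (z : G) : Subgroup G := Op 3 (C1 z)

/-- `π` induces `C(z)/Q ≅ SL₂(3)` -/
structure IsPi (z : G) (π : G → SL23) : Prop where
  mul : ∀ a ∈ C1 z, ∀ b ∈ C1 z, π (a * b) = π a * π b
  surj : ∀ s, ∃ g ∈ C1 z, π g = s
  ker : ∀ g ∈ C1 z, π g = 1 ↔ g ∈ Qz z

structure Loc0 (z : G) : Prop where
  ne : z ≠ 1
  card : Nat.card (Qz z) = 243
  exp : ∀ a ∈ Qz z, a ^ 3 = 1
  mem : z ∈ Qz z
  cen : ∀ a ∈ Qz z, (∀ b ∈ Qz z, a * b = b * a) → a ∈ zpowers z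
  der : ∀ a ∈ Qz z, ∀ b ∈ Qz z, a * b * a⁻¹ * b⁻¹ ∈ zpowers z
  hom : ∃ π, IsPi z π

theorem Qz_inv (z : G) : Qz z⁻¹ = Qz z := by rw [Qz, Qz, C1_inv]

namespace IsPi

variable {z : G} {π : G → SL23} (h : IsPi z π)
include h

theorem one : π 1 = 1 := (h.ker 1 (one_mem _)).2 (one_mem _)

/-- the homomorphism -/
def hom : C1 z →* SL23 := MonoidHom.mk' (fun g => π g) fun a b => h.mul a a.2 b b.2

theorem inv {a : G} (ha : a ∈ C1 z) : π a⁻¹ = (π a)⁻¹ := map_inv h.hom ⟨a, ha⟩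

theorem pow {a : G} (ha : a ∈ C1 z) (n : ℕ) : π (a ^ n) = π a ^ n := map_pow h.hom ⟨a, ha⟩ n

theorem conj (k : SL23) : IsPi z fun g => k * π g * k⁻¹ :=
  ⟨fun a ha b hb => by rw [h.mul a ha b hb]; group, fun s => by
    obtain ⟨g, hg, e⟩ := h.surj (k⁻¹ * s * k)
    exact ⟨g, hg, by rw [e]; group⟩, fun g hg => by rw [← h.ker g hg, conj_eq_one_iff]⟩

theorem eq_iff {a b : G} (ha : a ∈ C1 z) (hb : b ∈ C1 z) : π a = π b ↔ a * b⁻¹ ∈ Qz z := by
  rw [← h.ker _ (mul_mem ha (inv_mem hb)), h.mul _ ha _ (inv_mem hb), h.inv hb, mul_inv_eq_one]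

theorem relIndex : (Qz z).relIndex (C1 z) = 24 := by
  have h1 : (Qz z).subgroupOf (C1 z) = h.hom.ker := by
    ext g
    rw [mem_subgroupOf, MonoidHom.mem_ker]
    exact (h.ker g g.2).symm
  have h2 : h.hom.range = ⊤ := MonoidHom.range_eq_top.2 fun s => by
    obtain ⟨g, hg, e⟩ := h.surj s
    exact ⟨⟨g, hg⟩, e⟩
  rw [Subgroup.relIndex, h1, index_ker, h2, card_top, Nat.card_eq_fintype_card]
  decide +kernel

end IsPi

variable [Finite G]

theorem Qz_le (z : G) : Qz z ≤ C1 z := Op_le _ _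

theorem cj_Qz (g z : G) : cj g (Qz z) = Qz (g * z * g⁻¹) := by
  rw [Qz, cj_Op' Nat.prime_three, cj_C1, Qz]

theorem conj_mem_Qz {z g a : G} (hg : g ∈ C1 z) (ha : a ∈ Qz z) : g * a * g⁻¹ ∈ Qz z := by
  have := cj_Qz g z
  rw [mem_C1_iff_conj.1 hg] at this
  exact this ▸ conj_mem_cj.2 ha

theorem C1_le_NQ (z : G) : C1 z ≤ N (Qz z) := fun _ hg =>
  mem_N_of_conj fun _ ha => conj_mem_Qz hg ha

theorem mem_NQ_of_inv {z g : G} (hg : g * z * g⁻¹ = z⁻¹) : g ∈ N (Qz z) := by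
  rw [mem_N, cj_Qz, hg, Qz_inv]

theorem card_ker3 {A K : Subgroup G} (φ : G → F3)
    (hφ : ∀ a ∈ A, ∀ b ∈ A, φ (a * b) = φ a + φ b) (hK : ∀ a, a ∈ K ↔ a ∈ A ∧ φ a = 0) :
    Nat.card A ≤ 3 * Nat.card K ∧ ((∃ a ∈ A, φ a ≠ 0) → Nat.card A = 3 * Nat.card K) := by
  let f : A →* Multiplicative F3 := MonoidHom.mk' (fun a => Multiplicative.ofAdd (φ a))
    fun a b => by rw [← ofAdd_add, ← hφ a a.2 b b.2]; rfl
  have hle : K ≤ A := fun a ha => ((hK a).1 ha).1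
  have h1 : K.subgroupOf A = f.ker := by
    ext a
    rw [mem_subgroupOf, MonoidHom.mem_ker, hK, and_iff_right a.2]
    rfl
  have h2 := card_mul_relIndex hle
  rw [Subgroup.relIndex, h1, index_ker] at h2
  have h3 : Nat.card f.range ∣ 3 := by
    simpa using card_subgroup_dvd_card f.range
  refine ⟨by rw [← h2, mul_comm]; exact Nat.mul_le_mul_right _ (Nat.le_of_dvd (by norm_num) h3), ?_⟩
  rintro ⟨a, ha, h0⟩
  rcases (Nat.dvd_prime Nat.prime_three).1 h3 with e | e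
  · exact absurd (mem_bot.1 ((card_eq_one.1 e).le (⟨⟨a, ha⟩, rfl⟩ : f ⟨a, ha⟩ ∈ f.range))) h0
  · rw [← h2, e, mul_comm]

theorem val_cases (c : F3) : c = 0 ∨ c = 1 ∨ c = -1 := by revert c; decide

theorem pow_val_neg {g : G} (h : g ^ 3 = 1) (a : F3) : g ^ (-a).val = (g ^ a.val)⁻¹ := by
  rw [eq_inv_iff_mul_eq_one, ← pow_val_add h]; simp

theorem pow_val_inj {g : G} (h1 : g ≠ 1) (h : g ^ 3 = 1) {a b : F3} (e : g ^ a.val = g ^ b.val) :
    a = b := by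
  have := pow_inj_mod.1 e
  rw [orderOf_three h1 h, Nat.mod_eq_of_lt a.val_lt, Nat.mod_eq_of_lt b.val_lt] at this
  exact ZMod.val_injective _ this

theorem exists_val {g x : G} (h : g ^ 3 = 1) (hx : x ∈ zpowers g) : ∃ c : F3, x = g ^ c.val := by
  rcases CfsgH8.mem_zpowers_three h hx with e | e | e
  · exact ⟨0, by simp [e]⟩
  · exact ⟨1, by simp [e, ZMod.val_one]⟩
  · exact ⟨-1, by rw [pow_val_neg h, e]; simp [ZMod.val_one]⟩

/-- the symplectic space `Q/Z` -/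
structure Sym (z : G) {W : Type u} [AddCommGroup W] [Module F3 W] (pr : G → W)
    (B : W →ₗ[F3] W →ₗ[F3] F3) : Prop where
  loc : Loc0 z
  add : ∀ a ∈ Qz z, ∀ b ∈ Qz z, pr (a * b) = pr a + pr b
  zero : ∀ a ∈ Qz z, pr a = 0 ↔ a ∈ zpowers z
  surj : ∀ w, ∃ a ∈ Qz z, pr a = w
  comm : ∀ a ∈ Qz z, ∀ b ∈ Qz z, a * b * a⁻¹ * b⁻¹ = z ^ (B (pr a) (pr b)).val
  card : Nat.card W = 81
  act : ∀ g ∈ N (Qz z), ∃ A : W →ₗ[F3] W, ∀ a ∈ Qz z, pr (g * a * g⁻¹) = A (pr a)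

namespace Loc0

variable {z : G} (h : Loc0 z)
include h

theorem cube : z ^ 3 = 1 := h.exp z h.mem

theorem ord : orderOf z = 3 := orderOf_three h.ne h.cube

theorem zp_le : zpowers z ≤ Qz z := zpowers_le.2 h.mem

theorem zp_comm {c a : G} (hc : c ∈ zpowers z) (ha : a ∈ C1 z) : a * c = c * a :=
  mem_C1.1 (C1_le_C1_of_mem_zpowers hc ha)

theorem nrm_zp {g c : G} (hg : g ∈ N (Qz z)) (hc : c ∈ zpowers z) : g * c * g⁻¹ ∈ zpowers z :=
  h.cen _ (conj_mem_of_mem_N hg (h.zp_le hc)) fun b hb => by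
    have := h.zp_comm hc (Qz_le z (conj_mem_of_mem_N (inv_mem hg) hb))
    calc _ = g * (c * (g⁻¹ * b * g⁻¹⁻¹)) * g⁻¹ := by group
      _ = _ := by rw [← this]; group

theorem card_C1 : Nat.card (C1 z) = 5832 := by
  obtain ⟨π, hπ⟩ := h.hom
  rw [← card_mul_relIndex (Qz_le z), h.card, hπ.relIndex]

theorem inv : Loc0 z⁻¹ := by
  obtain ⟨h1, h2, h3, h4, h5, h6, π, h7, h8, h9⟩ := h
  refine ⟨inv_ne_one.2 h1, ?_, ?_, ?_, ?_, ?_, π, ?_, ?_, ?_⟩ <;>
    simp only [Qz_inv, C1_inv, zpowers_inv, inv_mem_iff] <;> assumption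

theorem conj (g : G) : Loc0 (g * z * g⁻¹) := by
  obtain ⟨h1, h2, h3, h4, h5, h6, π, h7, h8, h9⟩ := h
  have e : ∀ a : G, a ∈ Qz (g * z * g⁻¹) ↔ g⁻¹ * a * g ∈ Qz z := fun a => by rw [← cj_Qz, mem_cj]
  have e1 : ∀ a : G, a ∈ C1 (g * z * g⁻¹) ↔ g⁻¹ * a * g ∈ C1 z := fun a => by rw [← cj_C1, mem_cj]
  have e2 : ∀ a : G, a ∈ zpowers (g * z * g⁻¹) ↔ g⁻¹ * a * g ∈ zpowers z := fun a => by
    rw [← cj_zpowers, mem_cj]
  refine ⟨fun e => h1 (conj_eq_one_iff.1 e), by rw [← cj_Qz, card_cj, h2], fun a ha => ?_,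
    (e _).2 (by simpa [mul_assoc] using h4),
    fun a ha hb => ?_, fun a ha b hb => ?_, fun a => π (g⁻¹ * a * g), fun a ha b hb => ?_,
    fun s => ?_, fun a ha => ?_⟩
  · have := h3 _ ((e a).1 ha)
    rw [show g⁻¹ * a * g = g⁻¹ * a * g⁻¹⁻¹ by group, conj_pow, conj_eq_one_iff] at this
    exact this
  · refine (e2 a).2 (h5 _ ((e a).1 ha) fun b hb' => ?_)
    have := hb (g * b * g⁻¹) ((e _).2 (by simpa [mul_assoc] using hb'))
    calc _ = g⁻¹ * (a * (g * b * g⁻¹)) * g := by group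
      _ = _ := by rw [this]; group
  · rw [e2]
    convert h6 _ ((e a).1 ha) _ ((e b).1 hb) using 1
    group
  · rw [← h7 _ ((e1 a).1 ha) _ ((e1 b).1 hb)]
    congr 1; group
  · obtain ⟨a, ha, rfl⟩ := h8 s
    exact ⟨g * a * g⁻¹, (e1 _).2 (by simpa [mul_assoc] using ha), by simp [mul_assoc]⟩
  · rw [h9 _ ((e1 a).1 ha), e]

theorem exists_sym : ∃ (W : Type u) (_ : AddCommGroup W) (_ : Module F3 W) (pr : G → W)
    (B : W →ₗ[F3] W →ₗ[F3] F3), Sym z pr B := by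
  classical
  let Z' := (zpowers z).subgroupOf (Qz z)
  haveI : Z'.Normal := ⟨fun a ha g => h.nrm_zp (le_N _ g.2) ha⟩
  letI : CommGroup (Qz z ⧸ Z') := { QuotientGroup.Quotient.group Z' with
    mul_comm := fun a b => by
      obtain ⟨a, rfl⟩ := QuotientGroup.mk_surjective a
      obtain ⟨b, rfl⟩ := QuotientGroup.mk_surjective b
      rw [← QuotientGroup.mk_mul, ← QuotientGroup.mk_mul, QuotientGroup.eq]
      have := h.der _ (inv_mem b.2) _ (inv_mem a.2)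
      rw [mem_subgroupOf]
      convert this using 1
      push_cast; group }
  let W := Additive (Qz z ⧸ Z')
  let pr : G → W := fun g => if hg : g ∈ Qz z then Additive.ofMul (QuotientGroup.mk ⟨g, hg⟩) else 0
  have hadd : ∀ a ∈ Qz z, ∀ b ∈ Qz z, pr (a * b) = pr a + pr b := fun a ha b hb => by
    simp only [pr, dif_pos ha, dif_pos hb, dif_pos (mul_mem ha hb)]
    rfl
  have hzero : ∀ a ∈ Qz z, pr a = 0 ↔ a ∈ zpowers z := fun a ha => by
    simp only [pr, dif_pos ha]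
    exact QuotientGroup.eq_one_iff (N := Z') _
  have hsurj : ∀ w, ∃ a ∈ Qz z, pr a = w := fun w => by
    obtain ⟨a, e⟩ := QuotientGroup.mk_surjective (Additive.toMul w)
    exact ⟨a, a.2, by simp only [pr, dif_pos a.2]; exact congrArg Additive.ofMul e⟩
  choose o ho hpo using hsurj
  have heq : ∀ a ∈ Qz z, ∀ b ∈ Qz z, pr a = pr b → a * b⁻¹ ∈ zpowers z := fun a ha b hb e => by
    have := hadd _ (mul_mem ha (inv_mem hb)) _ hb
    rw [inv_mul_cancel_right, e, right_eq_add] at this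
    exact (hzero _ (mul_mem ha (inv_mem hb))).1 this
  letI : Module F3 W := AddCommGroup.zmodModule (n := 3) fun w => by
    have h1 : pr 1 = 0 := (hzero 1 (one_mem _)).2 (one_mem _)
    rw [← hpo w, ← h1, ← h.exp _ (ho w), pow_three', hadd _ (mul_mem (ho w) (ho w)) _ (ho w),
      hadd _ (ho w) _ (ho w), three_nsmul, add_assoc]
  have hl : ∀ w w', ∃ c : F3, o w * o w' * (o w)⁻¹ * (o w')⁻¹ = z ^ c.val := fun w w' =>
    exists_val h.cube (h.der _ (ho w) _ (ho w'))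
  choose β hβ using hl
  have hc : ∀ a ∈ Qz z, ∀ b ∈ Qz z, a * b * a⁻¹ * b⁻¹ = z ^ (β (pr a) (pr b)).val := by
    intro a ha b hb
    rw [← hβ]
    have h1 := heq _ ha _ (ho (pr a)) (hpo _).symm
    have h2 := heq _ hb _ (ho (pr b)) (hpo _).symm
    have ha' := Qz_le z (ho (pr a))
    have hb' := Qz_le z (ho (pr b))
    generalize o (pr a) = a' at *
    generalize o (pr b) = b' at *
    obtain ⟨c, rfl⟩ : ∃ c, a = c * a' := ⟨a * a'⁻¹, by group⟩
    obtain ⟨d, rfl⟩ : ∃ d, b = d * b' := ⟨b * b'⁻¹, by group⟩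
    rw [mul_inv_cancel_right] at h1 h2
    have e1 := h.zp_comm h1 (mul_mem (mul_mem ha' (Qz_le z hb)) (inv_mem ha'))
    have e2 := h.zp_comm h2 ha'
    have e3 := h.zp_comm h2 (mul_mem (mul_mem (mul_mem ha' hb') (inv_mem ha')) (inv_mem hb'))
    calc _ = c * (a' * (d * b') * a'⁻¹) * c⁻¹ * (d * b')⁻¹ := by group
      _ = (a' * d) * b' * a'⁻¹ * b'⁻¹ * d⁻¹ := by rw [← e1]; group
      _ = d * (a' * b' * a'⁻¹ * b'⁻¹) * d⁻¹ := by rw [e2]; group
      _ = _ := by rw [← e3]; group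
  have hz : ∀ (c : F3) {a : G}, a ∈ Qz z → a * z ^ c.val = z ^ c.val * a := fun c a ha =>
    h.zp_comm (pow_mem (mem_zpowers z) _) (Qz_le z ha)
  have b1 : ∀ w w' v, β (w + w') v = β w v + β w' v := fun w w' v => by
    refine pow_val_inj h.ne h.cube ?_
    rw [← hpo w, ← hpo w', ← hpo v, ← hadd _ (ho w) _ (ho w'), pow_val_add h.cube,
      ← hc _ (mul_mem (ho w) (ho w')) _ (ho v), ← hc _ (ho w) _ (ho v)]
    have e := hc _ (ho w') _ (ho v)
    have e1 := hz (β (pr (o w')) (pr (o v))) (ho w)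
    have e2 := hz (β (pr (o w')) (pr (o v)))
      (mul_mem (mul_mem (mul_mem (ho w) (ho v)) (inv_mem (ho w))) (inv_mem (ho v)))
    rw [e2]
    calc _ = o w * (o w' * o v * (o w')⁻¹ * (o v)⁻¹) * o v * (o w)⁻¹ * (o v)⁻¹ := by group
      _ = _ := by rw [e, e1]; group
  have b2 : ∀ v w w', β v (w + w') = β v w + β v w' := fun v w w' => by
    refine pow_val_inj h.ne h.cube ?_
    rw [← hpo w, ← hpo w', ← hpo v, ← hadd _ (ho w) _ (ho w'), pow_val_add h.cube,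
      ← hc _ (ho v) _ (mul_mem (ho w) (ho w')), ← hc _ (ho v) _ (ho w)]
    have e := hc _ (ho v) _ (ho w')
    have e1 := hz (β (pr (o v)) (pr (o w'))) (ho w)
    calc _ = o v * o w * (o v)⁻¹ * (o v * o w' * (o v)⁻¹ * (o w')⁻¹) * (o w)⁻¹ := by group
      _ = o v * o w * (o v)⁻¹ * (o w)⁻¹ * (o w * z ^ (β (pr (o v)) (pr (o w'))).val) *
          (o w)⁻¹ := by rw [e]; group
      _ = _ := by rw [e1]; group
  let B : W →ₗ[F3] W →ₗ[F3] F3 := AddMonoidHom.toZModLinearMap 3 (AddMonoidHom.mk'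
    (fun w => AddMonoidHom.toZModLinearMap 3 (AddMonoidHom.mk' (β w) (b2 w)))
      fun w w' => LinearMap.ext fun v => b1 w w' v)
  refine ⟨W, inferInstance, inferInstance, pr, B, h, hadd, hzero, fun w => ⟨_, ho w, hpo w⟩, hc, ?_,
    fun g hg => ?_⟩
  · have h1 := card_eq_card_quotient_mul_card_subgroup Z'
    rw [h.card, Nat.card_congr (subgroupOfEquivOfLe h.zp_le).toEquiv, Nat.card_zpowers, h.ord] at h1
    change Nat.card (Qz z ⧸ Z') = 81
    omega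
  · have hw : ∀ a ∈ Qz z, pr (g * o (pr a) * g⁻¹) = pr (g * a * g⁻¹) := fun a ha => by
      have h1 := h.nrm_zp hg (heq _ (ho (pr a)) _ ha (hpo _))
      rw [show g * o (pr a) * g⁻¹ = g * (o (pr a) * a⁻¹) * g⁻¹ * (g * a * g⁻¹) by group,
        hadd _ (h.zp_le h1) _ (conj_mem_of_mem_N hg ha), (hzero _ (h.zp_le h1)).2 h1, zero_add]
    refine ⟨AddMonoidHom.toZModLinearMap 3 (AddMonoidHom.mk' (fun w => pr (g * o w * g⁻¹))
      fun w w' => ?_), fun a ha => (hw a ha).symm⟩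
    conv_lhs => rw [← hpo w, ← hpo w', ← hadd _ (ho w) _ (ho w'), hw _ (mul_mem (ho w) (ho w'))]
    rw [← hadd _ (conj_mem_of_mem_N hg (ho w)) _ (conj_mem_of_mem_N hg (ho w'))]
    congr 1; group

end Loc0

end CfsgH1.L43
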