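import Mathlib
import Cfsg.Agent.H1.DesignFisher
import Cfsg.Agent.H6.Derang
import Cfsg.Agent.H6.Witt

/-!
Finite projective planes with a collineation group: basic facts on perspectivities.
-/

set_option autoImplicit false

namespace CfsgH1

/-- A projective plane of order `n` with a faithful collineation group. -/
structure Pl (G P L : Type*) [Group G] [MulAction G P] [MulAction G L] where
  I : P → L → Prop
  n : ℕ
  join : ∀ p q, p ≠ q → ∃ l, I p l ∧ I q l
  meet : ∀ l m, l ≠ m → ∃ p, I p l ∧ I p m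
  uniq : ∀ {p q l m}, I p l → I q l → I p m → I q m → p = q ∨ l = m
  card_pts : ∀ l, {p | I p l}.ncard = n + 1
  card_lns : ∀ p, {l | I p l}.ncard = n + 1
  two_le : 2 ≤ n
  neP : Nonempty P
  neL : Nonempty L
  act : ∀ (g : G) p l, I (g • p) (g • l) ↔ I p l
  faithP : ∀ g : G, (∀ p : P, g • p = p) → g = 1
  faithL : ∀ g : G, (∀ l : L, g • l = l) → g = 1

theorem exists_fixed_of_odd {G Ω : Type*} [Group G] [MulAction G Ω] [Finite Ω] {h : G}
    (hh : h * h = 1) (A : Set Ω) (hA : ∀ x ∈ A, h • x ∈ A) (ho : Odd A.ncard) :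
    ∃ x ∈ A, h • x = x := by
  have : Fact (Nat.Prime 2) := Nat.fact_prime_two
  have hp : IsPGroup 2 (Subgroup.zpowers h) := by
    rintro ⟨_, k, rfl⟩
    refine ⟨1, Subtype.ext ?_⟩
    change (h ^ k) ^ 2 ^ 1 = 1
    rw [pow_one, ← zpow_natCast, ← zpow_mul, mul_comm, zpow_mul, zpow_natCast, pow_two, hh, one_zpow]
  obtain ⟨x, hx, h1⟩ := CfsgH6.exists_fixed_of_not_dvd_ncard hp A (by
    rintro ⟨g, hg⟩ x hx
    change g • x ∈ A
    rw [Subgroup.zpowers_eq_closure] at hg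
    induction hg using Subgroup.closure_induction_left with
    | one => simpa using hx
    | mul_left a ha b _ ih => rw [mul_smul, ha]; exact hA _ ih
    | inv_mul_cancel a ha b _ ih =>
      rw [mul_smul, ha, inv_eq_of_mul_eq_one_right hh]; exact hA _ ih)
    (by rw [← Nat.not_even_iff_odd, even_iff_two_dvd] at ho; exact ho)
  exact ⟨x, hx, h1 ⟨h, Subgroup.mem_zpowers h⟩⟩

theorem exists_ne_ne_of_three_le {α : Type*} {s : Set α} (h : 3 ≤ s.ncard) (a b : α) :
    ∃ x ∈ s, x ≠ a ∧ x ≠ b := by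
  by_contra hc
  push Not at hc
  have : s ⊆ {a, b} := fun x hx => by
    by_cases h1 : x = a
    · exact Or.inl h1
    · exact Or.inr (hc x hx h1)
  have h1 := Set.ncard_le_ncard this
  have h2 := Set.ncard_insert_le a ({b} : Set α)
  rw [Set.ncard_singleton] at h2
  omega

namespace Pl

variable {G P L : Type*} [Group G] [MulAction G P] [MulAction G L] (π : Pl G P L)

/-- the dual plane -/
def dual : Pl G L P where
  I := fun l p => π.I p l
  n := π.n
  join := π.meet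
  meet := π.join
  uniq := fun h1 h2 h3 h4 => (π.uniq h1 h3 h2 h4).symm
  card_pts := π.card_lns
  card_lns := π.card_pts
  two_le := π.two_le
  neP := π.neL
  neL := π.neP
  act := fun g l p => π.act g p l
  faithP := π.faithL
  faithL := π.faithP

variable {π}

theorem line_eq {p q : P} {l m : L} (h : p ≠ q) (h1 : π.I p l) (h2 : π.I q l) (h3 : π.I p m)
    (h4 : π.I q m) : l = m := (π.uniq h1 h2 h3 h4).resolve_left h

theorem pt_eq {p q : P} {l m : L} (h : l ≠ m) (h1 : π.I p l) (h2 : π.I p m) (h3 : π.I q l)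
    (h4 : π.I q m) : p = q := (π.uniq h1 h3 h2 h4).resolve_right h

theorem smul_I (g : G) {p : P} {l : L} (h : π.I p l) : π.I (g • p) (g • l) := (π.act g p l).2 h

theorem smul_I_of_fix {g : G} {p : P} {l : L} (h : π.I p l) (hl : g • l = l) : π.I (g • p) l :=
  hl ▸ smul_I g h

theorem I_smul_of_fix {g : G} {p : P} {l : L} (h : π.I p l) (hp : g • p = p) : π.I p (g • l) :=
  hp ▸ smul_I g h

theorem I_of_smul_I {g : G} {p : P} {l : L} (h : π.I (g • p) l) (hl : g • l = l) : π.I p l :=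
  (π.act g p l).1 (hl.symm ▸ h)

theorem fix_line {g : G} {p q : P} {l : L} (h : p ≠ q) (h1 : π.I p l) (h2 : π.I q l)
    (hp : g • p = p) (hq : g • q = q) : g • l = l :=
  line_eq h (I_smul_of_fix h1 hp) (I_smul_of_fix h2 hq) h1 h2

theorem fix_pt {g : G} {p : P} {l m : L} (h : l ≠ m) (h1 : π.I p l) (h2 : π.I p m)
    (hl : g • l = l) (hm : g • m = m) : g • p = p :=
  pt_eq h (smul_I_of_fix h1 hl) (smul_I_of_fix h2 hm) h1 h2

variable (π)

theorem join' (p q : P) : ∃ l, π.I p l ∧ π.I q l := by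
  by_cases h : p = q
  · subst h
    obtain ⟨l, hl⟩ : {l | π.I p l}.Nonempty := Set.nonempty_of_ncard_ne_zero (by
      rw [π.card_lns]; omega)
    exact ⟨l, hl, hl⟩
  · exact π.join p q h

theorem meet' (l m : L) : ∃ p, π.I p l ∧ π.I p m := π.dual.join' l m

theorem exists_pt_ne (l : L) (a b : P) : ∃ p, π.I p l ∧ p ≠ a ∧ p ≠ b :=
  exists_ne_ne_of_three_le (s := {p | π.I p l}) (by rw [π.card_pts]; have := π.two_le; omega) a b

theorem exists_ln_ne (p : P) (a b : L) : ∃ l, π.I p l ∧ l ≠ a ∧ l ≠ b := π.dual.exists_pt_ne p a b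

theorem exists_notI (l : L) : ∃ p, ¬ π.I p l := by
  obtain ⟨p, hp, -⟩ := π.meet' l l
  obtain ⟨m, hm, hml, -⟩ := π.exists_ln_ne p l l
  obtain ⟨q, hq, hqp, -⟩ := π.exists_pt_ne m p p
  exact ⟨q, fun h => hqp (pt_eq hml hq h hm hp)⟩

theorem exists_ln_notI (p : P) : ∃ l, ¬ π.I p l := π.dual.exists_notI p

theorem ncard_pts_diff {c : P} {l : L} (h : π.I c l) : {p | π.I p l ∧ p ≠ c}.ncard = π.n := by
  have h1 := π.card_pts l
  have hfin : {p | π.I p l}.Finite := Set.finite_of_ncard_ne_zero (by omega)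
  have := Set.ncard_sdiff_singleton_add_one (s := {p | π.I p l}) h hfin
  rw [h1] at this
  exact Nat.add_right_cancel this

theorem card_P [Finite P] [Finite L] : Nat.card P = π.n ^ 2 + π.n + 1 := by
  classical
  have := Fintype.ofFinite P
  have := Fintype.ofFinite L
  obtain ⟨c⟩ := π.neP
  have e : (Finset.univ.erase c : Finset P) = (Finset.univ.filter (π.I c ·)).biUnion
      fun l => Finset.univ.filter fun p => π.I p l ∧ p ≠ c := by
    ext p
    simp only [Finset.mem_erase, Finset.mem_univ, and_true, Finset.mem_biUnion, Finset.mem_filter,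
      true_and]
    constructor
    · intro h
      obtain ⟨l, h1, h2⟩ := π.join p c h
      exact ⟨l, h2, h1, h⟩
    · rintro ⟨l, -, -, h⟩
      exact h
  have e2 := congrArg Finset.card e
  rw [Finset.card_erase_of_mem (Finset.mem_univ _), Finset.card_biUnion,
    Finset.sum_const_nat (m := π.n), Finset.card_univ] at e2
  · have h1 : (Finset.univ.filter (π.I c ·)).card = π.n + 1 := by
      rw [← π.card_lns c, ← Set.ncard_coe_finset]; congr 1; ext; simp
    have : 0 < Fintype.card P := Fintype.card_pos_iff.2 ⟨c⟩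
    rw [h1] at e2
    rw [Nat.card_eq_fintype_card]
    nlinarith [Nat.sub_add_cancel this]
  · intro l hl
    rw [← π.ncard_pts_diff (Finset.mem_filter.1 hl).2, ← Set.ncard_coe_finset]; congr 1; ext; simp
  · intro l hl m hm hlm
    rw [Function.onFun, Finset.disjoint_left]
    intro p h1 h2
    simp only [Finset.coe_filter, Finset.mem_univ, true_and, Set.mem_ofPred_eq,
      Finset.mem_filter] at hl hm h1 h2
    exact h1.2 (pt_eq hlm h1.1 h2.1 hl hm)

theorem card_L [Finite P] [Finite L] : Nat.card L = π.n ^ 2 + π.n + 1 := π.dual.card_P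

theorem ncard_notI [Finite P] [Finite L] (l : L) : {p | ¬ π.I p l}.ncard = π.n ^ 2 := by
  have h := Set.ncard_add_ncard_compl {p | π.I p l}
  rw [π.card_pts, π.card_P] at h
  have : {p | ¬ π.I p l} = {p | π.I p l}ᶜ := rfl
  rw [this]
  omega

open scoped Classical in
theorem sum_card_inter [Fintype P] [Fintype L] (g : G) :
    ∑ l : L, (Finset.univ.filter fun p => π.I p l ∧ π.I p (g • l)).card =
      Fintype.card L + π.n * {l : L | g • l = l}.ncard := by
  have : ∀ l : L, (Finset.univ.filter fun p => π.I p l ∧ π.I p (g • l)).card =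
      1 + if g • l = l then π.n else 0 := by
    intro l
    split_ifs with h
    · rw [h, add_comm, ← π.card_pts l, ← Set.ncard_coe_finset]; congr 1; ext; simp
    · obtain ⟨p, h1, h2⟩ := π.meet l (g • l) (Ne.symm h)
      rw [add_zero, Finset.card_eq_one]
      refine ⟨p, ?_⟩
      ext q
      simp only [Finset.mem_filter, Finset.mem_univ, true_and, Finset.mem_singleton]
      exact ⟨fun h3 => pt_eq (Ne.symm h) h3.1 h3.2 h1 h2, fun e => e ▸ ⟨h1, h2⟩⟩
  rw [Finset.sum_congr rfl fun l _ => this l, Finset.sum_add_distrib, ← Finset.sum_filter]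
  simp only [Finset.sum_const, Finset.card_univ, smul_eq_mul, mul_one]
  rw [mul_comm, ← Set.ncard_coe_finset]
  congr 3; ext; simp

include π in
theorem ncard_fix_eq [Finite P] [Finite L] (g : G) :
    {p : P | g • p = p}.ncard = {l : L | g • l = l}.ncard := by
  classical
  have := Fintype.ofFinite P
  have := Fintype.ofFinite L
  have h1 := π.sum_card_inter g
  have h2 := π.dual.sum_card_inter g⁻¹
  have h3 := sum_card_filter_comm (Finset.univ : Finset L) (Finset.univ : Finset P)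
    (fun l p => π.I p l ∧ π.I p (g • l))
  have h4 : ∀ p : P, (Finset.univ.filter fun l => π.I p l ∧ π.I p (g • l)) =
      Finset.univ.filter fun l => π.dual.I l p ∧ π.dual.I l (g⁻¹ • p) := by
    intro p
    ext l
    simp only [Finset.mem_filter, Finset.mem_univ, true_and]
    refine and_congr_right fun _ => ?_
    change _ ↔ π.I (g⁻¹ • p) l
    rw [← π.act g (g⁻¹ • p), smul_inv_smul]
  simp only [h4] at h3
  rw [h1, h2, ← Nat.card_eq_fintype_card, ← Nat.card_eq_fintype_card, π.card_P, π.card_L] at h3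
  have h5 : {p : P | g⁻¹ • p = p} = {p : P | g • p = p} := by
    ext p; exact inv_smul_eq_iff.trans eq_comm
  rw [h5] at h3
  have := π.two_le
  exact (Nat.eq_of_mul_eq_mul_left (by omega) (Nat.add_left_cancel h3)).symm

/-- `g` fixes the line `l` pointwise -/
def Ax (g : G) (l : L) : Prop := ∀ p, π.I p l → g • p = p

/-- `g` fixes all lines through `c` -/
def Ce (g : G) (c : P) : Prop := ∀ l, π.I c l → g • l = l

variable {π}

theorem Ax.fix {g : G} {l : L} (h : π.Ax g l) : g • l = l := by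
  obtain ⟨p, hp, -⟩ := π.meet' l l
  obtain ⟨q, hq, hqp, -⟩ := π.exists_pt_ne l p p
  exact fix_line hqp hq hp (h q hq) (h p hp)

theorem Ce.fix {g : G} {c : P} (h : π.Ce g c) : g • c = c := Ax.fix (π := π.dual) h

theorem Ax.mul {g h : G} {l : L} (hg : π.Ax g l) (hh : π.Ax h l) : π.Ax (g * h) l :=
  fun p hp => by rw [mul_smul, hh p hp, hg p hp]

theorem Ax.inv {g : G} {l : L} (hg : π.Ax g l) : π.Ax g⁻¹ l :=
  fun p hp => by rw [inv_smul_eq_iff, hg p hp]

theorem Ax.conj {g : G} {l : L} (hg : π.Ax g l) (u : G) : π.Ax (u * g * u⁻¹) (u • l) := by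
  intro p hp
  rw [mul_smul, mul_smul, hg _ (by rwa [← π.act u, smul_inv_smul]), smul_inv_smul]

theorem Ce.mul {g h : G} {c : P} (hg : π.Ce g c) (hh : π.Ce h c) : π.Ce (g * h) c :=
  Ax.mul (π := π.dual) hg hh

theorem Ce.inv {g : G} {c : P} (hg : π.Ce g c) : π.Ce g⁻¹ c := Ax.inv (π := π.dual) hg

theorem Ce.conj {g : G} {c : P} (hg : π.Ce g c) (u : G) : π.Ce (u * g * u⁻¹) (u • c) :=
  Ax.conj (π := π.dual) hg u

theorem Ax.eq_one {g : G} {a b : L} (ha : π.Ax g a) (hb : π.Ax g b) (h : a ≠ b) : g = 1 := by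
  obtain ⟨z, hz1, hz2⟩ := π.meet a b h
  have key : ∀ m, ¬ π.I z m → g • m = m := by
    intro m hm
    obtain ⟨p, h1, h2⟩ := π.meet' m a
    obtain ⟨q, h3, h4⟩ := π.meet' m b
    refine fix_line (fun e => hm ?_) h1 h3 (ha p h2) (hb q h4)
    subst e
    rwa [pt_eq h hz1 hz2 h2 h4]
  apply π.faithP
  intro x
  by_cases hx : x = z
  · rw [hx]; exact ha z hz1
  obtain ⟨l, h1, h2⟩ := π.join x z hx
  obtain ⟨m, h3, h4, -⟩ := π.exists_ln_ne x l l
  obtain ⟨m', h5, h6, h7⟩ := π.exists_ln_ne x l m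
  exact fix_pt h7 h5 h3 (key m' fun h => h6 (line_eq hx h5 h h1 h2))
    (key m fun h => h4 (line_eq hx h3 h h1 h2))

theorem Ce.eq_one {g : G} {c d : P} (hc : π.Ce g c) (hd : π.Ce g d) (h : c ≠ d) : g = 1 :=
  Ax.eq_one (π := π.dual) hc hd h

theorem Ce.eq {g : G} {c d : P} (hc : π.Ce g c) (hd : π.Ce g d) (h : g ≠ 1) : c = d :=
  by_contra fun e => h (hc.eq_one hd e)

theorem Ax.ce_of_fix {g : G} {a : L} {z : P} (ha : π.Ax g a) (hz : ¬ π.I z a) (h : g • z = z) :
    π.Ce g z := by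
  intro m hm
  obtain ⟨y, h1, h2⟩ := π.meet' m a
  exact fix_line (p := z) (q := y) (by rintro rfl; exact hz h2) hm h1 h (ha y h2)

theorem Ax.exists_ce {g : G} {a : L} (ha : π.Ax g a) : ∃ c, π.Ce g c := by
  by_cases h : ∃ z, ¬ π.I z a ∧ g • z = z
  · obtain ⟨z, h1, h2⟩ := h
    exact ⟨z, ha.ce_of_fix h1 h2⟩
  push Not at h
  have key : ∀ x, ¬ π.I x a → ∃ m, π.I x m ∧ g • m = m := by
    intro x hx
    obtain ⟨m, h1, h2⟩ := π.join x (g • x) (h x hx).symm
    obtain ⟨y, h3, h4⟩ := π.meet' m a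
    refine ⟨m, h1, line_eq (p := g • x) (q := y) ?_ (smul_I g h1) (I_smul_of_fix h3 (ha y h4)) h2 h3⟩
    rintro rfl
    exact hx (I_of_smul_I h4 ha.fix)
  obtain ⟨x, hx⟩ := π.exists_notI a
  obtain ⟨m, hm1, hm2⟩ := key x hx
  obtain ⟨c, hc1, hc2⟩ := π.meet' m a
  refine ⟨c, fun m' hm' => ?_⟩
  by_cases e : m' = a
  · rw [e]; exact ha.fix
  obtain ⟨x', h1, h2, -⟩ := π.exists_pt_ne m' c c
  have h3 : ¬ π.I x' a := fun h => h2 (pt_eq e h1 h hm' hc2)
  obtain ⟨m'', h4, h5⟩ := key x' h3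
  have h6 : π.I c m'' := by
    by_cases e' : m'' = m
    · rw [e']; exact hc1
    obtain ⟨w, h7, h8⟩ := π.meet m'' m e'
    have h9 : π.I w a := by_contra fun h' => h w h' (fix_pt e' h7 h8 h5 hm2)
    rwa [pt_eq (l := m) (m := a) (by rintro rfl; exact hx hm1) hc1 hc2 h8 h9]
  rw [line_eq h2 h1 hm' h4 h6]
  exact h5

theorem Ce.exists_ax {g : G} {c : P} (hc : π.Ce g c) : ∃ a, π.Ax g a :=
  Ax.exists_ce (π := π.dual) hc

theorem fix_cases {g : G} {a : L} {c z : P} (ha : π.Ax g a) (hc : π.Ce g c) (h1 : g ≠ 1)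
    (hz : g • z = z) : z = c ∨ π.I z a := by
  by_cases h : π.I z a
  · exact Or.inr h
  · exact Or.inl ((ha.ce_of_fix h hz).eq hc h1)

theorem fixL_cases {g : G} {a m : L} {c : P} (ha : π.Ax g a) (hc : π.Ce g c) (h1 : g ≠ 1)
    (hm : g • m = m) : m = a ∨ π.I c m :=
  fix_cases (π := π.dual) hc ha h1 hm

variable (π)

/-- the perspectivities with centre `c` and axis `a` -/
def Tc (c : P) (a : L) : Subgroup G where
  carrier := {g | π.Ce g c ∧ π.Ax g a}
  one_mem' := ⟨fun l _ => one_smul G l, fun p _ => one_smul G p⟩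
  mul_mem' := fun h1 h2 => ⟨h1.1.mul h2.1, h1.2.mul h2.2⟩
  inv_mem' := fun h => ⟨h.1.inv, h.2.inv⟩

/-- the elations with axis `a` -/
def T (a : L) : Subgroup G where
  carrier := {g | ∃ c, π.I c a ∧ g ∈ π.Tc c a}
  one_mem' := by
    obtain ⟨c, hc, -⟩ := π.meet' a a
    exact ⟨c, hc, one_mem _⟩
  mul_mem' := by
    rintro g h ⟨c, hc, hg⟩ ⟨e, he, hh⟩
    obtain ⟨d, hd⟩ := (hg.2.mul hh.2).exists_ce
    by_cases hda : π.I d a
    · exact ⟨d, hda, hd, hg.2.mul hh.2⟩
    by_cases h1 : h • d = d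
    · have : h = 1 := hh.1.eq_one (hh.2.ce_of_fix hda h1) (by rintro rfl; exact hda he)
      exact ⟨c, hc, by rwa [this, mul_one]⟩
    obtain ⟨m, hm1, hm2⟩ := π.join d (h • d) (Ne.symm h1)
    have hma : m ≠ a := by rintro rfl; exact hda hm1
    have key : ∀ u : G, ∀ b, π.I b a → π.Ce u b → u • d = h • d → π.I b m := by
      intro u b hb hu hud
      obtain ⟨m', h2, h3⟩ := π.join' d b
      rwa [line_eq (Ne.symm h1) hm1 hm2 h2 (hud ▸ smul_I_of_fix h2 (hu m' h3))]
    have h2 := key h e he hh.1 rfl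
    have h3 := key g⁻¹ c hc hg.1.inv (by rw [inv_smul_eq_iff, ← mul_smul, hd.fix])
    rw [pt_eq hma h2 he h3 hc] at hh
    exact ⟨c, hc, mul_mem hg hh⟩
  inv_mem' := fun ⟨c, hc, hg⟩ => ⟨c, hc, inv_mem hg⟩

variable {π}

theorem Tc_le_T {c : P} {a : L} (h : π.I c a) : π.Tc c a ≤ π.T a := fun _ hg => ⟨c, h, hg⟩

theorem ax_of_mem_T {g : G} {a : L} (h : g ∈ π.T a) : π.Ax g a := h.choose_spec.2.2

theorem eq_one_of_mem_T {g : G} {a : L} {z : P} (h : g ∈ π.T a) (hz : ¬ π.I z a)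
    (hg : g • z = z) : g = 1 := by
  obtain ⟨c, hc, h1, h2⟩ := h
  exact h1.eq_one (h2.ce_of_fix hz hg) (by rintro rfl; exact hz hc)

theorem conj_mem_Tc {g : G} {c : P} {a : L} (h : g ∈ π.Tc c a) (u : G) :
    u * g * u⁻¹ ∈ π.Tc (u • c) (u • a) := ⟨h.1.conj u, h.2.conj u⟩

theorem conj_mem_T {g u : G} {a : L} (h : g ∈ π.T a) (hu : u • a = a) : u * g * u⁻¹ ∈ π.T a := by
  obtain ⟨c, hc, h1⟩ := h
  exact ⟨u • c, smul_I_of_fix hc hu, hu ▸ conj_mem_Tc h1 u⟩

theorem card_dvd_of_le_T [Finite P] {a : L} {K : Subgroup G} (hK : K ≤ π.T a) (A : Set P)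
    (hA : ∀ x ∈ A, ¬ π.I x a) (hinv : ∀ g ∈ K, ∀ x ∈ A, g • x ∈ A) : Nat.card K ∣ A.ncard := by
  refine CfsgH6.dvd_ncard_of_dvd_index_stabilizer (G := K) _ A (fun g x hx => hinv g g.2 x hx) ?_
  intro x hx
  have : MulAction.stabilizer K x = ⊥ := by
    rw [eq_bot_iff]
    intro g hg
    exact Subtype.ext (eq_one_of_mem_T (hK g.2) (hA x hx) hg)
  rw [this, Subgroup.index_bot]

theorem card_T_dvd [Finite P] [Finite L] (a : L) : Nat.card (π.T a) ∣ π.n ^ 2 := by
  rw [← π.ncard_notI a]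
  exact card_dvd_of_le_T le_rfl _ (fun x hx => hx)
    fun g hg x hx h => hx (I_of_smul_I h (ax_of_mem_T hg).fix)

theorem commute_of_ne {g h : G} {c d : P} {a : L} (hc : π.I c a) (hd : π.I d a)
    (hg : g ∈ π.Tc c a) (hh : h ∈ π.Tc d a) (hcd : c ≠ d) : Commute g h := by
  rw [← commutatorElement_eq_one_iff_commute, commutatorElement_def]
  refine Ce.eq_one (π := π) (c := c) (d := d) ?_ ?_ hcd
  · have := hg.1.inv.conj h
    rw [hh.2 c hc] at this
    simpa [mul_assoc] using hg.1.mul this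
  · have := hh.1.conj g
    rw [hg.2 d hd] at this
    exact this.mul hh.1.inv

section TwoCentres

variable {g₀ h₀ : G} {c d : P} {a : L} (hc : π.I c a) (hd : π.I d a) (hg₀ : g₀ ∈ π.Tc c a)
  (hh₀ : h₀ ∈ π.Tc d a) (hg1 : g₀ ≠ 1) (hh1 : h₀ ≠ 1) (hcd : c ≠ d)
include hc hd hg₀ hh₀ hg1 hh1 hcd

theorem T_comm {g h : G} (hg : g ∈ π.T a) (hh : h ∈ π.T a) : Commute g h := by
  obtain ⟨x, hx, hg⟩ := hg
  obtain ⟨y, hy, hh⟩ := hh
  by_cases hxy : x = y
  swap
  · exact commute_of_ne hx hy hg hh hxy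
  subst hxy
  obtain ⟨e, he, u, hu, hu1, hex⟩ : ∃ e, π.I e a ∧ ∃ u ∈ π.Tc e a, u ≠ 1 ∧ x ≠ e := by
    by_cases h : x = c
    · exact ⟨d, hd, h₀, hh₀, hh1, h ▸ hcd⟩
    · exact ⟨c, hc, g₀, hg₀, hg1, h⟩
  obtain ⟨f, hf, hhu⟩ := mul_mem (Tc_le_T hx hh) (Tc_le_T he hu)
  have hxf : x ≠ f := by
    rintro rfl
    have := mul_mem (inv_mem hh) hhu
    rw [inv_mul_cancel_left] at this
    exact hu1 (this.1.eq_one hu.1 hex)
  have h1 := (commute_of_ne hx hf hg hhu hxf).mul_right (commute_of_ne hx he hg hu hex).inv_right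
  rwa [mul_inv_cancel_right] at h1

theorem T_exists_prime [Finite G] : ∃ p : ℕ, p.Prime ∧ ∀ g ∈ π.T a, g ^ p = 1 := by
  have key : ∀ (p : ℕ) (x : P) (u : G), π.I x a → u ∈ π.Tc x a → u ≠ 1 → u ^ p = 1 →
      ∀ y, π.I y a → x ≠ y → ∀ h ∈ π.Tc y a, h ^ p = 1 := by
    intro p x u hx hu hu1 hup y hy hxy h hh
    obtain ⟨f, hf, huh⟩ := mul_mem (Tc_le_T hx hu) (Tc_le_T hy hh)
    have hfy : f ≠ y := by
      rintro rfl
      have := mul_mem huh (inv_mem hh)
      rw [mul_inv_cancel_right] at this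
      exact hu1 (hu.1.eq_one this.1 hxy)
    have h1 := pow_mem huh p
    rw [(commute_of_ne hx hy hu hh hxy).mul_pow, hup, one_mul] at h1
    exact h1.1.eq_one (pow_mem hh p).1 hfy
  obtain ⟨p, hp, k, hk⟩ := Nat.exists_prime_and_dvd (mt orderOf_eq_one_iff.1 hg1)
  have hk0 : k ≠ 0 := by
    rintro rfl
    exact (orderOf_pos g₀).ne' (by simpa using hk)
  have hm1 : g₀ ^ k ≠ 1 := pow_ne_one_of_lt_orderOf hk0 (by
    rw [hk]
    exact lt_mul_of_one_lt_left (Nat.pos_of_ne_zero hk0) hp.one_lt)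
  have hmp : (g₀ ^ k) ^ p = 1 := by rw [← pow_mul, mul_comm, ← hk, pow_orderOf_eq_one]
  refine ⟨p, hp, ?_⟩
  rintro g ⟨y, hy, hg⟩
  have k1 := key p c _ hc (pow_mem hg₀ k) hm1 hmp
  by_cases h : c = y
  · exact key p d h₀ hd hh₀ hh1 (k1 d hd hcd h₀ hh₀) y hy (h ▸ hcd.symm) g hg
  · exact k1 y hy h g hg

end TwoCentres

end Pl

end CfsgH1
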