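import Mathlib
import Cfsg.Agent.H1.Plane

/-!
Finite projective planes of odd order with many involutory homologies.
-/

set_option autoImplicit false

namespace CfsgH1

/-- Gleason's lemma for involutions. -/
theorem trans_of_invol {G Ω : Type*} [Group G] [MulAction G Ω] [Finite Ω] (H : Subgroup G)
    (A : Set Ω) (hA : ∀ g ∈ H, ∀ x ∈ A, g • x ∈ A)
    (h : ∀ y ∈ A, ∃ u ∈ H, u * u = 1 ∧ u • y = y ∧ ∀ z ∈ A, u • z = z → z = y) {x y : Ω}
    (hx : x ∈ A) (hy : y ∈ A) : ∃ g ∈ H, g • x = y := by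
  let O : Set Ω := {z | ∃ g ∈ H, g • x = z}
  have hO : ∀ g ∈ H, ∀ z ∈ O, g • z ∈ O := by
    rintro g hg _ ⟨g', hg', rfl⟩
    exact ⟨g * g', mul_mem hg hg', mul_smul _ _ _⟩
  have hOA : O ⊆ A := by
    rintro _ ⟨g, hg, rfl⟩
    exact hA g hg x hx
  have hxO : x ∈ O := ⟨1, one_mem _, one_smul _ _⟩
  have hodd : Odd O.ncard := by
    obtain ⟨u, hu, huu, hux, hfix⟩ := h x hx
    rw [← Set.ncard_sdiff_singleton_add_one hxO, Nat.odd_add_one]
    intro ho
    obtain ⟨z, hz, h1⟩ := exists_fixed_of_odd huu (O \ {x}) (fun z hz => ⟨hO u hu z hz.1,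
      fun e => hz.2 (MulAction.injective u (e.trans hux.symm))⟩) ho
    exact hz.2 (hfix z (hOA hz.1) h1)
  obtain ⟨u, hu, huu, -, hfix⟩ := h y hy
  obtain ⟨z, hz, h1⟩ := exists_fixed_of_odd huu O (hO u hu) hodd
  rwa [hfix z (hOA hz) h1] at hz

namespace Pl

variable {G P L : Type*} [Group G] [MulAction G P] [MulAction G L] {π : Pl G P L}

variable (π) in
/-- `h` is an involutory homology with centre `c` and axis `a` -/
structure IH (h : G) (c : P) (a : L) : Prop where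
  sq : h * h = 1
  ne : h ≠ 1
  ce : π.Ce h c
  ax : π.Ax h a
  notI : ¬ π.I c a

theorem IH.dual {h : G} {c : P} {a : L} (H : π.IH h c a) : π.dual.IH h a c :=
  ⟨H.sq, H.ne, H.ax, H.ce, H.notI⟩

theorem IH.of_dual {h : G} {c : P} {a : L} (H : π.dual.IH h a c) : π.IH h c a :=
  ⟨H.sq, H.ne, H.ax, H.ce, H.notI⟩

theorem IH.inv {h : G} {c : P} {a : L} (H : π.IH h c a) : h⁻¹ = h :=
  inv_eq_of_mul_eq_one_right H.sq

theorem IH.conj {h : G} {c : P} {a : L} (H : π.IH h c a) (u : G) :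
    π.IH (u * h * u⁻¹) (u • c) (u • a) :=
  ⟨by rw [conj_mul, H.sq]; simp, by simpa using H.ne, H.ce.conj u, H.ax.conj u,
    by rw [π.act]; exact H.notI⟩

theorem IH.fix {h : G} {c z : P} {a : L} (H : π.IH h c a) (hz : h • z = z) : z = c ∨ π.I z a :=
  fix_cases H.ax H.ce H.ne hz

theorem IH.fixL {h : G} {c : P} {a m : L} (H : π.IH h c a) (hm : h • m = m) : m = a ∨ π.I c m :=
  fixL_cases H.ax H.ce H.ne hm

/-- Ostrom's lemma. -/
theorem IH.mul {h h' : G} {c c' d : P} {a a' m : L} (H : π.IH h c a) (H' : π.IH h' c' a')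
    (h1 : π.I c a') (h2 : π.I c' a) (h3 : π.I c m) (h4 : π.I c' m) (h5 : π.I d a) (h6 : π.I d a') :
    π.IH (h * h') d m := by
  have hcc : c ≠ c' := by rintro rfl; exact H.notI h2
  have haa : a ≠ a' := by rintro rfl; exact H.notI h1
  have hcomm : h * h' = h' * h := by
    have k1 := H.ce.conj h'
    rw [H'.ax c h1] at k1
    have k2 := H'.ce.conj h
    rw [H.ax c' h2] at k2
    have k3 := (H.ce.mul k1).eq_one (d := c') (by simpa [mul_assoc, H.inv] using k2.mul H'.ce.inv) hcc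
    rw [← mul_assoc, mul_inv_eq_one, ← mul_assoc, ← eq_mul_inv_iff_mul_eq, H.inv] at k3
    exact k3
  have hsq : h * h' * (h * h') = 1 := by
    rw [mul_assoc, ← mul_assoc h', ← hcomm, mul_assoc, H'.sq, mul_one, H.sq]
  have hne : h * h' ≠ 1 := by
    intro e
    rw [mul_eq_one_iff_inv_eq, H.inv] at e
    exact hcc (H.ce.eq (e ▸ H'.ce) H.ne)
  have hdm : ¬ π.I d m := by
    intro hd
    have hdc' : d ≠ c' := by rintro rfl; exact H'.notI h6
    exact H.notI (line_eq hdc' hd h4 h5 h2 ▸ h3)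
  have hm : (h * h') • m = m := by rw [mul_smul, H'.ce m h4, H.ce m h3]
  have key : ∀ {h h' : G} {c c' : P} {a a' : L}, π.IH h c a → π.IH h' c' a' → π.I c a' →
      π.I c' a → π.I c m → π.I c' m → π.I d a → π.I d a' → ∀ u, (h * h') • u = u → ¬ π.I u m →
      π.I u a' := by
    intro h h' c c' a a' H H' h1 h2 h3 h4 h5 h6 u hu hum
    have hcu : c ≠ u := by rintro rfl; exact hum h3
    obtain ⟨r, hr1, hr2⟩ := π.join c u hcu
    have hr : (h * h') • r = r :=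
      fix_line hcu hr1 hr2 (by rw [mul_smul, H'.ax c h1, H.ce.fix]) hu
    obtain ⟨z, hz1, hz2⟩ := π.meet' r a
    have hz : (h * h') • z = z := fix_pt (l := r) (m := a) (by rintro rfl; exact H.notI hr1) hz1 hz2
      hr (by rw [mul_smul, H'.ce a h2, H.ax.fix])
    rw [mul_smul, H.ax _ (smul_I_of_fix hz2 (H'.ce a h2))] at hz
    have hcz : c ≠ z := by rintro rfl; exact H.notI hz2
    rcases H'.fix hz with e | e
    · subst e
      exact absurd (line_eq hcz hr1 hz1 h3 h4 ▸ hr2) hum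
    · exact line_eq hcz hr1 hz1 h1 e ▸ hr2
  have hfix : ∀ u, (h * h') • u = u → ¬ π.I u m → u = d := fun u hu hum =>
    pt_eq haa (key H' H h2 h1 h4 h3 h6 h5 u (hcomm ▸ hu) hum) (key H H' h1 h2 h3 h4 h5 h6 u hu hum)
      h5 h6
  have hax : π.Ax (h * h') m := by
    intro x hx
    obtain ⟨s, hs1, hs2⟩ := π.join' x d
    obtain ⟨r, hr1, hr2, hr3⟩ := π.exists_ln_ne x m s
    by_cases hr : (h * h') • r = r
    · exact fix_pt hr2 hr1 hx hr hm
    obtain ⟨u, hu1, hu2⟩ := π.meet' r ((h * h') • r)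
    have hu : (h * h') • u = u := by
      refine pt_eq hr (smul_I _ hu1) ?_ hu2 hu1
      simpa [← mul_smul, hsq] using smul_I (h * h') hu2
    by_cases hum : π.I u m
    · rwa [pt_eq hr2 hr1 hx hu1 hum]
    · rw [hfix u hu hum] at hu1
      exact absurd (line_eq (p := x) (q := d) (by rintro rfl; exact hdm hx) hr1 hu1 hs1 hs2) hr3
  exact ⟨hsq, hne, hax.ce_of_fix hdm (by rw [mul_smul, H'.ax d h6, H.ax d h5]), hax, hdm⟩

theorem IH.mul_mem_T {h h' : G} {c c' : P} {a : L} (H : π.IH h c a) (H' : π.IH h' c' a)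
    (hcc : c ≠ c') : h' * h ∈ π.T a := by
  have hax := H'.ax.mul H.ax
  obtain ⟨d, hd⟩ := hax.exists_ce
  by_cases hda : π.I d a
  · exact ⟨d, hda, hd, hax⟩
  have hne : h' * h ≠ 1 := by
    intro e
    rw [mul_eq_one_iff_inv_eq, H'.inv] at e
    exact hcc (H.ce.eq (e ▸ H'.ce) H.ne)
  have k1 : h • d = d := by
    refine Ce.eq (π := π) (g := h * h') ?_ ?_ ?_
    · simpa [mul_assoc] using hd.conj h
    · simpa [H.inv, H'.inv] using hd.inv
    · rw [← inv_ne_one]; simpa [H.inv, H'.inv] using hne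
  have k2 : h' • d = d := by simpa [mul_smul, k1] using hd.fix
  exact absurd (((H.fix k1).resolve_right hda).symm.trans ((H'.fix k2).resolve_right hda)) hcc

variable [Finite P] [Finite L] (ho : Odd π.n)
include ho

theorem odd_card_T (a : L) : Odd (Nat.card (π.T a)) := ho.pow.of_dvd_nat (card_T_dvd a)

theorem odd_orderOf {g : G} {a : L} (hg : g ∈ π.T a) : Odd (orderOf g) :=
  (odd_card_T ho a).of_dvd_nat (Subgroup.orderOf_dvd_natCard _ hg)

theorem exists_IH {h : G} {a : L} (h1 : h * h = 1) (h2 : h ≠ 1) (ha : π.Ax h a) :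
    ∃ c, π.IH h c a := by
  obtain ⟨c, hc⟩ := ha.exists_ce
  refine ⟨c, h1, h2, hc, ha, fun h3 => ?_⟩
  have := odd_orderOf ho (g := h) ⟨c, h3, hc, ha⟩
  rw [orderOf_eq_prime (by rwa [pow_two]) h2] at this
  exact absurd this (by decide)

theorem IH.exists_T {h h' : G} {c c' : P} {a : L} (H : π.IH h c a) (H' : π.IH h' c' a) :
    ∃ t ∈ π.T a, t • c = c' := by
  by_cases hcc : c = c'
  · exact ⟨1, one_mem _, by rw [one_smul, hcc]⟩
  have hu := H.mul_mem_T H' hcc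
  obtain ⟨r, hr⟩ := odd_orderOf ho hu
  refine ⟨(h' * h) ^ (r + 1), pow_mem hu _, ?_⟩
  have h1 : h * (h' * h)⁻¹ = (h' * h) * h := by
    rw [mul_inv_rev, H.inv, H'.inv, ← mul_assoc, H.sq, mul_assoc, H.sq, one_mul, mul_one]
  have h2 : SemiconjBy h (h' * h)⁻¹ (h' * h) := h1
  have h3 : (h' * h) ^ (r + 1) * h * ((h' * h) ^ (r + 1))⁻¹ = h' := by
    rw [mul_assoc, ← inv_pow, (h2.pow_right (r + 1)).eq, ← mul_assoc, ← pow_add,
      show r + 1 + (r + 1) = 2 * r + 1 + 1 by ring, pow_succ, ← hr, pow_orderOf_eq_one, one_mul,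
      mul_assoc, H.sq, mul_one]
  have h4 := H.ce.conj ((h' * h) ^ (r + 1))
  rw [h3] at h4
  exact h4.eq H'.ce H'.ne

omit [Finite L] ho in
theorem exists_IH_axis (hp : ∀ x y : P, ∃ h c a, π.IH h c a ∧ h • x = x ∧ h • y = y) (m : L) :
    ∃ h c, π.IH h c m := by
  by_contra hm
  push Not at hm
  have tr : ∀ x, π.I x m → ∀ y z, π.I y m → y ≠ x → π.I z m → z ≠ x →
      ∃ g : G, g • x = x ∧ g • m = m ∧ g • y = z := by
    intro x hx y z hy hyx hz hzx
    obtain ⟨g, hg, e⟩ := trans_of_invol (MulAction.stabilizer G x ⊓ MulAction.stabilizer G m)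
      {p | π.I p m ∧ p ≠ x} (fun g hg p hp => ⟨smul_I_of_fix hp.1 hg.2,
        fun e => hp.2 (MulAction.injective g (e.trans hg.1.symm))⟩) (by
        intro y hy
        obtain ⟨h, c, a, H, h1, h2⟩ := hp x y
        have ham : m ≠ a := by rintro rfl; exact hm h c H
        refine ⟨h, ⟨h1, fix_line hy.2 hy.1 hx h2 h1⟩, H.sq, h2, fun z hz h3 => ?_⟩
        rcases H.fix h1 with e1 | e1 <;> rcases H.fix h2 with e2 | e2 <;>
          rcases H.fix h3 with e3 | e3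
        · rw [e2, e3]
        · exact absurd (e2.trans e1.symm) hy.2
        · exact absurd (e3.trans e1.symm) hz.2
        · exact pt_eq ham hz.1 e3 hy.1 e2
        · rw [e2, e3]
        · exact absurd (pt_eq ham hz.1 e3 hx e1) hz.2
        · exact absurd (pt_eq ham hy.1 e2 hx e1) hy.2
        · exact pt_eq ham hz.1 e3 hy.1 e2) (x := y) (y := z) ⟨hy, hyx⟩ ⟨hz, hzx⟩
    exact ⟨g, hg.1, hg.2, e⟩
  obtain ⟨x₀, hx₀, -⟩ := π.meet' m m
  obtain ⟨y₀, hy₀, hne, -⟩ := π.exists_pt_ne m x₀ x₀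
  obtain ⟨h₀, c, a₀, H₀, k1, k2⟩ := hp x₀ y₀
  have hc : π.I c m :=
    (H₀.fixL (fix_line hne hy₀ hx₀ k2 k1)).resolve_left (by rintro rfl; exact hm h₀ c H₀)
  have ctr : ∀ x, π.I x m → ∃ h a, π.IH h x a := by
    intro x hx
    obtain ⟨z, hz, h1, h2⟩ := π.exists_pt_ne m c x
    obtain ⟨g, -, -, rfl⟩ := tr z hz c x hc h1.symm hx h2.symm
    exact ⟨_, _, H₀.conj g⟩
  have ctr2 : ∀ x y, π.I x m → π.I y m → y ≠ x → ∃ h a, π.IH h x a ∧ π.I y a := by
    intro x y hx hy hyx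
    obtain ⟨h, a, H⟩ := ctr x hx
    obtain ⟨w, hw1, hw2⟩ := π.meet' m a
    obtain ⟨g, h1, -, rfl⟩ := tr x hx w y hw1 (by rintro rfl; exact H.notI hw2) hy hyx
    exact ⟨_, _, h1 ▸ H.conj g, smul_I g hw2⟩
  obtain ⟨h, a, H, h1⟩ := ctr2 x₀ y₀ hx₀ hy₀ hne
  obtain ⟨h', a', H', h2⟩ := ctr2 y₀ x₀ hy₀ hx₀ hne.symm
  obtain ⟨d, h3, h4⟩ := π.meet' a a'
  exact hm _ d (H.mul H' h2 h1 hx₀ hy₀ h3 h4)

theorem exists_elation (hC : ∀ c : P, ∃ h m, π.IH h c m) :
    ∃ a, ∃ g ∈ π.T a, g ≠ 1 := by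
  classical
  by_contra hno
  push Not at hno
  have uc : ∀ {h h' : G} {c c' : P} {a : L}, π.IH h c a → π.IH h' c' a → c = c' := by
    intro h h' c c' a H H'
    obtain ⟨t, ht, e⟩ := H.exists_T ho H'
    rw [← e, hno a t ht, one_smul]
  choose hh ax hax using hC
  have hinj : Function.Injective ax := fun x y e => uc (hax x) (e ▸ hax y)
  have hbij : Function.Bijective ax := hinj.bijective_of_nat_card_le (by rw [π.card_L, π.card_P])
  have ua : ∀ {h : G} {c : P} {a : L}, π.IH h c a → a = ax c := by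
    intro h c a H
    obtain ⟨x, rfl⟩ := hbij.2 a
    rw [uc H (hax x)]
  have hsymm : ∀ x y, π.I x (ax y) → π.I y (ax x) := by
    intro x y hxy
    have h1 := (hax x).conj (hh y)
    rw [(hax y).ax x hxy] at h1
    refine ((hax y).fixL (ua h1)).resolve_left fun e => ?_
    rw [hinj e] at hxy
    exact (hax y).notI hxy
  have := Fintype.ofFinite P
  have hn := π.two_le
  obtain ⟨p, hp, hpn⟩ := Nat.exists_prime_and_dvd (show π.n ≠ 1 by omega)
  have := Fact.mk hp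
  have hn0 : (π.n : ZMod p) = 0 := (ZMod.natCast_eq_zero_iff _ _).2 hpn
  let A : Matrix P P (ZMod p) := Matrix.of fun x y => if π.I x (ax y) then 1 else 0
  let J : Matrix P P (ZMod p) := Matrix.of fun _ _ => 1
  have hrow : ∀ x, (Finset.univ.filter fun y => π.I x (ax y)).card = π.n + 1 := by
    intro x
    rw [← π.card_pts (ax x), ← Set.ncard_coe_finset]
    congr 1
    ext y
    simpa using ⟨hsymm x y, hsymm y x⟩
  have hAA : A * A = J := by
    ext x y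
    simp only [A, J, Matrix.mul_apply, Matrix.of_apply, ite_mul, one_mul, zero_mul, ← ite_and,
      Finset.sum_boole]
    by_cases hxy : x = y
    · subst hxy
      have : (Finset.univ.filter fun z => π.I x (ax z) ∧ π.I z (ax x)) =
          Finset.univ.filter fun y => π.I x (ax y) := by
        ext z
        simpa using hsymm x z
      rw [this, hrow]
      simp [hn0]
    · obtain ⟨z, h1, h2⟩ := π.meet' (ax x) (ax y)
      have : (Finset.univ.filter fun z => π.I x (ax z) ∧ π.I z (ax y)) = {z} := by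
        ext w
        simp only [Finset.mem_filter, Finset.mem_univ, true_and, Finset.mem_singleton]
        exact ⟨fun h => pt_eq (hinj.ne hxy) (hsymm _ _ h.1) h.2 h1 h2,
          fun e => e ▸ ⟨hsymm _ _ h1, h2⟩⟩
      rw [this]
      simp
  have hAJ : A * J = J := by
    ext x y
    simp only [A, J, Matrix.mul_apply, Matrix.of_apply, mul_one, Finset.sum_boole, hrow]
    simp [hn0]
  have hpow : ∀ j, A ^ (j + 2) = J := by
    intro j
    induction j with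
    | zero => rw [zero_add, pow_two, hAA]
    | succ j ih => rw [show j + 1 + 2 = j + 2 + 1 by ring, pow_succ', ih, hAJ]
  have h1 := ZMod.trace_pow_card A
  have h2 : A.trace = 0 := by
    simp [A, Matrix.trace, (hax _).notI]
  have h3 : J.trace = 1 := by
    simp [J, Matrix.trace, ← Nat.card_eq_fintype_card, π.card_P, hn0]
  have h4 := hpow (p - 2)
  rw [Nat.sub_add_cancel hp.two_le] at h4
  rw [h2, zero_pow hp.ne_zero, h4, h3] at h1
  exact one_ne_zero h1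

omit ho [Finite P] [Finite L] in
theorem card_T_eq_sum [Finite G] [Fintype P] [DecidableEq P] (l : L) (A : Finset P)
    (hA : ∀ y, y ∈ A ↔ π.I y l) :
    Nat.card (π.T l) = 1 + ∑ y ∈ A, (Nat.card (π.Tc y l) - 1) := by
  classical
  have := Fintype.ofFinite G
  have card_sub : ∀ K : Subgroup G,
      ((Finset.univ.filter (· ∈ K)).erase 1).card = Nat.card K - 1 := by
    intro K
    rw [Finset.card_erase_of_mem (by simp), Nat.card_eq_fintype_card, Fintype.card_subtype]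
  have e : (Finset.univ.filter (· ∈ π.T l)).erase 1 =
      A.biUnion (fun b => (Finset.univ.filter (· ∈ π.Tc b l)).erase 1) := by
    ext g
    simp only [Finset.mem_erase, Finset.mem_filter, Finset.mem_univ, true_and, Finset.mem_biUnion]
    constructor
    · rintro ⟨h3, b, hb, hg⟩
      exact ⟨b, (hA b).2 hb, h3, hg⟩
    · rintro ⟨b, hb, h3, hg⟩
      exact ⟨h3, b, (hA b).1 hb, hg⟩
  have e2 := congrArg Finset.card e
  rw [card_sub, Finset.card_biUnion] at e2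
  · simp only [card_sub] at e2
    have : 0 < Nat.card (π.T l) := Nat.card_pos
    omega
  · intro b _ b' _ hbb
    rw [Function.onFun, Finset.disjoint_left]
    intro g hg hg'
    simp only [Finset.mem_erase, Finset.mem_filter, Finset.mem_univ, true_and] at hg hg'
    exact hg.1 (hg.2.1.eq_one hg'.2.1 hbb)

theorem prime_pow_of_two_centres [Finite G] (hC : ∀ c : P, ∃ h m, π.IH h c m) {g₀ h₀ : G}
    {c d : P} {l : L} (hc : π.I c l) (hd : π.I d l) (hg₀ : g₀ ∈ π.Tc c l) (hh₀ : h₀ ∈ π.Tc d l)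
    (hg1 : g₀ ≠ 1) (hh1 : h₀ ≠ 1) (hcd : c ≠ d) : ∃ p a : ℕ, p.Prime ∧ π.n = p ^ a := by
  classical
  have := Fintype.ofFinite P
  obtain ⟨p, hp, hT⟩ := T_exists_prime hc hd hg₀ hh₀ hg1 hh1 hcd
  have hcomm : ∀ {g h : G}, g ∈ π.T l → h ∈ π.T l → Commute g h :=
    T_comm hc hd hg₀ hh₀ hg1 hh1 hcd
  let t : P → ℕ := fun y => Nat.card (π.Tc y l)
  have tpos : ∀ y, 0 < t y := fun y => Nat.card_pos
  have le1 : ∀ y z, π.I y l → π.I z l → y ≠ z → t y * t z ≤ Nat.card (π.T l) := by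
    intro y z hy hz hyz
    rw [← Nat.card_prod]
    refine Nat.card_le_card_of_injective
      (fun q => ⟨q.1 * q.2, mul_mem (Tc_le_T hy q.1.2) (Tc_le_T hz q.2.2)⟩) ?_
    rintro ⟨u, v⟩ ⟨u', v'⟩ e
    have e1 : (u : G) * v = u' * v' := congrArg Subtype.val e
    have e2 : (u' : G)⁻¹ * u = v' * (v : G)⁻¹ := by
      rw [inv_mul_eq_iff_eq_mul, ← mul_assoc, ← e1, mul_inv_cancel_right]
    have e3 : (u' : G)⁻¹ * u = 1 := (mul_mem (inv_mem u'.2) u.2).1.eq_one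
      (e2 ▸ (mul_mem v'.2 (inv_mem v.2)).1) hyz
    rw [e3, eq_comm, mul_inv_eq_one] at e2
    rw [inv_mul_eq_one] at e3
    exact Prod.ext (Subtype.ext e3.symm) (Subtype.ext e2.symm)
  have le2 : ∀ y, π.I y l → ∃ z, π.I z l ∧ y ≠ z ∧ Nat.card (π.T l) ≤ t y * t z := by
    intro y hy
    obtain ⟨h, b, H⟩ := hC y
    obtain ⟨z, hz, hzb⟩ := π.meet' l b
    refine ⟨z, hz, by rintro rfl; exact H.notI hzb, ?_⟩
    have hl := H.ce l hy
    have m1 : ∀ τ ∈ π.T l, τ * (h * τ⁻¹ * h⁻¹) ∈ π.Tc y l := by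
      intro τ hτ
      refine ⟨?_, ax_of_mem_T (mul_mem hτ (conj_mem_T (inv_mem hτ) hl))⟩
      have := H.ce.conj τ
      rw [ax_of_mem_T hτ y hy] at this
      simpa [mul_assoc] using this.mul H.ce.inv
    have m2 : ∀ τ ∈ π.T l, h * τ * h⁻¹ * τ ∈ π.Tc z l := by
      intro τ hτ
      have k1 := conj_mem_T hτ hl
      obtain ⟨w, hw, k2⟩ := mul_mem k1 hτ
      by_cases k3 : h * τ * h⁻¹ * τ = 1
      · rw [k3]; exact one_mem _
      have k4 : h * τ * h⁻¹ * τ * h * (h * τ * h⁻¹ * τ)⁻¹ = h := by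
        have c1 := (hcomm k1 hτ).eq
        have c2 : ∀ x, h * (h * x) = x := fun x => by rw [← mul_assoc, H.sq, one_mul]
        rw [mul_inv_eq_iff_eq_mul]
        conv_lhs => rw [c1]
        simp only [H.inv, mul_assoc, c2, H.sq, mul_one]
      have k5 := (H.ax.conj (h * τ * h⁻¹ * τ))
      rw [k4] at k5
      have k6 : (h * τ * h⁻¹ * τ) • b = b := by_contra fun e => H.ne (k5.eq_one H.ax e)
      have hlb : l ≠ b := by rintro rfl; exact H.notI hy
      rwa [pt_eq hlb hz hzb hw ((fixL_cases k2.2 k2.1 k3 k6).resolve_left hlb.symm)]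
    rw [← Nat.card_prod]
    refine Nat.card_le_card_of_injective (fun τ => (⟨_, m1 τ τ.2⟩, ⟨_, m2 τ τ.2⟩)) ?_
    intro τ τ' e
    have e1 : (τ : G) * (h * (τ : G)⁻¹ * h⁻¹) = τ' * (h * (τ' : G)⁻¹ * h⁻¹) :=
      congrArg (fun q : π.Tc y l × π.Tc z l => (q.1 : G)) e
    have e2 : h * τ * h⁻¹ * τ = h * τ' * h⁻¹ * τ' :=
      congrArg (fun q : π.Tc y l × π.Tc z l => (q.2 : G)) e
    have e3 : τ ^ 2 = τ' ^ 2 := by
      apply Subtype.ext
      have := congrArg₂ (· * ·) e1 e2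
      simpa [mul_assoc, pow_two] using this
    exact (powCoprime (Nat.coprime_two_right.2 (odd_card_T ho l))).injective e3
  let A : Finset P := Finset.univ.filter (π.I · l)
  have hA : ∀ y, y ∈ A ↔ π.I y l := by simp [A]
  have hAc : A.card = π.n + 1 := by
    rw [← π.card_pts l, ← Set.ncard_coe_finset]; congr 1; ext; simp [A]
  obtain ⟨z₀, hz₀, hmax⟩ := A.exists_max_image t ⟨c, (hA c).2 hc⟩
  have heq : ∀ y ∈ A.erase z₀, t y * t z₀ = Nat.card (π.T l) := by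
    intro y hy
    rw [Finset.mem_erase, hA] at hy
    obtain ⟨z, hz, -, h2⟩ := le2 y hy.2
    exact le_antisymm (le1 y z₀ hy.2 ((hA _).1 hz₀) hy.1)
      (h2.trans (Nat.mul_le_mul_left _ (hmax z ((hA z).2 hz))))
  obtain ⟨y₀, hy₀, hy1⟩ : ∃ y ∈ A.erase z₀, 1 < t y := by
    have key : ∀ y g, g ∈ π.Tc y l → g ≠ 1 → 1 < t y := fun y g hg h1 =>
      Finite.one_lt_card_iff_nontrivial.2 ⟨⟨g, hg⟩, 1, fun e => h1 (congrArg Subtype.val e)⟩
    by_cases e : c = z₀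
    · exact ⟨d, Finset.mem_erase.2 ⟨e ▸ hcd.symm, (hA d).2 hd⟩, key d h₀ hh₀ hh1⟩
    · exact ⟨c, Finset.mem_erase.2 ⟨e, (hA c).2 hc⟩, key c g₀ hg₀ hg1⟩
  have hsum := card_T_eq_sum l A hA
  rw [← Finset.add_sum_erase A _ hz₀, Finset.sum_const_nat (m := t y₀ - 1) (fun y hy => by
    rw [show Nat.card (π.Tc y l) = t y₀ from
      Nat.eq_of_mul_eq_mul_right (tpos z₀) ((heq y hy).trans (heq y₀ hy₀).symm)]),
    Finset.card_erase_of_mem hz₀, hAc, ← heq y₀ hy₀] at hsum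
  have hn : π.n = t z₀ := by
    have h1 := tpos z₀
    obtain ⟨u, hu⟩ := Nat.exists_eq_add_of_lt hy1
    change t y₀ * t z₀ = 1 + (t z₀ - 1 + _) at hsum
    rw [hu, Nat.add_sub_cancel, Nat.add_sub_cancel, ← add_assoc, Nat.add_sub_cancel' h1] at hsum
    apply Nat.eq_of_mul_eq_mul_right (show 0 < 1 + u by omega)
    linarith
  have := Fact.mk hp
  have hP : IsPGroup p (π.Tc z₀ l) := fun g => ⟨1, Subtype.ext (by
    simpa using hT g (Tc_le_T ((hA _).1 hz₀) g.2))⟩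
  obtain ⟨a, ha⟩ := IsPGroup.iff_card.1 hP
  exact ⟨p, a, hp, hn.trans ha⟩

theorem prime_pow_of_IH [Finite G] (hA : ∀ m : L, ∃ h c, π.IH h c m)
    (hC : ∀ c : P, ∃ h m, π.IH h c m) : ∃ p a : ℕ, p.Prime ∧ π.n = p ^ a := by
  obtain ⟨l, g, ⟨c, hc, hg⟩, hg1⟩ := exists_elation ho hC
  by_cases h2 : ∃ d, π.I d l ∧ c ≠ d ∧ ∃ h ∈ π.Tc d l, h ≠ 1
  · obtain ⟨d, hd, hcd, h, hh, hh1⟩ := h2
    exact prime_pow_of_two_centres ho hC hc hd hg hh hg1 hh1 hcd
  push Not at h2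
  have hT : ∀ t ∈ π.T l, π.Ce t c := by
    rintro t ⟨d, hd, ht⟩
    by_cases e : c = d
    · exact e ▸ ht.1
    · rw [h2 d hd e t ht]; exact fun m _ => one_smul G m
  obtain ⟨hx, x, Hx⟩ := hA l
  have key : ∀ y, π.I y l → y ≠ c → ∃ h m, π.IH h c m ∧ π.I y m := by
    intro y hy hyc
    obtain ⟨h, b, H⟩ := hC y
    have hl := H.ce l hy
    have k1 : h • c = c :=
      (hg.1.conj h).eq (hT _ (conj_mem_T ⟨c, hc, hg⟩ hl)) (by simpa using hg1)
    have k2 := (H.fix k1).resolve_left hyc.symm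
    obtain ⟨t, ht, e⟩ := Hx.exists_T ho (hl ▸ Hx.conj h)
    obtain ⟨r, hr1, hr2⟩ := π.join' x c
    obtain ⟨s, hs1, hs2⟩ := π.join' x y
    have hrs : r ≠ s := by
      rintro rfl
      exact Hx.notI (line_eq hyc hs2 hr2 hy hc ▸ hr1)
    have k3 : h • x = x :=
      pt_eq hrs (e ▸ smul_I_of_fix hr1 (hT t ht r hr2)) (smul_I_of_fix hs1 (H.ce s hs2)) hr1 hs1
    have k4 := (H.fix k3).resolve_left (by rintro rfl; exact Hx.notI hy)
    exact ⟨_, s, Hx.mul H k4 hy hs1 hs2 hc k2, hs2⟩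
  have tr : ∀ y z, π.I y l → y ≠ c → π.I z l → z ≠ c → ∃ t ∈ π.dual.T c, t • y = z := by
    intro y z hy hyc hz hzc
    obtain ⟨h, m, H, hm⟩ := key y hy hyc
    obtain ⟨h', m', H', hm'⟩ := key z hz hzc
    obtain ⟨t, ht, rfl⟩ := IH.exists_T (π := π.dual) ho H.dual H'.dual
    refine ⟨t, ht, pt_eq (l := l) (m := t • m) (by rintro rfl; exact H'.notI hc)
      (smul_I_of_fix hy (ax_of_mem_T ht l hc)) (smul_I t hm) hz hm'⟩
  obtain ⟨y, hy, hyc, -⟩ := π.exists_pt_ne l c c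
  obtain ⟨z, hz, hzc, hzy⟩ := π.exists_pt_ne l c y
  obtain ⟨t, ⟨m, hm, ht⟩, e⟩ := tr y z hy hyc hz hzc
  obtain ⟨p, hp, hT'⟩ := T_exists_prime (π := π.dual) (c := l) (d := m) (a := c) hc hm
    ⟨hg.2, hg.1⟩ ht hg1 (by rintro rfl; exact hzy (by rw [← e, one_smul]))
    (by rintro rfl; exact hzy (by rw [← e, ht.1 y hy]))
  have := Fact.mk hp
  have hP : IsPGroup p (π.dual.T c) := fun g => ⟨1, Subtype.ext (by simpa using hT' g g.2)⟩
  obtain ⟨a, ha⟩ := hP.index (MulAction.stabilizer (π.dual.T c) y)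
  refine ⟨p, a, hp, ?_⟩
  rw [← ha, MulAction.index_stabilizer, ← π.ncard_pts_diff hc]
  congr 1
  ext w
  constructor
  · rintro ⟨h1, h2⟩
    obtain ⟨t, ht, e⟩ := tr y w hy hyc h1 h2
    exact ⟨⟨t, ht⟩, e⟩
  · rintro ⟨⟨t, ht⟩, rfl⟩
    refine ⟨smul_I_of_fix hy (ax_of_mem_T ht l hc), fun e => hyc ?_⟩
    exact MulAction.injective t (e.trans (Ce.fix (π := π) (ax_of_mem_T ht)).symm)

theorem prime_pow_of_pairs [Finite G]
    (hp : ∀ x y : P, ∃ h : G, h * h = 1 ∧ h ≠ 1 ∧ (∃ a, π.Ax h a) ∧ h • x = x ∧ h • y = y)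
    (hl : ∀ x y : L, ∃ h : G, h * h = 1 ∧ h ≠ 1 ∧ (∃ c, π.Ce h c) ∧ h • x = x ∧ h • y = y) :
    (∃ p a : ℕ, p.Prime ∧ π.n = p ^ a) ∧ ∃ a, ∃ g ∈ π.T a, g ≠ 1 := by
  have hA : ∀ m : L, ∃ h c, π.IH h c m := exists_IH_axis fun x y => by
    obtain ⟨h, h1, h2, ⟨a, ha⟩, h3, h4⟩ := hp x y
    obtain ⟨c, H⟩ := exists_IH ho h1 h2 ha
    exact ⟨h, c, a, H, h3, h4⟩
  have hC : ∀ c : P, ∃ h m, π.IH h c m := fun c => by
    obtain ⟨h, m, H⟩ := exists_IH_axis (π := π.dual) (fun x y => by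
      obtain ⟨h, h1, h2, ⟨a, ha⟩, h3, h4⟩ := hl x y
      obtain ⟨c, H⟩ := exists_IH (π := π.dual) ho h1 h2 ha
      exact ⟨h, c, a, H, h3, h4⟩) c
    exact ⟨h, m, H.of_dual⟩
  exact ⟨prime_pow_of_IH ho hA hC, exists_elation ho hC⟩

end Pl

end CfsgH1
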