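import Mathlib
import Cfsg.Agent.H1.PlaneHom

/-!
Subplanes fixed by collineation groups, Baer's theorem on involutions.
-/

set_option autoImplicit false

namespace CfsgH1

open MulAction

namespace Pl

universe u

variable {G : Type u} {P L : Type*} [Group G] [MulAction G P] [MulAction G L] {π : Pl G P L}

theorem ncard_eq_of_closed [Finite P] [Finite L] (A : Set P) (B : Set L) {c : P} (hc : c ∈ A)
    (hj : ∀ p ∈ A, p ≠ c → ∀ l, π.I p l → π.I c l → l ∈ B) (e : ℕ)
    (h : ∀ l ∈ B, π.I c l → {p | p ∈ A ∧ π.I p l}.ncard = e + 1) :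
    A.ncard = 1 + {l | l ∈ B ∧ π.I c l}.ncard * e := by
  classical
  have := Fintype.ofFinite P
  have := Fintype.ofFinite L
  have e1 : ((Finset.univ.filter (· ∈ A)).erase c : Finset P) =
      (Finset.univ.filter fun l => l ∈ B ∧ π.I c l).biUnion
      fun l => (Finset.univ.filter fun p => p ∈ A ∧ π.I p l).erase c := by
    ext p
    simp only [Finset.mem_erase, Finset.mem_univ, Finset.mem_biUnion, Finset.mem_filter,
      true_and]
    constructor
    · rintro ⟨h1, h2⟩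
      obtain ⟨l, h3, h4⟩ := π.join p c h1
      exact ⟨l, ⟨hj p h2 h1 l h3 h4, h4⟩, h1, h2, h3⟩
    · rintro ⟨l, -, h1, h2, -⟩
      exact ⟨h1, h2⟩
  have e2 := congrArg Finset.card e1
  have cf : ∀ {α : Type _} [Fintype α] (s : Set α), (Finset.univ.filter (· ∈ s)).card = s.ncard := by
    intro α _ s
    rw [← Set.ncard_coe_finset]; congr 1; ext; simp
  rw [Finset.card_erase_of_mem (by simpa using hc), Finset.card_biUnion,
    Finset.sum_const_nat (m := e), cf] at e2
  · have h1 : 0 < A.ncard := (Set.ncard_pos (Set.toFinite A)).2 ⟨c, hc⟩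
    have h2 : (Finset.univ.filter fun l => l ∈ B ∧ π.I c l).card = {l | l ∈ B ∧ π.I c l}.ncard := by
      rw [← Set.ncard_coe_finset]; congr 1; ext; simp
    rw [← h2]
    omega
  · intro l hl
    rw [Finset.mem_filter] at hl
    have h2 : (Finset.univ.filter fun p => p ∈ A ∧ π.I p l).card = e + 1 := by
      rw [← h l hl.2.1 hl.2.2, ← Set.ncard_coe_finset]; congr 1; ext; simp
    rw [Finset.card_erase_of_mem (by simp [hc, hl.2.2]), h2, Nat.add_sub_cancel]
  · intro l hl m hm hlm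
    rw [Function.onFun, Finset.disjoint_left]
    intro p h1 h2
    simp only [Finset.coe_filter, Finset.mem_univ, true_and, Set.mem_ofPred_eq,
      Finset.mem_filter, Finset.mem_erase] at hl hm h1 h2
    exact h1.1 (pt_eq hlm h1.2.2 h2.2.2 hl.2 hm.2)

theorem baer_affine {g : G} (hg : g * g = 1) (hax : ∀ a, ¬ π.Ax g a) {l : L} (hl : g • l = l) :
    {p | g • p = p ∧ ¬ π.I p l}.ncard = π.n := by
  obtain ⟨x, hx, hgx⟩ : ∃ x, π.I x l ∧ g • x ≠ x := by
    by_contra h
    push Not at h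
    exact hax l h
  refine Eq.trans ?_ (π.dual.ncard_pts_diff (c := l) (l := x) hx)
  choose f hf1 hf2 using fun p => π.join' p x
  refine Set.ncard_congr (fun p _ => f p) ?_ ?_ ?_
  · intro p hp
    exact ⟨hf2 p, fun e => hp.2 (e ▸ hf1 p)⟩
  · intro p q hp hq e
    by_contra hpq
    have h1 := fix_line hpq (hf1 p) (e ▸ hf1 q) hp.1 hq.1
    exact hgx (fix_pt (l := f p) (m := l) (fun e => hp.2 (e ▸ hf1 p)) (hf2 p) hx h1 hl)
  · rintro m ⟨hm, hml⟩
    have h1 : g • m ≠ m := fun e => hgx (fix_pt hml hm hx e hl)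
    obtain ⟨u, hu1, hu2⟩ := π.meet' m (g • m)
    have hu : g • u = u := by
      refine pt_eq h1 (smul_I _ hu1) ?_ hu2 hu1
      simpa [← mul_smul, hg] using smul_I g hu2
    have hux : u ≠ x := by rintro rfl; exact hgx hu
    exact ⟨u, ⟨hu, fun h => hux (pt_eq hml hu1 h hm hx)⟩, line_eq hux (hf1 u) (hf2 u) hu1 hm⟩

theorem baer_split [Finite P] {g : G} (hg : g * g = 1) (hax : ∀ a, ¬ π.Ax g a) {l : L}
    (hl : g • l = l) : {p | g • p = p ∧ π.I p l}.ncard + π.n = {p : P | g • p = p}.ncard := by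
  rw [← baer_affine hg hax hl, ← Set.ncard_union_eq]
  · congr 1
    ext p
    simp only [Set.mem_union, Set.mem_ofPred_eq]
    tauto
  · rw [Set.disjoint_left]
    exact fun p h1 h2 => h2.2 h1.2

theorem baer [Finite P] [Finite L] {g : G} (hg : g * g = 1) (hax : ∀ a, ¬ π.Ax g a) :
    ∃ m, m ^ 2 = π.n ∧ (∀ l, g • l = l → {p | g • p = p ∧ π.I p l}.ncard = m + 1) ∧
      (∀ p, g • p = p → {l | g • l = l ∧ π.I p l}.ncard = m + 1) ∧
      (∃ p : P, g • p = p) ∧ ∃ l : L, g • l = l := by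
  have hce : ∀ c, ¬ π.dual.Ax g c := fun c hc => by
    obtain ⟨a, ha⟩ := Ce.exists_ax (π := π) hc
    exact hax a ha
  have h1 := fun l => baer_split hg hax (l := l)
  have h2 : ∀ p, g • p = p → {l | g • l = l ∧ π.I p l}.ncard + π.n = {p : P | g • p = p}.ncard :=
    fun p hp => (baer_split hg hce hp).trans (π.ncard_fix_eq g).symm
  obtain ⟨l₀⟩ := π.neL
  obtain ⟨x, -, hx⟩ : ∃ x, π.I x l₀ ∧ g • x ≠ x := by
    by_contra h
    push Not at h
    exact hax l₀ h
  obtain ⟨l, hl1, hl2⟩ := π.join' x (g • x)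
  have hl : g • l = l :=
    line_eq hx (smul_I g hl1) (by simpa [← mul_smul, hg] using smul_I g hl2) hl2 hl1
  have hn := π.two_le
  obtain ⟨c, c', hc, hc', hcc⟩ :=
    (Set.one_lt_ncard_iff (s := {p : P | g • p = p})).1 (by have := h1 l hl; omega)
  obtain ⟨r, hr1, hr2⟩ := π.join' c c'
  have hr := fix_line hcc hr1 hr2 hc hc'
  obtain ⟨m, hm⟩ : ∃ m, {p | g • p = p ∧ π.I p r}.ncard = m + 1 :=
    Nat.exists_eq_succ_of_ne_zero (Set.ncard_ne_zero_of_mem (a := c) ⟨hc, hr1⟩)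
  have h3 : ∀ l, g • l = l → {p | g • p = p ∧ π.I p l}.ncard = m + 1 := fun l hl => by
    have := h1 l hl
    have := h1 r hr
    omega
  have h4 : ∀ p, g • p = p → {l | g • l = l ∧ π.I p l}.ncard = m + 1 := fun p hp => by
    have := h2 p hp
    have := h1 r hr
    omega
  refine ⟨m, ?_, h3, h4, ⟨c, hc⟩, ⟨l, hl⟩⟩
  have h5 := ncard_eq_of_closed (π := π) {p : P | g • p = p} {l : L | g • l = l} hc
    (fun p hp hpc l h h' => fix_line hpc h h' hp hc) m (fun l hl _ => h3 l hl)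
  have h6 := h1 r hr
  change _ = 1 + {l | g • l = l ∧ π.I c l}.ncard * m at h5
  rw [h4 c hc] at h5
  nlinarith

variable (π) in
include π in
theorem exists_two_fixed [Finite P] [Finite L] {g : G} (hg : g * g = 1) :
    ∃ x y : P, x ≠ y ∧ g • x = x ∧ g • y = y := by
  have hn := π.two_le
  by_cases hax : ∃ a, π.Ax g a
  · obtain ⟨a, ha⟩ := hax
    obtain ⟨x, hx, -⟩ := π.meet' a a
    obtain ⟨y, hy, hyx, -⟩ := π.exists_pt_ne a x x
    exact ⟨y, x, hyx, ha y hy, ha x hx⟩
  · push Not at hax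
    obtain ⟨m, -, -, -, -, l, hl⟩ := baer hg hax
    obtain ⟨c, c', hc, hc', hcc⟩ := (Set.one_lt_ncard_iff (s := {p : P | g • p = p})).1
      (by have := baer_split hg hax hl; omega)
    exact ⟨c, c', hcc, hc, hc'⟩

variable (π) in
/-- the fixed structure of `S` is a subplane of order `k` -/
structure Good (S : Subgroup G) (k : ℕ) : Prop where
  pts : ∀ l ∈ fixedPoints S L, {p | p ∈ fixedPoints S P ∧ π.I p l}.ncard = k + 1
  lns : ∀ p ∈ fixedPoints S P, {l | l ∈ fixedPoints S L ∧ π.I p l}.ncard = k + 1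
  two_le : 2 ≤ k
  neP : (fixedPoints S P).Nonempty
  neL : (fixedPoints S L).Nonempty

theorem Good.dual {S : Subgroup G} {k : ℕ} (h : π.Good S k) : π.dual.Good S k :=
  ⟨h.lns, h.pts, h.two_le, h.neL, h.neP⟩

theorem good_bot : π.Good ⊥ π.n := by
  have h1 : fixedPoints (⊥ : Subgroup G) P = Set.univ :=
    Set.eq_univ_of_forall fun x g => by rw [Subsingleton.elim g 1, one_smul]
  have h2 : fixedPoints (⊥ : Subgroup G) L = Set.univ :=
    Set.eq_univ_of_forall fun x g => by rw [Subsingleton.elim g 1, one_smul]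
  have := π.neP
  have := π.neL
  refine ⟨fun l _ => ?_, fun p _ => ?_, π.two_le, by simp [h1], by simp [h2]⟩
  · simpa [h1] using π.card_pts l
  · simpa [h2] using π.card_lns p

theorem line_mem_fixed {S : Subgroup G} {p q : P} {l : L} (h : p ≠ q) (h1 : π.I p l) (h2 : π.I q l)
    (hp : p ∈ fixedPoints S P) (hq : q ∈ fixedPoints S P) : l ∈ fixedPoints S L :=
  fun g => fix_line (g := g.1) h h1 h2 (hp g) (hq g)

theorem pt_mem_fixed {S : Subgroup G} {p : P} {l m : L} (h : l ≠ m) (h1 : π.I p l) (h2 : π.I p m)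
    (hl : l ∈ fixedPoints S L) (hm : m ∈ fixedPoints S L) : p ∈ fixedPoints S P :=
  fun g => fix_pt (g := g.1) h h1 h2 (hl g) (hm g)

theorem good_of_config [Finite P] [Finite L] {S : Subgroup G} {p₁ p₂ p₃ : P} {l₁ l₂ l₃ : L}
    (hp₁ : p₁ ∈ fixedPoints S P) (hp₂ : p₂ ∈ fixedPoints S P) (hp₃ : p₃ ∈ fixedPoints S P)
    (hl₁ : l₁ ∈ fixedPoints S L) (hl₂ : l₂ ∈ fixedPoints S L) (hl₃ : l₃ ∈ fixedPoints S L)
    (h12 : ¬ π.I p₁ l₂) (h13 : ¬ π.I p₁ l₃) (h21 : ¬ π.I p₂ l₁) (h22 : π.I p₂ l₂)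
    (h23 : π.I p₂ l₃) (h31 : ¬ π.I p₃ l₁) (h32 : π.I p₃ l₂) (h33 : ¬ π.I p₃ l₃) :
    ∃ k, π.Good S k := by
  let _ : Membership (fixedPoints S P) (fixedPoints S L) := ⟨fun l p => π.I p l⟩
  have hp23 : p₂ ≠ p₃ := by rintro rfl; exact h33 h23
  have hl23 : l₂ ≠ l₃ := by rintro rfl; exact h33 h32
  let _ : Configuration.ProjectivePlane (fixedPoints S P) (fixedPoints S L) :=
    { exists_point := fun l => by
        by_contra h
        push Not at h
        exact h12 (line_eq hp23 (h ⟨p₂, hp₂⟩) (h ⟨p₃, hp₃⟩) h22 h32 ▸ h ⟨p₁, hp₁⟩)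
      exists_line := fun p => by
        by_contra h
        push Not at h
        exact h21 (pt_eq hl23 (h ⟨l₂, hl₂⟩) (h ⟨l₃, hl₃⟩) h22 h23 ▸ h ⟨l₁, hl₁⟩)
      eq_or_eq := fun h1 h2 h3 h4 => (π.uniq h1 h2 h3 h4).imp Subtype.ext Subtype.ext
      mkPoint := fun {l m} h => ⟨(π.meet' l m).choose, pt_mem_fixed (fun e => h (Subtype.ext e))
        (π.meet' l m).choose_spec.1 (π.meet' l m).choose_spec.2 l.2 m.2⟩
      mkPoint_ax := fun {l m} _ => (π.meet' l m).choose_spec
      mkLine := fun {p q} h => ⟨(π.join' p q).choose, line_mem_fixed (fun e => h (Subtype.ext e))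
        (π.join' p q).choose_spec.1 (π.join' p q).choose_spec.2 p.2 q.2⟩
      mkLine_ax := fun {p q} _ => (π.join' p q).choose_spec
      exists_config := ⟨⟨p₁, hp₁⟩, ⟨p₂, hp₂⟩, ⟨p₃, hp₃⟩, ⟨l₁, hl₁⟩, ⟨l₂, hl₂⟩, ⟨l₃, hl₃⟩,
        h12, h13, h21, h22, h23, h31, h32, h33⟩ }
  refine ⟨Configuration.ProjectivePlane.order (fixedPoints S P) (fixedPoints S L),
    fun l hl => ?_, fun p hp => ?_, Configuration.ProjectivePlane.one_lt_order _ _,
    ⟨p₁, hp₁⟩, ⟨l₁, hl₁⟩⟩
  · rw [← Configuration.ProjectivePlane.pointCount_eq (fixedPoints S P) (⟨l, hl⟩ : fixedPoints S L),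
      ← Nat.card_coe_set_eq]
    exact (Nat.card_congr (Equiv.subtypeSubtypeEquivSubtypeInter _ (π.I · l))).symm
  · rw [← Configuration.ProjectivePlane.lineCount_eq (fixedPoints S L) (⟨p, hp⟩ : fixedPoints S P),
      ← Nat.card_coe_set_eq]
    exact (Nat.card_congr (Equiv.subtypeSubtypeEquivSubtypeInter _ (π.I p ·))).symm

theorem smul_mem_fixed {Ω : Type*} [MulAction G Ω] {S : Subgroup G} {g : G}
    (hg : g ∈ Subgroup.normalizer (S : Set G)) {x : Ω} (hx : x ∈ fixedPoints S Ω) :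
    g • x ∈ fixedPoints S Ω := by
  intro s
  have := hx ⟨_, (Subgroup.mem_normalizer_iff''.1 hg s).1 s.2⟩
  change (g⁻¹ * s * g) • x = x at this
  rwa [mul_smul, mul_smul, inv_smul_eq_iff] at this

/-- the action of the normaliser on the fixed points -/
@[reducible] def normAct (Ω : Type*) [MulAction G Ω] (S : Subgroup G) :
    MulAction (Subgroup.normalizer (S : Set G)) (fixedPoints S Ω) where
  smul g x := ⟨g.1 • x.1, smul_mem_fixed g.2 x.2⟩
  one_smul x := Subtype.ext (one_smul G x.1)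
  mul_smul g h x := Subtype.ext (mul_smul g.1 h.1 x.1)

theorem ncard_subtype {α : Type*} (A : Set α) (q : α → Prop) :
    {x : A | q x}.ncard = {x | x ∈ A ∧ q x}.ncard := by
  rw [← Nat.card_coe_set_eq, ← Nat.card_coe_set_eq]
  exact Nat.card_congr (Equiv.subtypeSubtypeEquivSubtypeInter _ q)

theorem Good.exists_sub [Finite G] {S : Subgroup G} {k : ℕ} (h : π.Good S k) :
    ∃ (Δ : Type u) (_ : Group Δ) (_ : Finite Δ) (_ : MulAction Δ (fixedPoints S P))
      (_ : MulAction Δ (fixedPoints S L)) (π' : Pl Δ (fixedPoints S P) (fixedPoints S L))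
      (φ : Subgroup.normalizer (S : Set G) →* Δ), Function.Surjective φ ∧ π'.n = k ∧
      (∀ p l, π'.I p l ↔ π.I p l) ∧ (∀ g (p : fixedPoints S P), (φ g • p).1 = g.1 • p.1) ∧
      ∀ g (l : fixedPoints S L), (φ g • l).1 = g.1 • l.1 := by
  let _ := normAct P S
  let _ := normAct L S
  let N := Subgroup.normalizer (S : Set G)
  let K : Subgroup N := (toPermHom N (fixedPoints S P)).ker ⊓ (toPermHom N (fixedPoints S L)).ker
  let _ : MulAction (N ⧸ K) (fixedPoints S P) :=
    MulAction.compHom _ (QuotientGroup.lift K (toPermHom N (fixedPoints S P)) fun _ h => h.1)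
  let _ : MulAction (N ⧸ K) (fixedPoints S L) :=
    MulAction.compHom _ (QuotientGroup.lift K (toPermHom N (fixedPoints S L)) fun _ h => h.2)
  have hk := h.two_le
  have fl : ∀ g : N, (∀ p : fixedPoints S P, g • p = p) → ∀ l : fixedPoints S L, g • l = l := by
    intro g hg l
    obtain ⟨c, c', hc, hc', hcc⟩ := (Set.one_lt_ncard_iff
      (s := {p | p ∈ fixedPoints S P ∧ π.I p l}) (Set.finite_of_ncard_ne_zero (by
        rw [h.pts l l.2]; omega))).1 (by rw [h.pts l l.2]; omega)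
    exact Subtype.ext (fix_line hcc hc.2 hc'.2 (congrArg Subtype.val (hg ⟨c, hc.1⟩))
      (congrArg Subtype.val (hg ⟨c', hc'.1⟩)))
  have fp : ∀ g : N, (∀ l : fixedPoints S L, g • l = l) → ∀ p : fixedPoints S P, g • p = p := by
    intro g hg p
    obtain ⟨c, c', hc, hc', hcc⟩ := (Set.one_lt_ncard_iff
      (s := {l | l ∈ fixedPoints S L ∧ π.I p l}) (Set.finite_of_ncard_ne_zero (by
        rw [h.lns p p.2]; omega))).1 (by rw [h.lns p p.2]; omega)
    exact Subtype.ext (fix_pt hcc hc.2 hc'.2 (congrArg Subtype.val (hg ⟨c, hc.1⟩))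
      (congrArg Subtype.val (hg ⟨c', hc'.1⟩)))
  let π' : Pl (N ⧸ K) (fixedPoints S P) (fixedPoints S L) :=
    { I := fun p l => π.I p l
      n := k
      join := fun p q hpq => by
        obtain ⟨l, h1, h2⟩ := π.join' p q
        exact ⟨⟨l, line_mem_fixed (fun e => hpq (Subtype.ext e)) h1 h2 p.2 q.2⟩, h1, h2⟩
      meet := fun p q hpq => by
        obtain ⟨l, h1, h2⟩ := π.meet' p q
        exact ⟨⟨l, pt_mem_fixed (fun e => hpq (Subtype.ext e)) h1 h2 p.2 q.2⟩, h1, h2⟩
      uniq := fun h1 h2 h3 h4 => (π.uniq h1 h2 h3 h4).imp Subtype.ext Subtype.ext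
      card_pts := fun l => (ncard_subtype _ (π.I · l)).trans (h.pts l l.2)
      card_lns := fun p => (ncard_subtype _ (π.I p ·)).trans (h.lns p p.2)
      two_le := hk
      neP := h.neP.to_subtype
      neL := h.neL.to_subtype
      act := fun g p l => by
        obtain ⟨g, rfl⟩ := QuotientGroup.mk_surjective g
        exact π.act g.1 p l
      faithP := fun g hg => by
        obtain ⟨g, rfl⟩ := QuotientGroup.mk_surjective g
        exact (QuotientGroup.eq_one_iff g).2 ⟨Equiv.ext hg, Equiv.ext (fl g hg)⟩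
      faithL := fun g hg => by
        obtain ⟨g, rfl⟩ := QuotientGroup.mk_surjective g
        exact (QuotientGroup.eq_one_iff g).2 ⟨Equiv.ext (fp g hg), Equiv.ext hg⟩ }
  exact ⟨N ⧸ K, inferInstance, inferInstance, inferInstance, inferInstance, π',
    QuotientGroup.mk' K, QuotientGroup.mk'_surjective K, rfl, fun _ _ => Iff.rfl,
    fun _ _ => rfl, fun _ _ => rfl⟩

/-- two-transitivity -/
def TwoTr (G Ω : Type*) [Group G] [MulAction G Ω] : Prop :=
  ∀ {a b c d : Ω}, a ≠ b → c ≠ d → ∃ g : G, g • a = c ∧ g • b = d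

variable (π) in
/-- antiflag transitivity -/
def AntiTr : Prop :=
  ∀ p l q m, ¬ π.I p l → ¬ π.I q m → ∃ g : G, g • p = q ∧ g • l = m

theorem AntiTr.dual (h : π.AntiTr) : π.dual.AntiTr := fun l p m q h1 h2 =>
  (h p l q m h1 h2).imp fun _ h => h.symm

variable (π) in
theorem twoTr_dual [Finite G] [Finite P] [Finite L] (h : TwoTr G P) :
    TwoTr G L ∧ π.AntiTr := by
  have hfix : ∀ g : G, Nat.card (fixedBy P g) = Nat.card (fixedBy L g) := fun g =>
    π.ncard_fix_eq g
  have h0 := card_orbits_prod_le_two (is_two_pretransitive_iff.2 h)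
  have hXL : Nat.card (orbitRel.Quotient G (P × L)) ≤ 2 := by
    rwa [← card_orbits_eq_of_card_fixedBy (Y := P × P) (fun g => by
      rw [card_fixedBy_prod, card_fixedBy_prod, hfix])]
  have hLL : Nat.card (orbitRel.Quotient G (L × L)) ≤ 2 := by
    rwa [← card_orbits_eq_of_card_fixedBy (Y := P × P) (fun g => by
      rw [card_fixedBy_prod, card_fixedBy_prod, hfix])]
  constructor
  · intro a b c d h1 h2
    obtain ⟨g, hg⟩ := same_orbit_of_card_le_two hLL (fun y => y.1 = y.2) (fun g y => by simp)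
      (y := (a, b)) (y' := (c, d)) (z := (a, a)) (by simp [h1, h2]) (by simp [h1])
    exact ⟨g, congrArg Prod.fst hg, congrArg Prod.snd hg⟩
  · intro p l q m h1 h2
    obtain ⟨z, hz, -⟩ := π.meet' l l
    obtain ⟨g, hg⟩ := same_orbit_of_card_le_two hXL (fun y => π.I y.1 y.2)
      (fun g y => π.act g y.1 y.2) (y := (p, l)) (y' := (q, m)) (z := (z, l)) (by simp [h1, h2])
      (by simp [h1, hz])
    exact ⟨g, congrArg Prod.fst hg, congrArg Prod.snd hg⟩

end Pl

end CfsgH1
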