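import Mathlib
import Cfsg.Agent.H1.PlaneSub

/-!
Two-transitive collineation groups of planes of odd order: the order is a prime power.
-/

set_option autoImplicit false

namespace CfsgH1

open MulAction

theorem card_stabilizer_smul {G Ω : Type*} [Group G] [MulAction G Ω] (g : G) (x : Ω) :
    Nat.card (stabilizer G (g • x)) = Nat.card (stabilizer G x) := by
  rw [stabilizer_smul_eq_stabilizer_map_conj]
  exact Subgroup.card_map_of_injective (MulAut.conj g).injective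

theorem exists_index_two {G : Type*} [Group G] [Finite G] {S H : Subgroup G} (hS : IsPGroup 2 S)
    (hle : S ≤ H) (hd : 2 * Nat.card S ∣ Nat.card H) :
    ∃ K : Subgroup G, IsPGroup 2 K ∧ Nat.card K = 2 * Nat.card S ∧ S ≤ K ∧
      ∃ τ ∈ H, τ ∈ K ∧ τ ∈ Subgroup.normalizer (S : Set G) ∧ τ * τ ∈ S ∧
        ∀ b ∈ K, b * τ ∈ S ∨ b ∈ S := by
  have : Fact (Nat.Prime 2) := Nat.fact_prime_two
  obtain ⟨j, hj⟩ := IsPGroup.iff_card.1 hS
  obtain ⟨K, hK, hSK⟩ := Sylow.exists_subgroup_card_pow_succ (G := H) (p := 2) (n := j)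
    (by rwa [pow_succ', ← hj]) (H := S.subgroupOf H)
    (by rw [Nat.card_congr (Subgroup.subgroupOfEquivOfLe hle).toEquiv, hj])
  have h1 : Nat.card (K.map H.subtype) = 2 ^ (j + 1) :=
    (Subgroup.card_map_of_injective H.subtype_injective).trans hK
  have h2 : S ≤ K.map H.subtype := fun s hs => ⟨⟨s, hle hs⟩, hSK hs, rfl⟩
  have h3 : S.relIndex (K.map H.subtype) = 2 := by
    have := (S.subgroupOf (K.map H.subtype)).index_mul_card
    rw [Nat.card_congr (Subgroup.subgroupOfEquivOfLe h2).toEquiv, hj, h1, pow_succ'] at this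
    exact Nat.eq_of_mul_eq_mul_right (by positivity) this
  obtain ⟨τ, hτ, -, h4⟩ := Subgroup.relIndex_eq_two_iff_exists_notMem_and.1 h3
  refine ⟨_, IsPGroup.of_card h1, by rw [h1, hj, pow_succ'], h2, τ,
    Subgroup.map_subtype_le K hτ, hτ, ?_, Subgroup.mul_self_mem_of_index_two h3 ⟨τ, hτ⟩, h4⟩
  exact (Subgroup.normal_subgroupOf_iff_le_normalizer h2).1 (Subgroup.normal_of_index_eq_two h3) hτ

theorem mem_fixedPoints_ext {G Ω : Type*} [Group G] [MulAction G Ω] {S K : Subgroup G} {τ : G}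
    (hle : S ≤ K) (hτ : τ ∈ K) (h : ∀ b ∈ K, b * τ ∈ S ∨ b ∈ S) (x : Ω) :
    x ∈ fixedPoints K Ω ↔ x ∈ fixedPoints S Ω ∧ τ • x = x := by
  refine ⟨fun hx => ⟨fun s => hx ⟨s, hle s.2⟩, hx ⟨τ, hτ⟩⟩, fun hx b => ?_⟩
  rcases h b b.2 with h1 | h1
  · have := hx.1 ⟨_, h1⟩
    change ((b : G) * τ) • x = x at this
    rwa [mul_smul, hx.2] at this
  · exact hx.1 ⟨_, h1⟩

namespace Pl

universe u

variable {G : Type u} {P L : Type*} [Group G] [MulAction G P] [MulAction G L] {π : Pl G P L}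

variable (π) in
/-- a maximal planar `2`-subgroup -/
structure MaxGood (S : Subgroup G) (k : ℕ) : Prop where
  pg : IsPGroup 2 S
  good : π.Good S k
  pow : ∃ e, π.n = k ^ 2 ^ e
  max : ∀ (K : Subgroup G) m, IsPGroup 2 K → π.Good K m → (∃ e, π.n = m ^ 2 ^ e) →
    Nat.card K ≤ Nat.card S

theorem MaxGood.dual {S : Subgroup G} {k : ℕ} (h : π.MaxGood S k) : π.dual.MaxGood S k :=
  ⟨h.pg, h.good.dual, h.pow, fun K m h1 h2 h3 => h.max K m h1 h2.dual h3⟩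

variable (π) in
theorem exists_maxGood [Finite G] : ∃ S k, π.MaxGood S k := by
  obtain ⟨S, ⟨h1, k, h2, h3⟩, h4⟩ := Set.exists_max_image
    {S : Subgroup G | IsPGroup 2 S ∧ ∃ k, π.Good S k ∧ ∃ e, π.n = k ^ 2 ^ e} (fun S => Nat.card S)
    (Set.toFinite _) ⟨⊥, IsPGroup.of_bot, π.n, good_bot, 0, by simp⟩
  exact ⟨S, k, h1, h2, h3, fun K m a b c => h4 K ⟨a, m, b, c⟩⟩

variable [Finite G] [Finite P] [Finite L]

theorem MaxGood.exists_invol {S H : Subgroup G} {k : ℕ} (M : π.MaxGood S k) (hle : S ≤ H)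
    (hd : 2 * Nat.card S ∣ Nat.card H) :
    ∃ τ ∈ H, τ ∈ Subgroup.normalizer (S : Set G) ∧ τ * τ ∈ S ∧
      (∃ p ∈ fixedPoints S P, τ • p ≠ p) ∧
      (∃ a ∈ fixedPoints S L, ∀ p ∈ fixedPoints S P, π.I p a → τ • p = p) ∧
      ∃ x ∈ fixedPoints S P, ∃ y ∈ fixedPoints S P, x ≠ y ∧
        2 * Nat.card S ∣ Nat.card (stabilizer G (x, y)) := by
  obtain ⟨K, hK, hcard, hSK, τ, hτH, hτK, hτN, hττ, hb⟩ := exists_index_two M.pg hle hd
  obtain ⟨Δ, _, _, _, _, π', φ, -, hn, hI, hP, hL⟩ := M.good.exists_sub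
  have fP := mem_fixedPoints_ext (Ω := P) hSK hτK hb
  have fL := mem_fixedPoints_ext (Ω := L) hSK hτK hb
  let δ := φ ⟨τ, hτN⟩
  have δP : ∀ p : fixedPoints S P, δ • p = p ↔ τ • p.1 = p.1 := fun p => by
    rw [Subtype.ext_iff, hP]
  have δL : ∀ p : fixedPoints S L, δ • p = p ↔ τ • p.1 = p.1 := fun p => by
    rw [Subtype.ext_iff, hL]
  have hδ : δ * δ = 1 := by
    rw [← map_mul]
    exact π'.faithP _ fun p => Subtype.ext ((hP _ p).trans (p.2 ⟨_, hττ⟩))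
  have hlt : ∀ m, π.Good K m → ¬ ∃ e, π.n = m ^ 2 ^ e := by
    intro m h1 h2
    have := M.max K m hK h1 h2
    have : 0 < Nat.card S := Nat.card_pos
    omega
  have hax : ∃ a, π'.Ax δ a := by
    by_contra hax
    push Not at hax
    obtain ⟨m, hm, h1, h2, ⟨c, hc⟩, ⟨l, hl⟩⟩ := baer hδ hax
    obtain ⟨e, he⟩ := M.pow
    refine hlt m ⟨fun l hl => ?_, fun p hp => ?_, ?_, ⟨c, (fP _).2 ⟨c.2, (δP c).1 hc⟩⟩,
      ⟨l, (fL _).2 ⟨l.2, (δL l).1 hl⟩⟩⟩ ⟨e + 1, by rw [he, ← hn, ← hm, ← pow_mul, pow_succ']⟩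
    · rw [fL] at hl
      rw [← h1 ⟨l, hl.1⟩ ((δL _).2 hl.2)]
      simp only [δP, hI, fP, and_assoc]
      exact (ncard_subtype _ fun p => τ • p = p ∧ π.I p l).symm
    · rw [fP] at hp
      rw [← h2 ⟨p, hp.1⟩ ((δP _).2 hp.2)]
      simp only [δL, hI, fL, and_assoc]
      exact (ncard_subtype _ fun l => τ • l = l ∧ π.I p l).symm
    · have := π'.two_le
      by_contra h
      have : m ≤ 1 := by omega
      nlinarith
  refine ⟨τ, hτH, hτN, hττ, ?_, ?_, ?_⟩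
  · by_contra h
    push Not at h
    have h1 : δ = 1 := π'.faithP _ fun p => (δP p).2 (h p p.2)
    have e1 : fixedPoints K P = fixedPoints S P := by
      ext p
      exact (fP p).trans (and_iff_left_of_imp (h p))
    have e2 : fixedPoints K L = fixedPoints S L := by
      ext l
      exact (fL l).trans (and_iff_left_of_imp fun hl => (δL ⟨l, hl⟩).1 (by rw [h1, one_smul]))
    refine hlt k ?_ M.pow
    obtain ⟨a, b, c, d, e⟩ := M.good
    rw [← e1, ← e2] at a b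
    rw [← e1] at d
    rw [← e2] at e
    exact ⟨a, b, c, d, e⟩
  · obtain ⟨a, ha⟩ := hax
    exact ⟨a, a.2, fun p hp h => (δP ⟨p, hp⟩).1 (ha _ ((hI _ _).2 h))⟩
  · obtain ⟨x, y, hxy, hx, hy⟩ := π'.exists_two_fixed hδ
    refine ⟨x, x.2, y, y.2, fun e => hxy (Subtype.ext e), ?_⟩
    rw [← hcard]
    refine Subgroup.card_dvd_of_le fun g hg => Prod.ext ?_ ?_
    · exact (fP x).2 ⟨x.2, (δP x).1 hx⟩ ⟨g, hg⟩
    · exact (fP y).2 ⟨y.2, (δP y).1 hy⟩ ⟨g, hg⟩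

theorem MaxGood.pairs {S : Subgroup G} {k : ℕ} (M : π.MaxGood S k) (h2 : TwoTr G P) {x y : P}
    (hx : x ∈ fixedPoints S P) (hy : y ∈ fixedPoints S P) :
    ∃ τ ∈ Subgroup.normalizer (S : Set G), τ * τ ∈ S ∧ (∃ p ∈ fixedPoints S P, τ • p ≠ p) ∧
      (∃ a ∈ fixedPoints S L, ∀ p ∈ fixedPoints S P, π.I p a → τ • p = p) ∧
      τ • x = x ∧ τ • y = y := by
  wlog hxy : x ≠ y generalizing y
  · obtain ⟨l, hl⟩ := M.good.neL
    have hk := M.good.two_le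
    obtain ⟨z, hz, hzx, -⟩ := exists_ne_ne_of_three_le (s := {p | p ∈ fixedPoints S P ∧ π.I p l})
      (by rw [M.good.pts l hl]; omega) x x
    obtain ⟨τ, h1, h3, h4, h5, h6, -⟩ := this hz.1 hzx.symm
    exact ⟨τ, h1, h3, h4, h5, h6, not_not.1 hxy ▸ h6⟩
  have hle : S ≤ stabilizer G (x, y) := fun s hs => Prod.ext (hx ⟨s, hs⟩) (hy ⟨s, hs⟩)
  have hidx : 2 ∣ (stabilizer G (x, y)).index := by
    have : orbit G (x, y) = (Set.univ : Set P).offDiag := by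
      ext ⟨a, b⟩
      simp only [Set.mem_offDiag, Set.mem_univ, true_and]
      constructor
      · rintro ⟨g, hg⟩ rfl
        simp only [Prod.smul_mk, Prod.mk.injEq] at hg
        exact hxy (MulAction.injective g (hg.1.trans hg.2.symm))
      · intro h
        obtain ⟨g, rfl, rfl⟩ := h2 hxy h
        exact ⟨g, rfl⟩
    classical
    have := Fintype.ofFinite P
    rw [index_stabilizer, ‹orbit G (x, y) = _›, ← Finset.coe_univ, ← Finset.coe_offDiag,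
      Set.ncard_coe_finset, Finset.offDiag_card, ← Nat.mul_sub_one]
    exact (Nat.even_mul_pred_self _).two_dvd
  obtain ⟨-, -, -, -, -, -, x', -, y', -, hxy', hd⟩ := M.exists_invol (H := ⊤) le_top (by
    rw [Subgroup.card_top, ← (stabilizer G (x, y)).index_mul_card]
    exact mul_dvd_mul hidx (Subgroup.card_dvd_of_le hle))
  obtain ⟨g, rfl, rfl⟩ := h2 hxy hxy'
  rw [← Prod.smul_mk, card_stabilizer_smul] at hd
  obtain ⟨τ, h1, h3, h4, h5, h6, -⟩ := M.exists_invol hle hd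
  exact ⟨τ, h3, h4, h5, h6, congrArg Prod.fst h1, congrArg Prod.snd h1⟩

omit [Finite G] in
theorem exists_antiflag_of_elation {p s : ℕ} (hp : p.Prime) (hn : π.n = p ^ s) {a : L} {g : G}
    (hg : g ∈ π.T a) (h1 : g ≠ 1) :
    ∃ δ : G, orderOf δ = p ∧ ∃ x m, ¬ π.I x m ∧ δ • x = x ∧ δ • m = m := by
  have h2 : orderOf g ∣ p ^ (s * 2) := by
    rw [pow_mul, ← hn]
    exact (Subgroup.orderOf_dvd_natCard _ hg).trans (card_T_dvd a)
  obtain ⟨j, -, hj⟩ := (Nat.dvd_prime_pow hp).1 h2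
  obtain ⟨j, rfl⟩ := Nat.exists_eq_succ_of_ne_zero (n := j) (by
    rintro rfl
    exact h1 (by simpa using hj))
  refine ⟨g ^ p ^ j, ?_, ?_⟩
  · rw [orderOf_pow' _ (pow_ne_zero _ hp.ne_zero), hj, Nat.gcd_eq_right (pow_dvd_pow _ j.le_succ),
      pow_succ', Nat.mul_div_cancel _ (pow_pos hp.pos _)]
  · obtain ⟨c, hc, h3⟩ := pow_mem hg (p ^ j)
    obtain ⟨x, hx, hxc, -⟩ := π.exists_pt_ne a c c
    obtain ⟨m, hm, hma, -⟩ := π.exists_ln_ne c a a
    exact ⟨x, m, fun h => hxc (pt_eq hma h hx hm hc), h3.2 x hx, h3.1 m hm⟩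

omit [Finite P] [Finite L] in
theorem lift_dvd {S : Subgroup G} {Δ : Type*} [Group Δ] [MulAction Δ (fixedPoints S P)]
    [MulAction Δ (fixedPoints S L)] (π' : Pl Δ (fixedPoints S P) (fixedPoints S L))
    (φ : Subgroup.normalizer (S : Set G) →* Δ) (hφ : Function.Surjective φ)
    (hP : ∀ g (p : fixedPoints S P), (φ g • p).1 = g.1 • p.1)
    (hL : ∀ g (l : fixedPoints S L), (φ g • l).1 = g.1 • l.1) {δ : Δ} {x : fixedPoints S P}
    {m : fixedPoints S L} (hx : δ • x = x) (hm : δ • m = m) :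
    orderOf δ * Nat.card S ∣ Nat.card (stabilizer G (x.1, m.1)) := by
  let H := (stabilizer G (x.1, m.1)).subgroupOf (Subgroup.normalizer (S : Set G))
  let ψ := φ.comp H.subtype
  refine Dvd.dvd.trans ?_ (Subgroup.card_comap_dvd_of_injective _ _ (Subgroup.subtype_injective _) :
    Nat.card H ∣ _)
  change _ ∣ Nat.card H
  rw [← ψ.ker.index_mul_card, Subgroup.index_ker]
  refine mul_dvd_mul (Subgroup.orderOf_dvd_natCard _ ?_) ?_
  · obtain ⟨g, rfl⟩ := hφ δ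
    exact ⟨⟨g, Prod.ext ((hP g x).symm.trans (congrArg Subtype.val hx))
      ((hL g m).symm.trans (congrArg Subtype.val hm))⟩, rfl⟩
  · let f : S →* ψ.ker :=
      { toFun := fun s => ⟨⟨⟨s, Subgroup.le_normalizer s.2⟩, Prod.ext (x.2 s) (m.2 s)⟩,
          π'.faithP _ fun p => Subtype.ext ((hP _ p).trans (p.2 s))⟩
        map_one' := rfl
        map_mul' := fun _ _ => rfl }
    exact Subgroup.card_dvd_of_injective f fun a b e =>
      Subtype.ext (congrArg (fun z : ψ.ker => z.1.1.1) e)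

theorem prime_pow_of_odd (h2 : TwoTr G P) (ho : Odd π.n) :
    ∃ p s : ℕ, p.Prime ∧ π.n = p ^ s ∧
      ∃ x m, ¬ π.I x m ∧ p ∣ Nat.card (stabilizer G (x, m)) := by
  obtain ⟨S, k, M⟩ := π.exists_maxGood
  obtain ⟨Δ, _, _, _, _, π', φ, hφ, hn, hI, hP, hL⟩ := M.good.exists_sub
  obtain ⟨e, he⟩ := M.pow
  have ho' : Odd π'.n := by
    rw [hn]
    exact ho.of_dvd_nat (he ▸ dvd_pow_self k (by positivity))
  obtain ⟨⟨p, a, hp, hk⟩, b, g, hg, hg1⟩ := prime_pow_of_pairs (π := π') ho' (fun x y => by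
    obtain ⟨τ, h1, h3, ⟨z, hz, h4⟩, ⟨a, ha, h5⟩, h6, h7⟩ := M.pairs h2 x.2 y.2
    refine ⟨φ ⟨τ, h1⟩, ?_, fun h => h4 ?_, ⟨⟨a, ha⟩, fun p hp => Subtype.ext ?_⟩,
      Subtype.ext ((hP _ _).trans h6), Subtype.ext ((hP _ _).trans h7)⟩
    · rw [← map_mul]
      exact π'.faithP _ fun p => Subtype.ext ((hP _ p).trans (p.2 ⟨_, h3⟩))
    · exact (hP ⟨τ, h1⟩ ⟨z, hz⟩).symm.trans (by rw [h, one_smul])
    · exact (hP _ _).trans (h5 p p.2 ((hI _ _).1 hp))) (fun x y => by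
    obtain ⟨τ, h1, h3, ⟨z, hz, h4⟩, ⟨a, ha, h5⟩, h6, h7⟩ := M.dual.pairs (π.twoTr_dual h2).1 x.2 y.2
    refine ⟨φ ⟨τ, h1⟩, ?_, fun h => h4 ?_, ⟨⟨a, ha⟩, fun p hp => Subtype.ext ?_⟩,
      Subtype.ext ((hL _ _).trans h6), Subtype.ext ((hL _ _).trans h7)⟩
    · rw [← map_mul]
      exact π'.faithP _ fun p => Subtype.ext ((hP _ p).trans (p.2 ⟨_, h3⟩))
    · exact (hL ⟨τ, h1⟩ ⟨z, hz⟩).symm.trans (by rw [h, one_smul])
    · exact (hL _ _).trans (h5 p p.2 ((hI _ _).1 hp)))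
  obtain ⟨δ, hδ, x, m, h3, h4, h5⟩ := exists_antiflag_of_elation hp hk hg hg1
  refine ⟨p, a * 2 ^ e, hp, by rw [he, ← hn, hk, pow_mul], x, m, fun h => h3 ((hI _ _).2 h), ?_⟩
  exact (Dvd.intro _ (by rw [hδ])).trans (lift_dvd π' φ hφ hP hL h4 h5)

end Pl

end CfsgH1
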