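import Mathlib
import Cfsg.Agent.H1.PlaneTwo
import Cfsg.Agent.H1.DesignPSL
import Cfsg.Agent.H6.PGroupAct

/-!
The Ostrom–Wagner theorem.
-/

set_option autoImplicit false

namespace CfsgH1

open MulAction
open scoped Pointwise

theorem pow_dvd_relIndex_sylow {G : Type*} [Group G] [Finite G] {p : ℕ} [hp : Fact p.Prime]
    (S : Sylow p G) {H K : Subgroup G} (hle : (S : Subgroup G) ≤ H) {j : ℕ}
    (h : p ^ j ∣ K.relIndex H) : p ^ j ∣ K.relIndex S := by
  have h1 := Subgroup.relIndex_mul_relIndex (K ⊓ S) S H inf_le_right hle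
  have h2 := h.trans (Subgroup.relIndex_dvd_of_le_left H (inf_le_left : K ⊓ S ≤ K))
  rw [← h1, Subgroup.inf_relIndex_right] at h2
  refine Nat.Coprime.dvd_of_dvd_mul_right (Nat.Coprime.pow_left _ ?_) h2
  rw [hp.out.coprime_iff_not_dvd]
  exact fun h => S.not_dvd_index (h.trans (Subgroup.relIndex_dvd_index_of_le hle))

theorem relIndex_stabilizer {G Ω : Type*} [Group G] [MulAction G Ω] (H : Subgroup G) (x : Ω) :
    (stabilizer G x).relIndex H = {y | ∃ g ∈ H, g • x = y}.ncard := by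
  have : (stabilizer G x).relIndex H = (stabilizer H x).index := rfl
  rw [this, index_stabilizer]
  congr 1
  ext y
  exact ⟨fun ⟨g, hg⟩ => ⟨g, g.2, hg⟩, fun ⟨g, h1, h2⟩ => ⟨⟨g, h1⟩, h2⟩⟩

namespace Pl

universe u v w

section

variable {G : Type u} {P L : Type*} [Group G] [MulAction G P] [MulAction G L] {π : Pl G P L}
variable [Finite G] [Finite P] [Finite L]

omit [Finite G] in
theorem AntiTr.relIndex (hA : π.AntiTr) {x : P} {l : L} (h : ¬ π.I x l) :
    (stabilizer G x).relIndex (stabilizer G l) = π.n ^ 2 := by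
  rw [relIndex_stabilizer, ← π.ncard_notI l]
  congr 1
  ext y
  constructor
  · rintro ⟨g, h1, rfl⟩ h2
    exact h (I_of_smul_I h2 h1)
  · intro hy
    obtain ⟨g, h1, h2⟩ := hA x l y l h hy
    exact ⟨g, h2, h1⟩

theorem AntiTr.sylow_flag (hA : π.AntiTr) {p : ℕ} [hp : Fact p.Prime] (hn : p ∣ π.n)
    (S : Sylow p G) :
    ∃ c l, π.I c l ∧ (S : Subgroup G) ≤ stabilizer G c ∧ (S : Subgroup G) ≤ stabilizer G l := by
  have h1 : ¬ p ∣ π.n ^ 2 + π.n + 1 := fun h =>
    hp.out.not_dvd_one ((Nat.dvd_add_right (dvd_add (dvd_pow hn two_ne_zero) hn)).1 h)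
  obtain ⟨c, hc⟩ := S.isPGroup'.nonempty_fixed_point_of_prime_not_dvd_card P (by rwa [π.card_P])
  obtain ⟨l, hl⟩ := S.isPGroup'.nonempty_fixed_point_of_prime_not_dvd_card L (by rwa [π.card_L])
  have hc' : (S : Subgroup G) ≤ stabilizer G c := fun s hs => hc ⟨s, hs⟩
  have hl' : (S : Subgroup G) ≤ stabilizer G l := fun s hs => hl ⟨s, hs⟩
  refine ⟨c, l, by_contra fun h => ?_, hc', hl'⟩
  have := pow_dvd_relIndex_sylow S hl' (K := stabilizer G c) (j := 1)
    (by rw [hA.relIndex h, pow_one]; exact dvd_pow hn two_ne_zero)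
  rw [Subgroup.relIndex_eq_one.2 hc', pow_one] at this
  exact hp.out.not_dvd_one this

theorem AntiTr.exists_central (hA : π.AntiTr) {p : ℕ} [hp : Fact p.Prime] (hn : p ∣ π.n)
    (S : Sylow p G) : ∃ α ∈ (S : Subgroup G), orderOf α = p ∧ ∀ s ∈ (S : Subgroup G), Commute s α := by
  obtain ⟨c, l, -, -, hl⟩ := hA.sylow_flag hn S
  obtain ⟨x, hx⟩ := π.exists_notI l
  have h1 := pow_dvd_relIndex_sylow S hl (K := stabilizer G x) (j := 1)
    (by rw [hA.relIndex hx, pow_one]; exact dvd_pow hn two_ne_zero)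
  obtain ⟨w, -, h2, h3⟩ := CfsgH6.exists_central_orderOf_eq_of_normal S.isPGroup' ⊤ (by
    intro h
    have h2 := h1.trans (Subgroup.relIndex_dvd_card _ _)
    rw [← Subgroup.card_top, h, Subgroup.card_bot, pow_one] at h2
    exact hp.out.not_dvd_one h2)
  exact ⟨w, w.2, by rwa [Subgroup.orderOf_coe],
    fun s hs => congrArg Subtype.val (Subgroup.mem_center_iff.1 h3 ⟨s, hs⟩)⟩

theorem AntiTr.exists_ax_of_even (hA : π.AntiTr) (he : 2 ∣ π.n) :
    ∃ g : G, g ≠ 1 ∧ ∃ a, π.Ax g a := by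
  have : Fact (Nat.Prime 2) := Nat.fact_prime_two
  obtain ⟨S⟩ : Nonempty (Sylow 2 G) := inferInstance
  obtain ⟨c, l, -, -, hl⟩ := hA.sylow_flag he S
  obtain ⟨α, hα, ho, hc⟩ := hA.exists_central he S
  refine ⟨α, by rintro rfl; simp at ho, by_contra fun hax => ?_⟩
  push Not at hax
  have hn := π.two_le
  have h1 := baer_affine (by rw [← pow_two, ← ho, pow_orderOf_eq_one]) hax (hl hα)
  have h2 : 2 ^ (2 * π.n.factorization 2) ∣ π.n := by
    conv_rhs => rw [← h1]
    refine CfsgH6.dvd_ncard_of_dvd_index_stabilizer (G := S) _ _ ?_ ?_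
    · rintro ⟨s, hs⟩ x ⟨h3, h4⟩
      refine ⟨?_, fun h => h4 (I_of_smul_I h (hl hs))⟩
      change α • s • x = s • x
      rw [← mul_smul, ← (hc s hs).eq, mul_smul, h3]
    · intro x hx
      refine pow_dvd_relIndex_sylow S hl (K := stabilizer G x) ?_
      rw [hA.relIndex hx.2, pow_mul']
      exact pow_dvd_pow_of_dvd (Nat.ordProj_dvd _ _) 2
  rw [Nat.prime_two.pow_dvd_iff_le_factorization (by omega)] at h2
  have := Nat.prime_two.factorization_pos_of_dvd (by omega) he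
  omega

theorem AntiTr.sylow_trans (hA : π.AntiTr) {p s : ℕ} [hp : Fact p.Prime] (hn : π.n = p ^ s)
    (S : Sylow p G) {l : L} (hl : (S : Subgroup G) ≤ stabilizer G l) {x y : P} (hx : ¬ π.I x l)
    (hy : ¬ π.I y l) : ∃ g ∈ (S : Subgroup G), g • x = y := by
  have h1 := pow_dvd_relIndex_sylow S hl (K := stabilizer G x) (j := s * 2)
    (by rw [hA.relIndex hx, hn, pow_mul])
  rw [relIndex_stabilizer, pow_mul, ← hn, ← π.ncard_notI l] at h1
  have h2 := Set.eq_of_subset_of_ncard_le (s := {y | ∃ g ∈ (S : Subgroup G), g • x = y})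
    (t := {p | ¬ π.I p l}) (by
      rintro _ ⟨g, hg, rfl⟩ h
      exact hx (I_of_smul_I h (hl hg))) (Nat.le_of_dvd (by
        rw [Set.ncard_pos]
        exact ⟨x, 1, one_mem _, one_smul _ _⟩) h1)
  exact (Set.ext_iff.1 h2 y).2 hy

omit [Finite G] [Finite P] [Finite L] in
theorem dvd_of_eq_pow {p s : ℕ} (hn : π.n = p ^ s) : p ∣ π.n := by
  have := π.two_le
  rw [hn] at this ⊢
  exact dvd_pow_self p (by rintro rfl; simp at this)

theorem AntiTr.twoTr (hA : π.AntiTr) {p s : ℕ} (hp : p.Prime) (hn : π.n = p ^ s) : TwoTr G P := by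
  have := Fact.mk hp
  let Fl : P → L → Prop := fun c l => π.I c l ∧
    (∀ x y, ¬ π.I x l → ¬ π.I y l → ∃ g : G, g • c = c ∧ g • x = y) ∧
    ∀ x y, π.I x l → π.I y l → x ≠ c → y ≠ c → ∃ g : G, g • c = c ∧ g • l = l ∧ g • x = y
  have Fl_smul : ∀ (u : G) c l, Fl c l → Fl (u • c) (u • l) := by
    rintro u c l ⟨h1, h2, h3⟩
    refine ⟨smul_I u h1, fun x y hx hy => ?_, fun x y hx hy hxc hyc => ?_⟩
    · obtain ⟨g, h4, h5⟩ := h2 (u⁻¹ • x) (u⁻¹ • y) (by rwa [← π.act u, smul_inv_smul])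
        (by rwa [← π.act u, smul_inv_smul])
      exact ⟨u * g * u⁻¹, by simp [mul_smul, h4], by simp [mul_smul, h5]⟩
    · obtain ⟨g, h4, h5, h6⟩ := h3 (u⁻¹ • x) (u⁻¹ • y) (by rwa [← π.act u, smul_inv_smul])
        (by rwa [← π.act u, smul_inv_smul]) (by rwa [Ne, inv_smul_eq_iff])
        (by rwa [Ne, inv_smul_eq_iff])
      exact ⟨u * g * u⁻¹, by simp [mul_smul, h4], by simp [mul_smul, h5], by simp [mul_smul, h6]⟩
  have trL : ∀ l m : L, ∃ g : G, g • l = m := by
    intro l m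
    obtain ⟨x, hx⟩ := π.exists_notI l
    obtain ⟨y, hy⟩ := π.exists_notI m
    obtain ⟨g, -, h⟩ := hA x l y m hx hy
    exact ⟨g, h⟩
  obtain ⟨c₀, l₀, h₀⟩ : ∃ c l, Fl c l := by
    obtain ⟨S⟩ : Nonempty (Sylow p G) := inferInstance
    obtain ⟨c, l, h1, hc, hl⟩ := hA.sylow_flag (dvd_of_eq_pow hn) S
    refine ⟨c, l, h1, fun x y hx hy => ?_, fun x y hx hy hxc hyc => ?_⟩
    · obtain ⟨g, hg, h⟩ := hA.sylow_trans hn S hl hx hy
      exact ⟨g, hc hg, h⟩
    · obtain ⟨m, hm, hml, -⟩ := π.exists_ln_ne x l l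
      obtain ⟨m', hm', hml', -⟩ := π.exists_ln_ne y l l
      obtain ⟨g, hg, rfl⟩ := hA.dual.sylow_trans hn S hc (x := m) (y := m')
        (fun h => hxc (pt_eq hml hm hx h h1)) (fun h => hyc (pt_eq hml' hm' hy h h1))
      exact ⟨g, hc hg, hl hg, pt_eq hml' (smul_I g hm) (smul_I_of_fix hx (hl hg)) hm' hy⟩
  have exc : ∀ l, ∃ c, Fl c l := fun l => by
    obtain ⟨g, rfl⟩ := trL l₀ l
    exact ⟨_, Fl_smul g _ _ h₀⟩
  obtain ⟨l₁, c₁, c₂, hne, h₁, h₂⟩ : ∃ l c c', c ≠ c' ∧ Fl c l ∧ Fl c' l := by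
    by_contra hno
    push Not at hno
    obtain ⟨m, hm, hml, -⟩ := π.exists_ln_ne c₀ l₀ l₀
    obtain ⟨x, hx⟩ := exc m
    have hxc : x ≠ c₀ := by
      rintro rfl
      choose c hc using exc
      have hu : ∀ l z, Fl z l → c l = z := fun l z h => by_contra fun e => hno l _ _ e (hc l) h
      have hs : Function.Surjective c := by
        intro y
        obtain ⟨r, hr⟩ := π.exists_ln_notI x
        obtain ⟨r', hr'⟩ := π.exists_ln_notI y
        obtain ⟨g, rfl, -⟩ := hA x r y r' hr hr'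
        exact ⟨g • l₀, hu _ _ (Fl_smul g _ _ h₀)⟩
      have hb := hs.bijective_of_nat_card_le (by rw [π.card_P, π.card_L])
      exact hml (hb.1 ((hu _ _ hx).trans (hu _ _ h₀).symm))
    have hxl : ¬ π.I x l₀ := fun h => hml (line_eq hxc hx.1 hm h h₀.1)
    have key : ∀ x', ¬ π.I x' l₀ → ∃ m', π.I c₀ m' ∧ Fl x' m' := by
      intro x' hx'
      obtain ⟨g, h1, rfl⟩ := h₀.2.1 x x' hxl hx'
      exact ⟨g • m, I_smul_of_fix hm h1, Fl_smul g _ _ hx⟩
    have := π.neL
    choose! f hf1 hf2 using key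
    have := Set.ncard_le_ncard_of_injOn (s := {p | ¬ π.I p l₀}) (t := {l | π.I c₀ l}) f hf1
      (fun a ha b hb e => by_contra fun h => hno _ a b h (hf2 a ha) (e ▸ hf2 b hb))
    rw [π.ncard_notI, π.card_lns] at this
    have := π.two_le
    nlinarith
  have all : ∀ l z, π.I z l → Fl z l := by
    intro l z hz
    obtain ⟨g, rfl⟩ := trL l₁ l
    rw [← smul_inv_smul g z] at hz ⊢
    refine Fl_smul g _ _ ?_
    rw [π.act] at hz
    by_cases e : g⁻¹ • z = c₁
    · exact e ▸ h₁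
    obtain ⟨u, -, h3, h4⟩ := h₁.2.2 c₂ _ h₂.1 hz hne.symm e
    exact h3 ▸ h4 ▸ Fl_smul u _ _ h₂
  intro a b c d hab hcd
  obtain ⟨l, ha, hb⟩ := π.join' a b
  obtain ⟨m, hc, hd⟩ := π.join' c d
  obtain ⟨g₁, rfl⟩ := trL l m
  obtain ⟨z, hz, hz1, hz2⟩ := π.exists_pt_ne (g₁ • l) (g₁ • a) c
  obtain ⟨g₂, -, h3, rfl⟩ := (all _ z hz).2.2 _ c (smul_I g₁ ha) hc hz1.symm hz2.symm
  obtain ⟨g₃, h4, -, rfl⟩ := (all _ _ hc).2.2 (g₂ • g₁ • b) d (smul_I_of_fix (smul_I g₁ hb) h3) hd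
    (by simpa using hab.symm) hcd.symm
  exact ⟨g₃ * g₂ * g₁, by simp [mul_smul, h4], by simp [mul_smul]⟩

open scoped Classical in
/-- the points of a line, as a finite set -/
noncomputable def pts [Fintype P] (π : Pl G P L) (l : L) : Finset P :=
  Finset.univ.filter (π.I · l)

omit [Finite G] [Finite P] [Finite L] in
theorem mem_pts [Fintype P] {l : L} {p : P} : p ∈ π.pts l ↔ π.I p l := by simp [pts]

omit [Finite G] [Finite P] [Finite L] in
theorem pts_injective [Fintype P] : Function.Injective π.pts := by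
  intro l m h
  obtain ⟨p, hp, -⟩ := π.meet' l l
  obtain ⟨q, hq, hqp, -⟩ := π.exists_pt_ne l p p
  exact line_eq hqp hq hp (mem_pts.1 (h ▸ mem_pts.2 hq)) (mem_pts.1 (h ▸ mem_pts.2 hp))

omit [Finite G] [Finite P] in
theorem exists_symDes [Fintype P] [DecidableEq P] :
    ∃ D : SymDes P, D.lam = 1 ∧ ∀ C, C ∈ D.Bl ↔ ∃ l, π.pts l = C := by
  classical
  have := Fintype.ofFinite L
  have hn := π.two_le
  refine ⟨{ Bl := Finset.univ.image π.pts, k := π.n + 1, lam := 1, card_bl := ?_,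
            card_inter := ?_, card_thru := ?_, card_thru2 := ?_, card_Bl := ?_,
            lam_pos := one_pos, lam_lt := by omega, k_lt := ?_ }, rfl, by simp⟩
  · intro C hC
    obtain ⟨l, -, rfl⟩ := Finset.mem_image.1 hC
    rw [← π.card_pts l, ← Set.ncard_coe_finset]
    congr 1; ext; simp [mem_pts]
  · intro C hC E hE hne
    obtain ⟨l, -, rfl⟩ := Finset.mem_image.1 hC
    obtain ⟨m, -, rfl⟩ := Finset.mem_image.1 hE
    have hlm : l ≠ m := by rintro rfl; exact hne rfl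
    obtain ⟨p, h1, h2⟩ := π.meet' l m
    rw [Finset.card_eq_one]
    refine ⟨p, ?_⟩
    ext q
    simp only [Finset.mem_inter, mem_pts, Finset.mem_singleton]
    exact ⟨fun h => pt_eq hlm h.1 h.2 h1 h2, fun e => e ▸ ⟨h1, h2⟩⟩
  · intro x
    rw [Finset.filter_image, Finset.card_image_of_injective _ pts_injective, ← π.card_lns x,
      ← Set.ncard_coe_finset]
    congr 1; ext; simp [mem_pts]
  · intro x y hxy
    rw [Finset.filter_image, Finset.card_image_of_injective _ pts_injective, Finset.card_eq_one]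
    obtain ⟨l, h1, h2⟩ := π.join' x y
    refine ⟨l, ?_⟩
    ext m
    simp only [Finset.mem_filter, Finset.mem_univ, true_and, mem_pts, Finset.mem_singleton]
    exact ⟨fun h => line_eq hxy h.1 h.2 h1 h2, fun e => e ▸ ⟨h1, h2⟩⟩
  · rw [Finset.card_image_of_injective _ pts_injective, Finset.card_univ,
      ← Nat.card_eq_fintype_card, ← Nat.card_eq_fintype_card, π.card_P, π.card_L]
  · rw [← Nat.card_eq_fintype_card, π.card_P]
    nlinarith

omit [Finite P] in
theorem exists_setup [Fintype P] [DecidableEq P] (h2 : TwoTr G P)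
    (hax : ∃ g : G, g ≠ 1 ∧ ∃ a, π.Ax g a) :
    ∃ D : SymDes P, D.lam = 1 ∧ (∀ C, C ∈ D.Bl ↔ ∃ l, π.pts l = C) ∧ D.Setup G := by
  obtain ⟨D, h1, hD⟩ := exists_symDes (π := π)
  refine ⟨D, h1, hD, D.setup_of_two_transitive ?_ (is_two_pretransitive_iff.2 h2) ?_⟩
  · intro g C hC
    obtain ⟨l, rfl⟩ := (hD C).1 hC
    refine (hD _).2 ⟨g • l, ?_⟩
    ext p
    rw [← Finset.inv_smul_mem_iff, mem_pts, mem_pts, ← π.act g (g⁻¹ • p), smul_inv_smul]
  · obtain ⟨g, hg, a, ha⟩ := hax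
    exact ⟨g, hg, π.pts a, (hD _).2 ⟨a, rfl⟩, fun x hx => ha x (mem_pts.1 hx)⟩

omit [Finite G] [Finite P] [Finite L] in
variable (π) in
include π in
theorem faithfulSMul : FaithfulSMul G P :=
  ⟨fun {g h} e => by
    rw [← mul_inv_eq_one]
    exact π.faithP _ fun p => by rw [mul_smul, e, smul_inv_smul]⟩

theorem exists_elation_of_ax (h2 : TwoTr G P) (hax : ∃ g : G, g ≠ 1 ∧ ∃ a, π.Ax g a) :
    ∃ a, ∃ g ∈ π.T a, g ≠ 1 := by
  classical
  have := Fintype.ofFinite P
  have := π.faithfulSMul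
  obtain ⟨D, -, hD, S⟩ := exists_setup h2 hax
  obtain ⟨a⟩ := π.neL
  obtain ⟨g, hg⟩ := S.exists_elat ((hD _).2 ⟨a, rfl⟩)
  have h1 : π.Ax g a := fun p hp => hg.1 p (mem_pts.2 hp)
  obtain ⟨c, hc⟩ := h1.exists_ce
  obtain ⟨z, hz⟩ := π.exists_notI a
  exact ⟨a, g, ⟨c, by_contra fun h => hg.2 c (mt mem_pts.1 h) hc.fix, hc, h1⟩,
    fun e => hg.2 z (mt mem_pts.1 hz) (by rw [e, one_smul])⟩

theorem AntiTr.central_move (hA : π.AntiTr) {p s : ℕ} [hp : Fact p.Prime] (hn : π.n = p ^ s)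
    (S : Sylow p G) {l : L} (hl : (S : Subgroup G) ≤ stabilizer G l) {α : G}
    (hα : α ∈ (S : Subgroup G)) (hcom : ∀ s ∈ (S : Subgroup G), Commute s α)
    (hax : ∀ a, ¬ π.Ax α a) {x : P} (hx : ¬ π.I x l) : α • x ≠ x := by
  intro h
  have h1 : ∀ y, ¬ π.I y l → α • y = y := by
    intro y hy
    obtain ⟨g, hg, rfl⟩ := hA.sylow_trans hn S hl hx hy
    rw [← mul_smul, ← (hcom g hg).eq, mul_smul, h]
  obtain ⟨m, hm, -⟩ := π.join' x x
  have hml : m ≠ l := by rintro rfl; exact hx hm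
  obtain ⟨z, hz1, hz2⟩ := π.meet' m l
  obtain ⟨y, hy, hyz, hyx⟩ := π.exists_pt_ne m z x
  have h2 := fix_line hyx hy hm (h1 y fun h => hyz (pt_eq hml hy h hz1 hz2)) h
  refine hax m fun w hw => ?_
  by_cases h3 : π.I w l
  · exact fix_pt hml hw h3 h2 (hl hα)
  · exact h1 w h3

theorem AntiTr.good_of_not_ax (hA : π.AntiTr) {p s : ℕ} [hp : Fact p.Prime] (hn : π.n = p ^ s)
    (hax : ∀ g : G, g ≠ 1 → ∀ a, ¬ π.Ax g a) (S : Sylow p G) {c O : P} {l : L} (hcl : π.I c l)
    (hc : (S : Subgroup G) ≤ stabilizer G c) (hl : (S : Subgroup G) ≤ stabilizer G l)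
    (hO : ¬ π.I O l) : ∃ k, π.Good (S ⊓ stabilizer G O) k := by
  obtain ⟨α, hα, ho, hcom⟩ := hA.exists_central (dvd_of_eq_pow hn) S
  have hα1 : α ≠ 1 := by
    rintro rfl
    exact hp.out.ne_one (by simpa using ho.symm)
  have h1 : ∀ x, ¬ π.I x l → α • x ≠ x := fun x => hA.central_move hn S hl hα hcom (hax α hα1)
  have h2 : ∀ x, π.I x l → x ≠ c → α • x ≠ x := by
    intro x hx hxc h
    refine hax α hα1 l fun y hy => ?_
    by_cases hyc : y = c
    · rw [hyc]; exact hc hα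
    obtain ⟨m, hm, hml, -⟩ := π.exists_ln_ne x l l
    obtain ⟨m', hm', hml', -⟩ := π.exists_ln_ne y l l
    obtain ⟨g, hg, rfl⟩ := hA.dual.sylow_trans hn S hc (x := m) (y := m')
      (fun h => hxc (pt_eq hml hm hx h hcl)) (fun h => hyc (pt_eq hml' hm' hy h hcl))
    rw [pt_eq hml' hm' hy (smul_I g hm) (smul_I_of_fix hx (hl hg)), ← mul_smul, ← (hcom g hg).eq,
      mul_smul, h]
  have h3 : ∀ m, α • m = m → m = l := by
    have e : {p : P | α • p = p} = {c} := by
      ext x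
      refine ⟨fun h => by_contra fun h' => ?_, fun h => h ▸ hc hα⟩
      by_cases hx : π.I x l
      · exact h2 x hx h' h
      · exact h1 x hx h
    have e2 := π.ncard_fix_eq α
    rw [e, Set.ncard_singleton, eq_comm, Set.ncard_eq_one] at e2
    obtain ⟨r, hr⟩ := e2
    intro m hm
    exact ((Set.ext_iff.1 hr m).1 hm).trans ((Set.ext_iff.1 hr l).1 (hl hα)).symm
  have fO : O ∈ fixedPoints (S ⊓ stabilizer G O : Subgroup G) P := fun g => g.2.2
  have fc : c ∈ fixedPoints (S ⊓ stabilizer G O : Subgroup G) P := fun g => hc g.2.1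
  have fl : l ∈ fixedPoints (S ⊓ stabilizer G O : Subgroup G) L := fun g => hl g.2.1
  have hαN : α ∈ Subgroup.normalizer ((S ⊓ stabilizer G O : Subgroup G) : Set G) :=
    Subgroup.mem_normalizer_fintype fun n hn => by
      rwa [← (hcom n hn.1).eq, mul_inv_cancel_right]
  have hOc : O ≠ c := by rintro rfl; exact hO hcl
  obtain ⟨m, hm1, hm2⟩ := π.join' O (α • O)
  obtain ⟨r, hr1, hr2⟩ := π.join' O c
  obtain ⟨x, hx1, hx2⟩ := π.meet' m l
  have hml : m ≠ l := by rintro rfl; exact hO hm1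
  have hrl : r ≠ l := by rintro rfl; exact hO hr1
  have fm := line_mem_fixed (h1 O hO).symm hm1 hm2 fO (smul_mem_fixed hαN fO)
  have hαr : ¬ π.I (α • O) r := fun h => hrl (h3 r (line_eq (p := α • O) (q := c)
    (fun e => hOc (MulAction.injective α (e.trans (hc hα).symm))) (smul_I α hr1)
    (I_smul_of_fix hr2 (hc hα)) h hr2))
  have hcm : ¬ π.I c m := fun h => hαr (line_eq hOc hm1 h hr1 hr2 ▸ hm2)
  have hxc : x ≠ c := by rintro rfl; exact hcm hx1
  refine good_of_config (p₁ := α • O) (p₂ := c) (p₃ := x) (l₁ := α • m) (l₂ := l) (l₃ := r)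
    (smul_mem_fixed hαN fO) fc (pt_mem_fixed hml hx1 hx2 fm fl) (smul_mem_fixed hαN fm) fl
    (line_mem_fixed hOc hr1 hr2 fO fc) (fun h => hO (I_of_smul_I h (hl hα))) hαr
    (fun h => hcm ((π.act α c m).1 ((hc hα : α • c = c).symm ▸ h))) hcl hr2 (fun h => ?_) hx2
    (fun h => hxc (pt_eq hrl h hx2 hr2 hcl))
  refine h2 x hx2 hxc (pt_eq (l := α • m) (m := l) (fun e => hml ?_) (smul_I α hx1)
    (smul_I_of_fix hx2 (hl hα)) h hx2)
  exact MulAction.injective α (e.trans (hl hα).symm)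

end

theorem exists_ax (n : ℕ) : ∀ {G : Type u} {P : Type v} {L : Type w} [Group G] [MulAction G P]
    [MulAction G L] [Finite G] [Finite P] [Finite L] (π : Pl G P L), π.n = n → TwoTr G P →
    ∃ g : G, g ≠ 1 ∧ ∃ a, π.Ax g a := by
  induction n using Nat.strong_induction_on with
  | _ n ih =>
  intro G P L _ _ _ _ _ _ π hπ h2
  have hA := (π.twoTr_dual h2).2
  rcases Nat.even_or_odd π.n with he | ho
  · exact hA.exists_ax_of_even he.two_dvd
  obtain ⟨p, s, hp, hn, x₀, m₀, hxm, hdvd⟩ := prime_pow_of_odd h2 ho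
  have := Fact.mk hp
  by_contra hax
  push Not at hax
  obtain ⟨S⟩ : Nonempty (Sylow p G) := inferInstance
  obtain ⟨c, l, hcl, hc, hl⟩ := hA.sylow_flag (dvd_of_eq_pow hn) S
  obtain ⟨O, hO⟩ := π.exists_notI l
  obtain ⟨k, hR⟩ := hA.good_of_not_ax hn hax S hcl hc hl hO
  set R : Subgroup G := S ⊓ stabilizer G O with hRdef
  have hRp : IsPGroup p R := S.isPGroup'.to_le inf_le_left
  have hcard : ∀ x m, ¬ π.I x m →
      Nat.card (stabilizer G (x, m)) = Nat.card (stabilizer G (O, l)) := by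
    intro x m h
    obtain ⟨g, rfl, rfl⟩ := hA O l x m hO h
    rw [← Prod.smul_mk, card_stabilizer_smul]
  have hRH : R ≤ stabilizer G (O, l) := fun g hg => Prod.ext hg.2 (hl hg.1)
  have hidx : ¬ p ∣ R.relIndex (stabilizer G (O, l)) := by
    have e : stabilizer G (O, l) = stabilizer G O ⊓ stabilizer G l := by
      ext g
      simp [Prod.ext_iff]
    have h1 := Subgroup.relIndex_mul_relIndex R _ (stabilizer G l) hRH (e ▸ inf_le_right)
    have h3 := Subgroup.relIndex_mul_relIndex R S (stabilizer G l) inf_le_left hl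
    have h4 : R.relIndex S = π.n ^ 2 := by
      rw [hRdef, Subgroup.inf_relIndex_left, relIndex_stabilizer, ← π.ncard_notI l]
      congr 1
      ext y
      exact ⟨by rintro ⟨g, hg, rfl⟩ h; exact hO (I_of_smul_I h (hl hg)),
        hA.sylow_trans hn S hl hO⟩
    have h5 : (stabilizer G (O, l)).relIndex (stabilizer G l) = π.n ^ 2 := by
      rw [e, Subgroup.inf_relIndex_right, hA.relIndex hO]
    rw [h5, ← h3, h4, mul_comm] at h1
    have := π.two_le
    rw [Nat.eq_of_mul_eq_mul_left (by positivity) h1]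
    exact fun h => S.not_dvd_index (h.trans (Subgroup.relIndex_dvd_index_of_le hl))
  have hmul : R.relIndex (stabilizer G (O, l)) * Nat.card R = Nat.card (stabilizer G (O, l)) := by
    rw [← Nat.card_congr (Subgroup.subgroupOfEquivOfLe hRH).toEquiv]
    exact Subgroup.index_mul_card _
  have hsyl : Nat.card R = p ^ (Nat.card (stabilizer G (O, l))).factorization p := by
    rw [← Nat.card_congr (Subgroup.subgroupOfEquivOfLe hRH).toEquiv]
    exact (IsPGroup.toSylow (hRp.comap_subtype) hidx).card_eq_multiplicity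
  have fO : O ∈ fixedPoints R P := fun g => g.2.2
  have fl : l ∈ fixedPoints R L := fun g => hl g.2.1
  have witt : ∀ x ∈ fixedPoints R P, ∀ m ∈ fixedPoints R L, ¬ π.I x m →
      ∃ g ∈ Subgroup.normalizer (R : Set G), g • O = x ∧ g • l = m := by
    intro x hx m hm h
    obtain ⟨g, rfl, rfl⟩ := hA O l x m hO h
    obtain ⟨u, hu, h1⟩ := CfsgH6.exists_conj_of_card_eq_pPart (p := p) (stabilizer G (g • O, g • l))
      (R.map (MulAut.conj g).toMonoidHom) R (by
        rw [← Prod.smul_mk, stabilizer_smul_eq_stabilizer_map_conj]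
        exact Subgroup.map_mono hRH) (fun r hr => Prod.ext (hx ⟨r, hr⟩) (hm ⟨r, hr⟩))
      (by rw [hcard _ _ h, ← hsyl]; exact Subgroup.card_map_of_injective (MulAut.conj g).injective)
      (by rw [hcard _ _ h, ← hsyl])
    refine ⟨u * g, Subgroup.mem_normalizer_fintype fun r hr => ?_, ?_, ?_⟩
    · have := (h1 _).1 ⟨r, hr, rfl⟩
      simpa [mul_assoc] using this
    · rw [mul_smul]; exact congrArg Prod.fst hu
    · rw [mul_smul]; exact congrArg Prod.snd hu
  obtain ⟨Δ, _, _, _, _, π', φ, hφ, hn', hI, hP, hL⟩ := hR.exists_sub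
  have hA' : π'.AntiTr := by
    intro x m y r h1 h3
    obtain ⟨g, hg, e1, e2⟩ := witt x x.2 m m.2 (mt (hI _ _).2 h1)
    obtain ⟨g', hg', e3, e4⟩ := witt y y.2 r r.2 (mt (hI _ _).2 h3)
    refine ⟨φ ⟨g' * g⁻¹, mul_mem hg' (inv_mem hg)⟩, Subtype.ext ?_, Subtype.ext ?_⟩
    · rw [hP, ← e1, ← e3, mul_smul, inv_smul_smul]
    · rw [hL, ← e2, ← e4, mul_smul, inv_smul_smul]
  obtain ⟨j, hj⟩ : ∃ j, π'.n = p ^ j := by
    have h1 : IsPGroup p (S ⊓ Subgroup.normalizer (R : Set G) : Subgroup G) :=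
      S.isPGroup'.to_le inf_le_left
    obtain ⟨i, hi⟩ := h1.index (stabilizer _ O)
    change (stabilizer G O).relIndex _ = _ at hi
    have h3 : {y | ∃ g ∈ (S ⊓ Subgroup.normalizer (R : Set G) : Subgroup G), g • O = y} =
        {y | y ∈ fixedPoints R P ∧ ¬ π.I y l} := by
      ext y
      constructor
      · rintro ⟨g, hg, rfl⟩
        exact ⟨smul_mem_fixed hg.2 fO, fun h => hO (I_of_smul_I h (hl hg.1))⟩
      · rintro ⟨h4, h5⟩
        obtain ⟨g, hg, rfl⟩ := hA.sylow_trans hn S hl hO h5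
        refine ⟨g, ⟨hg, (Subgroup.inv_mem_iff _).1 (Subgroup.mem_normalizer_fintype fun r hr =>
          ⟨(S : Subgroup G).mul_mem ((S : Subgroup G).mul_mem ((S : Subgroup G).inv_mem hg) hr.1)
            ((S : Subgroup G).inv_mem ((S : Subgroup G).inv_mem hg)), ?_⟩)⟩, rfl⟩
        have : r • g • O = g • O := h4 ⟨r, hr⟩
        change _ • O = O
        rw [inv_inv, mul_smul, mul_smul, this, inv_smul_smul]
    have h4 := π'.ncard_notI ⟨l, fl⟩
    simp only [hI] at h4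
    rw [relIndex_stabilizer, h3, ← ncard_subtype _ fun y => ¬ π.I y l, h4] at hi
    obtain ⟨j, -, hj⟩ := (Nat.dvd_prime_pow hp).1 (hi ▸ dvd_pow_self π'.n two_ne_zero)
    exact ⟨j, hj⟩
  have hlt : π'.n < n := by
    have h1 : p ∣ Nat.card R := by
      rw [hcard _ _ hxm, ← hmul] at hdvd
      exact (hp.dvd_mul.1 hdvd).resolve_left hidx
    obtain ⟨z, hz⟩ : ∃ z, z ∉ fixedPoints R P := by
      by_contra h
      push Not at h
      have : R = ⊥ := by
        rw [eq_bot_iff]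
        exact fun r hr => π.faithP r fun z => h z ⟨r, hr⟩
      rw [this, Subgroup.card_bot] at h1
      exact hp.not_dvd_one h1
    have h3 : Nat.card (fixedPoints R P) < Nat.card P := Finite.card_subtype_lt hz
    rw [π'.card_P, π.card_P, hπ] at h3
    by_contra h
    have : n ≤ π'.n := by omega
    nlinarith
  have h2' : TwoTr Δ (fixedPoints R P) := hA'.twoTr hp hj
  obtain ⟨a, g, hg, hg1⟩ := exists_elation_of_ax h2' (ih _ hlt π' rfl h2')
  obtain ⟨δ, hδ, x, m, h3, h4, h5⟩ := exists_antiflag_of_elation hp hj hg hg1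
  have h6 := lift_dvd π' φ hφ hP hL h4 h5
  rw [hδ, hcard _ _ (mt (hI _ _).2 h3), ← hmul] at h6
  exact hidx (Nat.dvd_of_mul_dvd_mul_right Nat.card_pos h6)

open Matrix in
theorem ostrom_wagner {G P L : Type*} [Group G] [MulAction G P] [MulAction G L] [Finite G]
    [Finite P] [Finite L] (π : Pl G P L) (h2 : TwoTr G P) :
    ∃ (F : Type) (_ : Field F) (_ : Fintype F) (φ : P ≃ Projectivization F (Fin 3 → F)),
      (∀ l : L, ∃ W : Submodule F (Fin 3 → F), Module.finrank F W = 2 ∧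
          ∀ p : P, π.I p l ↔ (φ p).submodule ≤ W) ∧
      (∀ W : Submodule F (Fin 3 → F), Module.finrank F W = 2 →
          ∃ l : L, ∀ p : P, π.I p l ↔ (φ p).submodule ≤ W) := by
  classical
  have := Fintype.ofFinite P
  have := π.faithfulSMul
  obtain ⟨D, hlam, hD, S⟩ := exists_setup h2 (exists_ax _ π rfl h2)
  obtain ⟨m, F, _, _, hm, φ, hφ⟩ := S.exists_coord
  obtain rfl : m = 2 := by
    by_contra hm2
    let e : ℕ → Fin (m + 1) → F := fun i => Pi.single (Fin.ofNat (m + 1) i) 1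
    have he : ∀ i, e i ≠ 0 := fun i => by simp [e]
    have hd : ∀ i j, i ≤ 3 → j ≤ 3 → (e i ⬝ᵥ e j = 0 ↔ i ≠ j) := by
      intro i j hi hj
      simp only [e, single_dotProduct, one_mul, Pi.single_apply, ite_eq_right_iff, one_ne_zero,
        imp_false, Fin.ext_iff, Fin.val_ofNat]
      rw [Nat.mod_eq_of_lt (by omega), Nat.mod_eq_of_lt (by omega)]
    obtain ⟨E, hE, h0⟩ := hφ.hyp (e 0) (he 0)
    obtain ⟨E', hE', h1⟩ := hφ.hyp (e 1) (he 1)
    obtain ⟨E'', -, h3⟩ := hφ.hyp (e 2) (he 2)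
    have := SymDes.eq_of_two_mem hlam hE hE' (x := φ.symm (Projectivization.mk F (e 2) (he 2)))
      (y := φ.symm (Projectivization.mk F (e 3) (he 3))) (fun h => by
        have := (h3 _ (he 3)).2 (by simp [hd])
        rw [← h, h3] at this
        simp [hd] at this) (by simp [h0, hd]) (by simp [h0, hd]) (by simp [h1, hd])
      (by simp [h1, hd])
    have h4 := (h0 _ (he 1)).2 (by simp [hd])
    rw [this, h1] at h4
    simp [hd] at h4
  have key : ∀ (l : L) (f : Fin 3 → F),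
      (∀ v (hv : v ≠ 0), φ.symm (Projectivization.mk F v hv) ∈ π.pts l ↔ f ⬝ᵥ v = 0) →
      ∀ p : P, π.I p l ↔ (φ p).submodule ≤ LinearMap.ker (dotProductBilin F F f) := by
    intro l f h p
    rw [← mem_pts, ← φ.symm_apply_apply p, φ.apply_symm_apply, ← (φ p).mk_rep, h,
      Projectivization.submodule_mk, Submodule.span_singleton_le_iff_mem]
    rfl
  have rk : ∀ f : Fin 3 → F, f ≠ 0 →
      Module.finrank F (LinearMap.ker (dotProductBilin F F f)) = 2 := by
    intro f hf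
    have := Module.Dual.finrank_ker_add_one_of_ne_zero (f := dotProductBilin F F f) (fun h => hf (by
      ext i
      simpa using congrArg (· (Pi.single i 1)) h))
    simpa using this
  refine ⟨F, inferInstance, inferInstance, φ, fun l => ?_, fun W hW => ?_⟩
  · obtain ⟨f, hf, h⟩ := hφ.bl _ ((hD _).2 ⟨l, rfl⟩)
    exact ⟨_, rk f hf, key l f h⟩
  · obtain ⟨w, hw⟩ : ∃ w, w ∉ W := by
      by_contra h
      push Not at h
      rw [Submodule.eq_top_iff'.2 h] at hW
      simp at hW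
    obtain ⟨f, h1, h3⟩ := exists_dot_of_notMem W hw
    have hf : f ≠ 0 := by rintro rfl; simp at h1
    obtain ⟨E, hE, h⟩ := hφ.hyp f hf
    obtain ⟨l, rfl⟩ := (hD E).1 hE
    refine ⟨l, ?_⟩
    rw [Submodule.eq_of_le_of_finrank_eq (show W ≤ LinearMap.ker (dotProductBilin F F f) from h3)
      (hW.trans (rk f hf).symm)]
    exact key l f h

end Pl

end CfsgH1
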