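import Cfsg.Agent.H1.Q4A3
import Cfsg.Agent.H7.Q4M

set_option autoImplicit false
set_option linter.unusedSectionVars false

/-! Kernel of even order: blocks of size `5, 6, 7, 11`, and the semiregular case. -/

namespace CfsgH1.Q4

open MulAction Subgroup CfsgH5 CfsgH6 CfsgFT

universe u

variable {G : Type u} {Ω : Type*} [Group G] [Finite G] [MulAction G Ω] [Finite Ω]

theorem move3 (h4 : T4 (⊤ : Subgroup G) (Set.univ : Set Ω)) (h5 : 5 ≤ Nat.card Ω) {A : Set Ω}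
    (hA : A.ncard ≤ 3) {x y : Ω} (hx : x ∉ A) (hy : y ∉ A) : ∃ g ∈ St G A, g • x = y := by
  have h1 := Set.ncard_add_ncard_compl ({x, y} : Set Ω)
  have h2 : ({x, y} : Set Ω).ncard ≤ 2 := (Set.ncard_insert_le _ _).trans (by simp)
  obtain ⟨D, d1, d2, d3⟩ := Set.exists_subsuperset_card_eq (s := A) (t := {x, y}ᶜ) (n := 3)
    (by rintro z hz (rfl | rfl); exacts [hx hz, hy hz]) hA (by omega)
  obtain ⟨a, b, c, e1, e2, e3, rfl⟩ := Set.ncard_eq_three.1 d3
  have ha := d2 (show a ∈ _ by simp)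
  have hb := d2 (show b ∈ _ by simp)
  have hc := d2 (show c ∈ _ by simp)
  simp only [Set.mem_compl_iff, Set.mem_insert_iff, Set.mem_singleton_iff, not_or] at ha hb hc
  obtain ⟨g, -, g1, g2, g3, g4⟩ := h4 (⟨e1, e2, ha.1, e3, hb.1, hc.1⟩ : D4 a b c x)
    (⟨e1, e2, ha.2, e3, hb.2, hc.2⟩ : D4 a b c y) trivial trivial trivial trivial trivial trivial trivial
    trivial
  exact ⟨g, St_mono d1 (by rintro z (rfl | rfl | rfl) <;> assumption), g4⟩

theorem card_St_insert {A : Set Ω} {x : Ω} (hx : x ∉ A) (ht : ∀ y, y ∉ A → ∃ g ∈ St G A, g • x = y) :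
    Nat.card (St G A) = Nat.card (St G (insert x A)) * (Nat.card Ω - A.ncard) := by
  have e : St G (insert x A) = stabilizer G x ⊓ St G A := by
    ext g; simp [mem_St]
  have e2 : {y | ∃ g ∈ St G A, g • x = y} = Aᶜ := subset_antisymm (by
    rintro _ ⟨g, hg, rfl⟩
    exact maps_compl (fun z hz => (hg z hz).symm ▸ hz) x hx) fun y hy => ht y hy
  rw [e, ← card_inf_mul_relIndex (stabilizer G x) (St G A), relIndex_stab, e2,
    ← Set.ncard_add_ncard_compl A, Nat.add_sub_cancel_left]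

theorem card_eq_St (h4 : T4 (⊤ : Subgroup G) (Set.univ : Set Ω)) (h5 : 5 ≤ Nat.card Ω) {B : Set Ω}
    (hB : B.ncard = 4) : Nat.card G =
      Nat.card (St G B) * (Nat.card Ω - 3) * (Nat.card Ω - 2) * (Nat.card Ω - 1) * Nat.card Ω := by
  obtain ⟨a, b, c, d, ⟨h1, h2, h3, h6, h7, h8⟩, rfl⟩ := exists_D4 hB
  have e0 : St G (∅ : Set Ω) = ⊤ := by ext g; simp [mem_St]
  have k : ∀ {A : Set Ω} {x : Ω}, A.ncard ≤ 3 → x ∉ A → _ := fun {A x} h hx =>
    card_St_insert (G := G) hx fun y hy => move3 h4 h5 h hx hy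
  have e1 := k (A := ∅) (x := d) (by simp) (by simp)
  have e2 := k (A := {d}) (x := c) (by simp) (by simpa)
  have e3 := k (A := {c, d}) (x := b) (by rw [Set.ncard_pair h8]; omega) (by simp [h6, h7])
  have e4 := k (A := {b, c, d}) (x := a) (by rw [ncard_triple h6 h7 h8]) (by simp [h1, h2, h3])
  rw [e0, card_top, LawfulSingleton.insert_empty_eq, Set.ncard_empty] at e1
  rw [Set.ncard_singleton] at e2
  rw [Set.ncard_pair h8] at e3
  rw [ncard_triple h6 h7 h8] at e4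
  rw [e1, e2, e3, e4, Nat.sub_zero]

theorem three_dvd_orderOf {g : G} {a b c : Ω} (h1 : a ≠ b) (h2 : a ≠ c) (ha : g • a = b) (hb : g • b = c)
    (hc : g • c = a) : 3 ∣ orderOf g := by
  have h3 : ∀ j, (g ^ 3) ^ j • a = a := fun j => Fx_le_pow _ j (by
    rw [mem_Fx, pow_succ, pow_two, mul_smul, mul_smul, ha, hb, hc])
  have := Nat.div_add_mod (orderOf g) 3
  have e : g ^ (orderOf g % 3) • a = a := by
    nth_rewrite 1 [← h3 (orderOf g / 3)]
    rw [← mul_smul, ← pow_mul, ← pow_add, add_comm, this, pow_orderOf_eq_one, one_smul]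
  have : orderOf g % 3 = 0 ∨ orderOf g % 3 = 1 ∨ orderOf g % 3 = 2 := by omega
  rcases this with q | q | q
  · exact Nat.dvd_of_mod_eq_zero q
  · rw [q, pow_one, ha] at e; exact absurd e.symm h1
  · rw [q, pow_two, mul_smul, ha, hb] at e; exact absurd e.symm h2

namespace Fr

variable (F : Fr G Ω) {B : Set Ω} {g h c : G}

theorem dvd_closed {S : Set Ω} (hS : ∀ B ⊆ S, B.ncard = 4 → F.bl B ⊆ S) (h4 : 4 ≤ S.ncard) :
    (F.k - 3) ∣ S.ncard - 3 := by
  classical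
  obtain ⟨a, ha, b, hb, c, hc, d, -, hd⟩ := exists_D4_mem h4
  have k : ∀ {y : Ω}, y ∉ ({a, b, c} : Set Ω) → D4 a b c y := fun {y} hy => by
    simp only [Set.mem_insert_iff, Set.mem_singleton_iff, not_or] at hy
    exact ⟨hd.1, hd.2.1, Ne.symm hy.1, hd.2.2.2.1, Ne.symm hy.2.1, Ne.symm hy.2.2⟩
  have k3 := ncard_triple hd.1 hd.2.1 hd.2.2.2.1
  haveI := Fintype.ofFinite Ω
  let T : Finset Ω := Finset.univ.filter (· ∈ S \ ({a, b, c} : Set Ω))
  have hT : T.card = S.ncard - 3 := by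
    rw [← k3, ← Set.ncard_diff (by rintro z (rfl | rfl | rfl) <;> assumption), ← Set.ncard_coe_finset]
    congr 1; ext y; simp only [T, Finset.coe_filter, Finset.mem_univ, true_and, Set.mem_setOf_eq]
  rw [← hT, Finset.card_eq_sum_card_image (fun y => F.bl {a, b, c, y}) T]
  refine Finset.dvd_sum fun β hβ => dvd_of_eq ?_
  obtain ⟨y, hy, rfl⟩ := Finset.mem_image.1 hβ
  have hy0 := (Finset.mem_filter.1 hy).2
  have hy' := k hy0.2
  have sub : ({a, b, c} : Set Ω) ⊆ F.bl {a, b, c, y} := fun z hz => F.sub hy'.ncard (by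
    rcases hz with rfl | rfl | rfl <;> simp)
  rw [← F.card_bl hy'.ncard, ← k3, ← Set.ncard_diff sub, ← Set.ncard_coe_finset]
  congr 1
  ext z
  simp only [T, Finset.coe_filter, Finset.mem_filter, Finset.mem_univ, true_and, Set.mem_diff,
    Set.mem_setOf_eq]
  refine ⟨fun ⟨h1, h2⟩ => ⟨⟨hS _ ?_ hy'.ncard h1, h2⟩, F.bl_eq hy'.ncard (k h2).ncard ?_⟩,
    fun ⟨h1, h2⟩ => ⟨h2 ▸ F.sub (k h1.2).ncard (by simp), h1.2⟩⟩
  · rintro t (rfl | rfl | rfl | rfl)
    exacts [ha, hb, hc, hy0.1]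
  · rintro t (rfl | rfl | rfl | rfl)
    exacts [sub (by simp), sub (by simp), sub (by simp), h1]

theorem exists_CT (hB : B.ncard = 4) (h1 : h ∈ St G B) (h2 : h ∉ F.K B) :
    ∃ r : ℕ, r.Prime ∧ ¬ r ∣ F.κ ∧ ∃ c ∈ zpowers h, orderOf c = r := by
  obtain ⟨r, hr, hd⟩ := Nat.exists_prime_and_dvd (n := orderOf h) fun e =>
    h2 (orderOf_eq_one_iff.1 e ▸ one_mem _)
  exact ⟨r, hr, fun e => hr.one_lt.ne' (Nat.eq_one_of_dvd_coprimes (F.cop hB h1 h2) hd e),
    exists_mem_orderOf_eq (X := zpowers h) hr (by rwa [Nat.card_zpowers])⟩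

theorem three_mul_dvd (hd : ¬ 3 ∣ F.κ) (hB : B.ncard = 4) (h1 : h ∈ St G B) (h3 : 3 ∣ orderOf h) :
    3 ∣ F.κ - 1 ∧ 3 * F.κ ∣ Nat.card (St G B) := by
  obtain ⟨n, hn⟩ := exists_three h3
  have m : h ^ n ∈ St G B := pow_mem h1 n
  refine ⟨?_, Nat.Coprime.mul_dvd_of_dvd_of_dvd ((Nat.Prime.coprime_iff_not_dvd Nat.prime_three).2 hd)
    (hn ▸ orderOf_dvd_card' m) (F.pow_card hB le_rfl |> fun _ => F.card hB ▸ card_dvd_of_le' (F.le_St hB))⟩
  have := SemiReg.card_dvd (K := F.K B) (E := zpowers (h ^ n)) (semiReg_of_prime_card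
    (by rw [Nat.card_zpowers, hn]; exact Nat.prime_three) ((eq_bot_iff_forall _).2 fun k hk =>
      F.fpf hB m (F.not_mem_of_prime Nat.prime_three hd hB hn.symm.dvd) hk.1
        (mem_C.1 hk.2 _ (mem_zpowers _)))) (nrm_zpowers_iff.2 (F.St_le_N hB m))
  rwa [Nat.card_zpowers, hn, F.card hB] at this

variable (hκ : 2 ∣ F.κ) (hH : HallThm G Ω)
include hκ hH

theorem fix_bl (hk : F.k ≠ 7) (hB : B.ncard = 4) (h1 : h ∈ St G B) : F.bl B ⊆ Fx Ω h :=
  (F.hallK hκ hH hB).triv (F.card_bl hB ▸ hk) h (F.St_le_N hB h1)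
    (hB ▸ Set.ncard_le_ncard (Set.subset_inter (F.sub hB) h1))

theorem Fx6 (hk : F.k = 6) (hB : B.ncard = 4) (h1 : h ∈ St G B) (h2 : h ∉ F.K B) : Fx Ω h = F.bl B := by
  obtain ⟨r, hr, hd, c, c1, c2⟩ := F.exists_CT hB h1 h2
  have s : Fx Ω h ⊆ Fx Ω c := fun x hx => (zpowers_le.2 (show h ∈ stabilizer G x from hx)) c1
  have s2 := F.fix_bl hκ hH (by omega) hB h1
  have h4 : 4 ≤ (Fx Ω c).ncard := hB ▸ Set.ncard_le_ncard (Set.Subset.trans h1 s)
  have a := F.dvd_closed (S := Fx Ω c) (fun B' b1 b2 => F.fix_bl hκ hH (by omega) b2 b1) h4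
  have b := (F.hallC hκ hH hr hd c2 h4).card
  rw [hk] at a
  refine subset_antisymm ?_ s2
  rw [Set.eq_of_subset_of_ncard_le (s2.trans s) (by rw [F.card_bl hB]; omega)]
  exact s

theorem k_ne : F.k ≠ 5 ∧ F.k ≠ 11 ∧ F.k ≠ 6 := by
  obtain ⟨A, M⟩ := F.exists_Mx
  have e : (M.lv hκ hH).k = F.k := rfl
  refine ⟨fun hk => ?_, fun hk => ?_, fun hk => (M.lv hκ hH).not_six hk (fun B h hB h1 h2 => ?_)
    fun B g hB h1 h2 => ?_⟩
  · have := (M.lv hκ hH).three_dvd (by rw [e, hk])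
    rw [e, hk] at this; omega
  · have := (M.lv hκ hH).three_dvd (by rw [e, hk])
    rw [e, hk] at this; omega
  · obtain ⟨h, rfl⟩ := qm_surjective A h
    by_cases hK : (h : G) ∈ F.K (Subtype.val '' B)
    · exact (M.lv hκ hH).Fx_eq hB ((M.lv_K hκ hH hB).2 hK) h1
    · rw [M.lv_bl hκ hH hB, ← F.Fx6 hκ hH hk (by rw [ncard_val, hB]) (St_qm.1 h2) hK]
      ext x; exact qm_smul_eq
  · obtain ⟨g, rfl⟩ := qm_surjective A g
    have hB' : (Subtype.val '' B).ncard = 4 := by rw [ncard_val, hB]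
    have s := M.bl_sub hB' (val_sub B)
    have mp := (M.lv hκ hH).maps h1
    rw [M.lv_bl hκ hH hB] at mp ⊢
    have := (F.hallK hκ hH hB').inv (by rw [F.card_bl hB', hk]) g
      (F.mem_N2 hB' fun x hx => mp ⟨x, s hx⟩ hx) fun x hx =>
        congrArg Subtype.val (invol_smul h2 (⟨x, s hx⟩ : FxS Ω A))
    rw [← ncard_pre (Set.inter_subset_left.trans s)] at this
    exact this.trans (Set.ncard_le_ncard fun x hx => ⟨hx.1, qm_smul_eq.2 hx.2⟩)

end Fr

namespace Mx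

variable {F : Fr G Ω} {A : Subgroup G} (hκ : 2 ∣ F.κ) (hH : HallThm G Ω)
include hκ hH

theorem bot7 (M : Mx F A) (hk : F.k = 7) : A = ⊥ := by
  by_contra hA
  obtain ⟨B0, hB0⟩ := (M.lv hκ hH).exists_B
  have hd : ¬ 3 ∣ F.κ := ((M.lv hκ hH).l7 hk hB0).three
  obtain ⟨c, d, h9, h4⟩ := (M.lv hκ hH).three_sq hk
  obtain ⟨E, e1, e2⟩ := exists_isPGroup_quo_eq Nat.prime_three h9.isPGroup
  have n : Nrm E A := nrm_of_le_N (e1.le.trans (coq_le_N _ _))
  have co : (Nat.card A).Coprime (Nat.card E) := by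
    haveI := Fact.mk Nat.prime_three
    obtain ⟨j, hj⟩ := e1.isPGroup.exists_card_eq
    rw [hj]
    exact (((Nat.Prime.coprime_iff_not_dvd Nat.prime_three).2
      fun e => hd (e.trans M.card_dvd)).symm).pow_right j
  have f := (quoEquiv n (inf_eq_bot_of_coprime' co.symm)).trans (MulEquiv.subgroupCongr e2)
  obtain ⟨a, a1, a2, a3⟩ := exists_inf_C1_ne_bot (A := E) (M := A) (ab_iff.2 fun x hx y hy =>
    congrArg Subtype.val (f.injective (a₁ := ⟨x, hx⟩ * ⟨y, hy⟩) (a₂ := ⟨y, hy⟩ * ⟨x, hx⟩) (by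
      rw [map_mul, map_mul]; exact Subtype.ext (h9.ab.comm (f _).2 (f _).2)))) (fun h => h9.not_cyclic (f.isCyclic.1 h)) n co hA
  have aN := n.le_N a1
  obtain ⟨B, b1, b2⟩ := exists_four (h4 (qm A ⟨a, aN⟩) (e2 ▸ mem_img_of_mem _ aN a1))
  have hB' : (Subtype.val '' B).ncard = 4 := by rw [ncard_val, b2]
  refine a3 ((eq_bot_iff_forall _).2 fun k hk => F.fpf hB' (St_qm.1 b1)
    (F.not_mem_of_prime Nat.prime_three hd hB' ?_) (M.le_K hB' (val_sub B) hk.1) (mem_C1.1 hk.2).symm)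
  haveI := Fact.mk Nat.prime_three
  obtain ⟨j, hj⟩ := e1.isPGroup.exists_orderOf_eq_pow ⟨a, a1⟩
  rw [orderOf_mk] at hj
  rcases j with _ | j
  · exact absurd (orderOf_eq_one_iff.1 hj) a2
  · exact hj ▸ dvd_pow_self 3 j.succ_ne_zero

theorem isoM23 (M : Mx F ⊥) (hk : F.k = 7) : Cfsg.Spor.IsoM23 G := by
  obtain ⟨B, hB⟩ := F.exists_B
  let L := M.lv0 hκ hH
  have l : L.L7 B := L.l7 hk hB
  have c7 : (F.bl B).ncard = 7 := hk ▸ F.card_bl hB
  obtain ⟨a, ha, b, hb, c, hc, ab, ac, bc, u, u1, u2, u3, u4⟩ := l.line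
  -- an element of order three
  obtain ⟨g, -, g1, g2, g3, g4⟩ := (F.hallK hκ hH hB).cyc c7 a ha b hb c hc ab ac bc
  have s3 : ({a, b, c} : Set Ω) ⊆ F.bl B := by rintro z (rfl | rfl | rfl) <;> assumption
  have c4 : (F.bl B \ {a, b, c}).ncard = 4 := by rw [Set.ncard_diff s3, c7, ncard_triple ab ac bc]
  obtain ⟨d1, d2⟩ := F.three_mul_dvd l.three c4 (h := g) (fun x hx => by
    have := hx.2
    simp only [Set.mem_insert_iff, Set.mem_singleton_iff, not_or] at this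
    exact g4 x hx.1 this.1 this.2.1 this.2.2) (three_dvd_orderOf ab ac g1 g2 g3)
  have d3 : F.κ ∣ 16 := by
    have := card_dvd_of_free (E := F.K B) (S := (F.bl B)ᶜ)
      (fun e he => maps_compl fun x hx => (F.fix he hx).symm ▸ hx) fun e he x hx h => L.eq_one hB he hx h
    have h2 := Set.ncard_add_ncard_compl (F.bl B)
    rw [c7, l.card] at h2
    rwa [F.card hB, show (F.bl B)ᶜ.ncard = 16 by omega] at this
  -- five involutions
  obtain ⟨x, hx⟩ := L.exists_out hB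
  have inv : ∀ e ∈ F.bl B \ {a, b}, ∃ v ∈ F.K B, v * v = 1 ∧ v ≠ 1 ∧ v • x ∈ F.bl {a, b, e, x} := by
    intro e he
    have he' := he.2
    simp only [Set.mem_insert_iff, Set.mem_singleton_iff, not_or] at he'
    obtain ⟨y, y1, y2⟩ := Set.exists_mem_notMem_of_ncard_lt_ncard (s := {a, b, c, e}) (t := F.bl B) (by
      have := Set.ncard_insert_le a {b, c, e}
      have := Set.ncard_insert_le b {c, e}
      have := Set.ncard_insert_le c {e}
      rw [Set.ncard_singleton] at this; omega)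
    simp only [Set.mem_insert_iff, Set.mem_singleton_iff, not_or] at y2
    obtain ⟨t, t0, t1, t2, t3, -⟩ := F.T4K hκ hH hB
      (⟨ab, ac, Ne.symm y2.1, bc, Ne.symm y2.2.1, Ne.symm y2.2.2.1⟩ : D4 a b c y)
      (⟨ab, Ne.symm he'.1, Ne.symm y2.1, Ne.symm he'.2, Ne.symm y2.2.1, Ne.symm y2.2.2.2⟩ : D4 a b e y)
      ha hb hc y1 ha hb he.1 y1
    have hx' : t⁻¹ • x ∉ F.bl B := maps_compl (F.maps (inv_mem t0)) x hx
    refine ⟨t * u * t⁻¹, conj_mem_of_mem_N t0 u1, by rw [conj_mul, u2]; group, conj_ne_one u3, ?_⟩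
    have D : D4 a b c (t⁻¹ • x) :=
      ⟨ab, ac, fun q => hx' (q ▸ ha), bc, fun q => hx' (q ▸ hb), fun q => hx' (q ▸ hc)⟩
    have := Set.mem_image_of_mem (t • ·) (u4 _ hx')
    rw [show L.bl = F.bl from rfl, ← F.bl_smul D.ncard] at this
    simpa [Set.image_insert_eq, t1, t2, t3, mul_smul] using this
  choose! v v1 v2 v3 v4 using inv
  have d4 : 5 ≤ F.κ := by
    have c5 : (F.bl B \ {a, b}).ncard = 5 := by
      rw [Set.ncard_diff (by rintro z (rfl | rfl) <;> assumption), c7, Set.ncard_pair ab]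
    rw [← c5, ← F.card hB, ← SetLike.coe_sort_coe, Nat.card_coe_set_eq]
    refine Set.ncard_le_ncard_of_injOn v v1 fun e he e' he' q => ?_
    have cf : L.Cf B (v e) x := ⟨hB, v1 e he, v2 e he, v3 e he, hx⟩
    have key : ∀ f ∈ F.bl B \ {a, b}, v f = v e → f ∈ L.bl {a, b, x, v e • x} := fun f hf q => by
      have hf' := hf.2
      simp only [Set.mem_insert_iff, Set.mem_singleton_iff, not_or] at hf'
      have D : D4 a b f x := ⟨ab, Ne.symm hf'.1, fun q => hx (q ▸ ha), Ne.symm hf'.2,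
        fun q => hx (q ▸ hb), fun q => hx (q ▸ hf.1)⟩
      have s := F.sub D.ncard
      rw [show L.bl = F.bl from rfl, F.bl_eq D.ncard (cf.d4 ha hb ab).ncard (by
        rintro z (rfl | rfl | rfl | rfl)
        exacts [s (by simp), s (by simp), s (by simp), q ▸ v4 f hf])]
      exact s (by simp)
    have he2 := he.2
    have he2' := he'.2
    simp only [Set.mem_insert_iff, Set.mem_singleton_iff, not_or] at he2 he2'
    rcases cf.ln_eq hk ha hb ab he.1 (key e he rfl) (Ne.symm he2.1) (Ne.symm he2.2) he'.1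
      (key e' he' q.symm) with r | r | r
    exacts [absurd r he2'.1, absurd r he2'.2, r.symm]
  have d5 : F.κ = 16 := by
    have : ∀ n, n ∣ 16 → 5 ≤ n → 3 ∣ n - 1 → n = 16 := fun n h1 h2 h3 => by
      have := Nat.le_of_dvd (by norm_num) h1
      interval_cases n <;> omega
    exact this _ d3 d4 d1
  refine m23 F.faith F.tr l.card {β | ∃ B : Set Ω, B.ncard = 4 ∧ β = F.bl B}
    (by rintro _ ⟨B, h, rfl⟩; rw [F.card_bl h, hk])
    (fun B h => ⟨F.bl B, ⟨⟨B, h, rfl⟩, F.sub h⟩, by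
      rintro _ ⟨⟨B', h', rfl⟩, h2⟩; exact (F.bl_eq h' h h2).symm⟩)
    (by rintro g _ ⟨B, h, rfl⟩; exact ⟨_, by rw [ncard_smul, h], (F.bl_smul h g).symm⟩) ?_
  have := Nat.le_of_dvd (card_pos _) d2
  rw [card_eq_St F.tr (by rw [l.card]; norm_num) c4, l.card]
  rw [d5] at this; omega

theorem isoA8 (M : Mx F ⊥) (hk : F.k = 4) : Nonempty (G ≃* alternatingGroup (Fin 8)) := by
  classical
  obtain ⟨B, hB⟩ := F.exists_B
  let L := M.lv0 hκ hH
  by_cases h8 : Nat.card Ω = 8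
  swap
  · exfalso
    obtain ⟨h, h1, h2⟩ := F.ne hB
    obtain ⟨x, hx⟩ := L.exists_out hB
    rw [L.bl4 hk hB] at hx
    obtain ⟨k, k1, k2⟩ := L.trans4 hk hB hx (maps_compl (fun z hz => (h1 z hz).symm ▸ hz) x hx)
    have := L.triv4 hk hH h8 (g := k⁻¹ * h) (by
      rw [show 5 = (insert x B).ncard by rw [Set.ncard_insert_of_notMem hx, hB]]
      exact Set.ncard_le_ncard (Set.insert_subset (by rw [mem_Fx, mul_smul, ← k2, inv_smul_smul])
        (mul_mem (inv_mem (F.le_St hB k1)) h1)))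
    exact h2 (inv_mul_eq_one.1 this ▸ k1)
  have κ4 : F.κ = 4 := by have := L.cardK4 hk hB; rw [show L.K = F.K from rfl, F.card hB] at this; omega
  obtain ⟨a, ha, b, hb, c, hc, d, -, hd⟩ := exists_D4_mem (F := Bᶜ) (by have := L.card_compl hk hB; omega)
  obtain ⟨g, g1, g2, g3, g4⟩ := L.cyc4 hk hH h8 hd.1 hd.2.1 hd.2.2.2.1
  have d2 := Nat.le_of_dvd (card_pos _) (F.three_mul_dvd (by omega) hB (h := g) (fun x hx =>
    g4 x (fun q => ha (q ▸ hx)) (fun q => hb (q ▸ hx)) fun q => hc (q ▸ hx))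
    (three_dvd_orderOf hd.1 hd.2.1 g1 g2 g3)).2
  have cG := card_eq_St F.tr (by omega) hB
  rw [h8] at cG
  let e : Ω ≃ Fin 8 := Finite.equivFinOfCardEq h8
  let f : G →* Equiv.Perm (Fin 8) := e.permCongrHom.toMonoidHom.comp (MulAction.toPermHom G Ω)
  have fa : ∀ g x, f g (e x) = e (g • x) := fun g x => by simp [f]
  have fi : Function.Injective f := (injective_iff_map_eq_one f).2 fun g hg => F.faith g fun x =>
    e.injective (by rw [← fa, hg]; rfl)
  have i1 := f.range.index_mul_card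
  rw [← Nat.card_congr (MonoidHom.ofInjective fi).toEquiv, Nat.card_perm, Nat.card_eq_fintype_card (α := Fin 8),
    Fintype.card_fin, show Nat.factorial 8 = 40320 from rfl] at i1
  have i2 : f.range.index ≠ 1 := fun q => by
    obtain ⟨t, ht⟩ : Equiv.swap (e a) (e b) ∈ f.range := index_eq_one.1 q ▸ mem_top _
    have t2 : t * t = 1 := fi (by rw [map_mul, ht, Equiv.swap_mul_self, map_one])
    have fx : ∀ x, x ≠ a → x ≠ b → t • x = x := fun x h1 h2 => e.injective (by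
      rw [← fa, ht, Equiv.swap_apply_of_ne_of_ne (e.injective.ne h1) (e.injective.ne h2)])
    have := L.eq_one hB (L.mem_invol hB t2 fun x hx => fx x (fun q => ha (q ▸ hx)) fun q => hb (q ▸ hx))
      (x := c) (by rwa [L.bl4 hk hB]) (fx c hd.2.1.symm hd.2.2.2.1.symm)
    rw [this, map_one] at ht
    exact e.injective.ne hd.1 (Equiv.swap_eq_one_iff.1 ht.symm)
  have i3 : f.range.index = 2 := by
    rcases hi : f.range.index with _ | _ | _ | n
    · rw [hi] at i1; omega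
    · exact absurd hi i2
    · rfl
    · rw [hi] at i1; nlinarith
  exact ⟨(MonoidHom.ofInjective fi).trans
    (MulEquiv.subgroupCongr (Equiv.Perm.eq_alternatingGroup_of_index_eq_two i3))⟩

end Mx

end CfsgH1.Q4
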