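import Cfsg.Agent.H1.Q4A4
import Cfsg.Agent.H1.Q4A5

set_option autoImplicit false
set_option linter.unusedSectionVars false

/-! Kernel of even order, trivial blocks: the kernels are semiregular. -/

namespace CfsgH1.Q4

open MulAction Subgroup CfsgH5 CfsgH6 CfsgFT

universe u

variable {G : Type u} {Ω : Type*} [Group G] [Finite G] [MulAction G Ω] [Finite Ω]

theorem card_dvd_six {E : Subgroup G} {T : Set Ω} (hT : T.ncard = 3) (h1 : ∀ e ∈ E, ∀ x ∈ T, e • x ∈ T)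
    (h2 : ∀ e ∈ E, (∀ x ∈ T, e • x = x) → e = 1) : Nat.card E ∣ 6 := by
  let f : E →* Equiv.Perm T := MonoidHom.toHomPerm
    { toFun := fun g x => ⟨(g : G) • (x : Ω), h1 g g.2 x x.2⟩
      map_one' := funext fun x => Subtype.ext (one_smul G x.1)
      map_mul' := fun a b => funext fun x => Subtype.ext (mul_smul (a : G) (b : G) x.1) }
  have := card_dvd_of_injective f ((injective_iff_map_eq_one f).2 fun g hg => Subtype.ext
    (h2 g g.2 fun x hx => congrArg Subtype.val (Equiv.congr_fun hg (⟨x, hx⟩ : T))))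
  rwa [Nat.card_perm, Nat.card_coe_set_eq, hT] at this

theorem cyc_of_three {g : G} (h3 : g ^ 3 = 1) {a : Ω} (ha : g • a ≠ a) :
    a ≠ g • a ∧ a ≠ g • g • a ∧ g • a ≠ g • g • a ∧ g • g • g • a = a := by
  have e : g • g • g • a = a := by rw [← mul_smul, ← mul_smul, ← pow_two, ← pow_succ, h3, one_smul]
  exact ⟨ha.symm, fun q => ha (by rw [← q] at e; exact e), fun q => ha (smul_left_cancel g q).symm, e⟩

namespace Mx

variable {F : Fr G Ω} {A : Subgroup G} (M : Mx F A) (hκ : 2 ∣ F.κ) (hk : F.k = 4)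
  {B : Set Ω} {g h t : G} {x y z a b c : Ω}
include M hκ hk

theorem card_diff3 (ha : a ∈ FxS Ω A) (hb : b ∈ FxS Ω A) (hc : c ∈ FxS Ω A) (h1 : a ≠ b) (h2 : a ≠ c)
    (h3 : b ≠ c) : (FxS Ω A \ {a, b, c}).ncard = 5 := by
  rw [Set.ncard_diff (by rintro z (rfl | rfl | rfl) <;> assumption), M.eight hκ hk, ncard_triple h1 h2 h3]

omit M hκ hk in
theorem sub_of_fix (h : ∀ x ∈ FxS Ω A, x ≠ a → x ≠ b → x ≠ c → g • x = x) :
    FxS Ω A \ {a, b, c} ⊆ Fx Ω g := fun x hx => by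
  have := hx.2
  simp only [Set.mem_insert_iff, Set.mem_singleton_iff, not_or] at this
  exact h x hx.1 this.1 this.2.1 this.2.2

/-- an element fixing five points and moving one lies outside the kernels -/
theorem exists_notK (h5 : 5 ≤ (FxS Ω A ∩ Fx Ω g).ncard) (hy : y ∈ FxS Ω A) (h : g • y ≠ y) :
    ∃ B ⊆ FxS Ω A, B.ncard = 4 ∧ g ∈ St G B ∧ g ∉ F.K B := by
  obtain ⟨B, b1, b2⟩ := exists_four (F := FxS Ω A ∩ Fx Ω g) (by omega)
  obtain ⟨x, x1, x2⟩ := Set.exists_mem_notMem_of_ncard_lt_ncard (s := B) (t := FxS Ω A ∩ Fx Ω g) (by omega)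
  exact ⟨B, b1.trans Set.inter_subset_left, b2, b1.trans Set.inter_subset_right, fun q =>
    h (hy g (M.mem_A4 hκ hk b2 (b1.trans Set.inter_subset_left) q ⟨x1.1, x2⟩ x1.2))⟩

theorem exists_abc : ∃ a ∈ FxS Ω A, ∃ b ∈ FxS Ω A, ∃ c ∈ FxS Ω A, ∃ d ∈ FxS Ω A, D4 a b c d :=
  exists_D4_mem (by rw [M.eight hκ hk]; omega)

theorem not3 : ¬ 3 ∣ F.κ := fun e => by
  obtain ⟨a, ha, b, hb, c, hc, d, -, D⟩ := M.exists_abc hκ hk
  obtain ⟨g, -, g1, g2, g3, g4⟩ := M.cyc4 hκ hk (M.eight hκ hk) ha hb hc D.1 D.2.1 D.2.2.2.1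
  obtain ⟨B, -, b2, b3, b4⟩ := M.exists_notK hκ hk (g := g) (M.card_diff3 hκ hk ha hb hc D.1 D.2.1 D.2.2.2.1 ▸
    Set.ncard_le_ncard (Set.subset_inter Set.diff_subset (sub_of_fix g4))) ha (g1 ▸ D.1.symm)
  exact absurd (Nat.eq_one_of_dvd_coprimes (F.cop b2 b3 b4) (three_dvd_orderOf D.1 D.2.1 g1 g2 g3) e)
    (by norm_num)

theorem lift_cyc (ha : a ∈ FxS Ω A) (hb : b ∈ FxS Ω A) (hc : c ∈ FxS Ω A) (h1 : a ≠ b) (hg : g ∈ N A)
    (g1 : g • a = b) (g2 : g • b = c) (g3 : g • c = a)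
    (g4 : ∀ x ∈ FxS Ω A, x ≠ a → x ≠ b → x ≠ c → g • x = x) : ∃ n : ℕ, orderOf (g ^ n) = 3 ∧
    ∀ x ∈ FxS Ω A, g ^ n • x = g • x := by
  obtain ⟨n, h1', u, h2, h3⟩ := M.lift3 (M.not3 hκ hk) (M.ker hκ (hall _ _) (pow_mem hg 3) fun x hx => by
    rw [mem_Fx, pow_succ, pow_two, mul_smul, mul_smul]
    by_cases xa : x = a
    · rw [xa, g1, g2, g3]
    by_cases xb : x = b
    · rw [xb, g2, g3, g1]
    by_cases xc : x = c
    · rw [xc, g3, g1, g2]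
    simp only [g4 x hx xa xb xc])
  have k : ∀ x ∈ FxS Ω A, g ^ n • x = g • x := fun x hx => by rw [h3, mul_smul, hx u h2]
  haveI := Fact.mk Nat.prime_three
  exact ⟨n, orderOf_eq_prime h1' fun q => h1 (by rw [← g1, ← k a ha, q, one_smul]), k⟩

theorem exists_c : ∃ c ∈ N A, orderOf c = 3 ∧ (Fx Ω c).ncard = 5 ∧ Fx Ω c ⊆ FxS Ω A := by
  obtain ⟨a, ha, b, hb, c, hc, d, hd, D⟩ := M.exists_abc hκ hk
  obtain ⟨g, g0, g1, g2, g3, g4⟩ := M.cyc4 hκ hk (M.eight hκ hk) ha hb hc D.1 D.2.1 D.2.2.2.1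
  obtain ⟨n, o3, e⟩ := M.lift_cyc hκ hk ha hb hc D.1 g0 g1 g2 g3 g4
  obtain ⟨p, p1, p2⟩ := M.exists_out D.ncard
  rw [F.bl4 hk D.ncard] at p2
  simp only [Set.mem_insert_iff, Set.mem_singleton_iff, not_or] at p2
  obtain ⟨s, sN, -, sa, sb, sc, -⟩ := M.T4p hκ hk p1 D
    (⟨D.1.symm, D.2.2.2.1, D.2.2.2.2.1, D.2.1, D.2.2.1, D.2.2.2.2.2⟩ : D4 b a c d)
    (by rintro x (rfl | rfl | rfl | rfl)
        exacts [⟨ha, Ne.symm p2.1⟩, ⟨hb, Ne.symm p2.2.1⟩, ⟨hc, Ne.symm p2.2.2.1⟩, ⟨hd, Ne.symm p2.2.2.2⟩])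
    (by rintro x (rfl | rfl | rfl | rfl)
        exacts [⟨hb, Ne.symm p2.2.1⟩, ⟨ha, Ne.symm p2.1⟩, ⟨hc, Ne.symm p2.2.2.1⟩, ⟨hd, Ne.symm p2.2.2.2⟩])
  have i : ∀ {s : G} {y z : Ω}, s • y = z → s⁻¹ • z = y := fun q => inv_smul_eq_iff.2 q.symm
  have tN := pow_mem g0 n
  have sub : FxS Ω A \ {a, b, c} ⊆ Fx Ω (g ^ n) := fun x hx => (e x hx.1).trans (sub_of_fix g4 hx)
  have le := M.real5 hκ (hall _ _) (M.not3 hκ hk) o3 tN sN (M.ker hκ (hall _ _)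
    (mul_mem (mul_mem (mul_mem sN tN) (inv_mem sN)) tN) fun x hx => by
      rw [mem_Fx, mul_smul, mul_smul, mul_smul]
      by_cases h : x ∈ ({a, b, c} : Set Ω)
      · rcases h with rfl | rfl | rfl
        · rw [e _ ha, g1, i sa, e _ ha, g1, sb]
        · rw [e _ hb, g2, i sc, e _ hc, g3, sa]
        · rw [e _ hc, g3, i sb, e _ hb, g2, sc]
      · rw [sub ⟨hx, h⟩, sub (maps_diff (inv_mem sN) (inv_mem (show s ∈ Stb G ({a, b, c} : Set Ω) by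
          rintro x (rfl | rfl | rfl) <;> simp [*])) x ⟨hx, h⟩), smul_inv_smul])
  have c5 := M.card_diff3 hκ hk ha hb hc D.1 D.2.1 D.2.2.2.1
  have := Set.eq_of_subset_of_ncard_le sub (by omega)
  exact ⟨_, tN, o3, this ▸ c5, this ▸ Set.diff_subset⟩

theorem Fx5 (h3 : orderOf g = 3) (h4 : 4 ≤ (Fx Ω g).ncard) : (Fx Ω g).ncard = 5 :=
  let ⟨_, _, c1, c2, _⟩ := M.exists_c hκ hk
  (F.same_Fx hκ Nat.prime_three (M.not3 hκ hk) h3 c1 h4 (by omega)).trans c2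

theorem cent_bot (h3 : orderOf g = 3) (h4 : 4 ≤ (FxS Ω A ∩ Fx Ω g).ncard) : A ⊓ C1 g = ⊥ := by
  obtain ⟨B, b1, b2⟩ := exists_four h4
  exact (eq_bot_iff_forall _).2 fun k hk' => F.fpf b2 (b1.trans Set.inter_subset_right)
    (F.not_mem_of_prime Nat.prime_three (M.not3 hκ hk) b2 h3.symm.dvd)
    (M.le_K b2 (b1.trans Set.inter_subset_left) hk'.1) (mem_C1.1 hk'.2).symm

theorem cent_bot' (h3 : orderOf g = 3) (h2 : (FxS Ω A ∩ Fx Ω g).ncard = 2) (h5 : (Fx Ω g).ncard = 5)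
    (ht : t ∈ N A) (t3 : orderOf t = 3) (hc : Commute t g) (h : A ⊓ C1 t = ⊥) : A ⊓ C1 g = ⊥ := by
  have c3 : (Fx Ω g \ FxS Ω A).ncard = 3 := by
    have := Set.ncard_inter_add_ncard_diff_eq_ncard (Fx Ω g) (FxS Ω A)
    rw [Set.inter_comm] at this; omega
  have d1 := card_dvd_six (E := A ⊓ C1 g) c3 (fun e he x hx => ⟨smul_mem_Fx (mem_C1.1 he.2) hx.1,
    maps_compl (fun y hy => (hy e he.1).symm ▸ hy) x hx.2⟩) fun e he hf => by
      obtain ⟨B, b1, b2⟩ := exists_four (F := Fx Ω g) (by omega)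
      exact F.fpf b2 b1 (F.not_mem_of_prime Nat.prime_three (M.not3 hκ hk) b2 h3.symm.dvd)
        ((F.mem b2).2 ⟨fun x hx => by
          by_cases q : x ∈ FxS Ω A
          exacts [q e he.1, hf x ⟨b1 hx, q⟩], M.pw e he.1⟩) (mem_C1.1 he.2).symm
  have d2 := SemiReg.card_dvd (K := A ⊓ C1 g) (E := zpowers t) (semiReg_of_prime_card
    (by rw [Nat.card_zpowers, t3]; exact Nat.prime_three) (by
      rw [C_zpowers, eq_bot_iff, ← h]; exact inf_le_inf_right _ inf_le_left))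
    ((nrm_zpowers_iff.2 ht).inf (nrm_C1 (zpowers_le.2 (mem_C1.2 hc))))
  rw [Nat.card_zpowers, t3] at d2
  have : ∀ n, n ∣ 6 → 3 ∣ n - 1 → n = 1 := fun n h1 h2 => by
    have := Nat.le_of_dvd (by norm_num) h1
    interval_cases n <;> omega
  exact card_eq_one_iff.1 (this _ d1 d2)

theorem dtype (hA : A ≠ ⊥) (hg : g ∈ N A) (h3 : orderOf g = 3) (h2 : (FxS Ω A ∩ Fx Ω g).ncard = 2) :
    (Fx Ω g).ncard ≤ 3 := by
  by_contra h4
  have h5 := M.Fx5 hκ hk h3 (by omega)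
  have h8 := M.eight hκ hk
  have g3 : g ^ 3 = 1 := h3 ▸ pow_orderOf_eq_one g
  have mp : ∀ x ∈ FxS Ω A, g • x ∈ FxS Ω A := fun x hx => smul_mem_FxS hg hx
  obtain ⟨u, v, uv, e⟩ := Set.ncard_eq_two.1 h2
  have hu : u ∈ FxS Ω A ∩ Fx Ω g := e ▸ by simp
  have hv : v ∈ FxS Ω A ∩ Fx Ω g := e ▸ by simp
  obtain ⟨a, ha, a1⟩ := Set.exists_mem_notMem_of_ncard_lt_ncard (s := FxS Ω A ∩ Fx Ω g) (t := FxS Ω A)
    (by omega)
  obtain ⟨ab, ac, bc, ca⟩ := cyc_of_three g3 (a := a) fun q => a1 ⟨ha, q⟩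
  have hb := mp a ha
  have hc := mp _ hb
  generalize e1 : g • a = b at ab ac bc ca hb hc
  generalize e2 : g • b = c at ac bc ca hc
  have gS : g ∈ Stb G ({a, b, c} : Set Ω) := by rintro x (rfl | rfl | rfl) <;> simp [*]
  have nf : ∀ {x}, x ∈ Fx Ω g → x ∉ ({a, b, c} : Set Ω) := by
    rintro x hx (rfl | rfl | rfl)
    exacts [ab (hx.symm.trans e1), bc (hx.symm.trans e2), ac (ca.symm.trans hx)]
  obtain ⟨t0, t0N, s1, s2, s3, s4⟩ := M.cyc4 hκ hk h8 ha hb hc ab ac bc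
  -- a lift commuting with `g`
  have : qm A ⟨t0, t0N⟩ ∈ quo A (N A ⊓ C1 g) := by
    rw [quo_inf_C1_of_coprime hg (by
      rw [h3]; exact ((Nat.Prime.coprime_iff_not_dvd Nat.prime_three).2 fun q =>
        M.not3 hκ hk (q.trans M.card_dvd)).symm) (le_N A)]
    refine ⟨mem_img_of_mem _ t0N t0N, mem_C1.2 ?_⟩
    rw [← map_mul, ← map_mul, qm_eq_iff]
    refine M.ker hκ (hall _ _) (mul_mem (inv_mem (mul_mem t0N hg)) (mul_mem hg t0N)) fun x hx => ?_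
    rw [mem_Fx, mul_smul, inv_smul_eq_iff]
    show (g * t0) • x = (t0 * g) • x
    rw [mul_smul, mul_smul]
    by_cases h : x ∈ ({a, b, c} : Set Ω)
    · rcases h with rfl | rfl | rfl <;> simp only [*]
    · rw [sub_of_fix s4 ⟨hx, h⟩, sub_of_fix s4 (maps_diff hg gS x ⟨hx, h⟩)]
  obtain ⟨t1, ⟨t1N, t1C⟩, _, q⟩ := mem_img'.1 this
  have e3 : ∀ x ∈ FxS Ω A, t1 • x = t0 • x := fun x hx =>
    congrArg (fun w : Quo A => ((w • (⟨x, hx⟩ : FxS Ω A) : FxS Ω A) : Ω)) q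
  obtain ⟨n, t3, e4⟩ := M.lift_cyc hκ hk ha hb hc ab t1N ((e3 a ha).trans s1) ((e3 b hb).trans s2)
    ((e3 c hc).trans s3) fun x hx h1 h2 h3 => (e3 x hx).trans (s4 x hx h1 h2 h3)
  have tN := pow_mem t1N n
  have tc : Commute (t1 ^ n) g := Commute.pow_left (mem_C1.1 t1C) n
  generalize t1 ^ n = t at t3 e4 tN tc
  have ta : t • a = b := (e4 a ha).trans ((e3 a ha).trans s1)
  have tb : t • b = c := (e4 b hb).trans ((e3 b hb).trans s2)
  have tc' : t • c = a := (e4 c hc).trans ((e3 c hc).trans s3)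
  have tx : FxS Ω A \ {a, b, c} ⊆ Fx Ω t := fun x hx =>
    (e4 x hx.1).trans ((e3 x hx.1).trans (sub_of_fix s4 hx))
  have c5 := M.card_diff3 hκ hk ha hb hc ab ac bc
  have h9 : Nine t g := ⟨t3, h3, tc, fun q => by
    have := Set.ncard_le_ncard (show FxS Ω A \ {a, b, c} ⊆ FxS Ω A ∩ Fx Ω g from fun x hx =>
      ⟨hx.1, (zpowers_le.2 (show t ∈ stabilizer G x from tx hx)) q⟩)
    omega⟩
  have z1 : A ⊓ C1 t = ⊥ := M.cent_bot hκ hk t3 (by
    have := Set.ncard_le_ncard (Set.subset_inter Set.diff_subset tx); omega)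
  have z2 := M.cent_bot' hκ hk h3 h2 h5 tN t3 tc z1
  haveI := Fact.mk Nat.prime_three
  have au : ∀ {x}, x ∈ Fx Ω g → a ≠ x ∧ b ≠ x ∧ c ≠ x := fun hx =>
    ⟨fun q => nf hx (q ▸ by simp), fun q => nf hx (q ▸ by simp), fun q => nf hx (q ▸ by simp)⟩
  have z3 : A ⊓ C1 (t ^ 2 * g) = ⊥ := M.cent_bot hκ hk (orderOf_eq_prime h9.ccd3 h9.ccd_ne)
    (D4.le_ncard (⟨ab, ac, (au hu.2).1, bc, (au hu.2).2.1, (au hu.2).2.2⟩ : D4 a b c u)
      ⟨ha, by simp only [mem_Fx, pow_two, mul_smul, e1, tb, tc']⟩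
      ⟨hb, by simp only [mem_Fx, pow_two, mul_smul, e2, ta, tc']⟩
      ⟨hc, by simp only [mem_Fx, pow_two, mul_smul, ca, ta, tb]⟩
      ⟨hu.1, by simp only [mem_Fx, pow_two, mul_smul, mem_Fx.1 hu.2, mem_Fx.1 (tx ⟨hu.1, nf hu.2⟩)]⟩)
  have sq : ∀ {w : G}, w ^ 3 = 1 → C1 (w ^ 2) ≤ C1 w := fun {w} h => by
    have := C1_le_C1_pow (w ^ 2) 2
    rwa [← pow_mul, show 2 * 2 = 3 + 1 from rfl, pow_succ w 3, h, one_mul] at this
  have le : A ≤ C1 (t * g) := le_of_cent1_le h9.ab h9.not_cyclic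
    (nrm_of_le_N (sup_le (zpowers_le.2 tN) (zpowers_le.2 hg))) (by
      rw [h9.card]; exact (((Nat.Prime.coprime_iff_not_dvd Nat.prime_three).2 fun q =>
        M.not3 hκ hk (q.trans M.card_dvd)).symm).pow_right 2) fun w hw w1 => by
    rcases h9.enum hw with q | ⟨r, hr, q⟩
    · exact absurd q w1
    have : A ⊓ C1 w ≤ A ⊓ C1 r := by
      rcases q with rfl | rfl
      · exact le_rfl
      · refine inf_le_inf_left _ (sq ?_)
        rcases hr with rfl | rfl | rfl | rfl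
        exacts [h9.c3, h9.d3, h9.cd3, h9.ccd3]
    refine this.trans ?_
    rcases hr with rfl | rfl | rfl | rfl
    exacts [z1 ▸ bot_le, z2 ▸ bot_le, inf_le_right, z3 ▸ bot_le]
  -- the other three-cycle
  obtain ⟨a', ha', a2⟩ := Set.exists_mem_notMem_of_ncard_lt_ncard (s := FxS Ω A ∩ Fx Ω g)
    (t := FxS Ω A \ {a, b, c}) (by omega)
  obtain ⟨ab', ac', bc', ca'⟩ := cyc_of_three g3 (a := a') fun q => a2 ⟨ha'.1, q⟩
  have hb' := maps_diff hg gS a' ha'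
  have hc' := maps_diff hg gS _ hb'
  generalize e1' : g • a' = b' at ab' ac' bc' ca' hb' hc'
  generalize e2' : g • b' = c' at ac' bc' ca' hc'
  have au' : ∀ {x}, x ∈ Fx Ω g → a' ≠ x ∧ b' ≠ x ∧ c' ≠ x := fun {x} hx =>
    ⟨fun q => ab' (by rw [← e1', q, hx]), fun q => bc' (by rw [← e2', q, hx]),
      fun q => ac' (by rw [← ca', q, hx])⟩
  obtain ⟨r, rN, r1, r2, r3, r4⟩ := M.cyc4 hκ hk h8 ha'.1 hu.1 hv.1 (au' hu.2).1 (au' hv.2).1 uv
  have i : ∀ {s : G} {y z : Ω}, s • y = z → s⁻¹ • z = y := fun q => inv_smul_eq_iff.2 q.symm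
  have na : ∀ {x}, x ∈ ({a, b, c} : Set Ω) → x ≠ a' := fun hx q => ha'.2 (q ▸ hx)
  have ra := r4 a ha (na (by simp)) (au hu.2).1 (au hv.2).1
  have rb := r4 b hb (na (by simp)) (au hu.2).2.1 (au hv.2).2.1
  have rc := r4 c hc (na (by simp)) (au hu.2).2.2 (au hv.2).2.2
  have rb' := r4 b' hb'.1 ab'.symm (au' hu.2).2.1 (au' hv.2).2.1
  have rc' := r4 c' hc'.1 ac'.symm (au' hu.2).2.2 (au' hv.2).2.2
  have da : (t * g) • a = c := by rw [mul_smul, e1, tb]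
  have db : (t * g) • b = a := by rw [mul_smul, e2, tc']
  have dc : (t * g) • c = b := by rw [mul_smul, ca, ta]
  have db' : (t * g) • b' = c' := by rw [mul_smul, e2', tx hc']
  have dc' : (t * g) • c' = a' := by rw [mul_smul, ca', tx ha']
  have du : (t * g) • u = u := by rw [mul_smul, hu.2, tx ⟨hu.1, nf hu.2⟩]
  have dv : (t * g) • v = v := by rw [mul_smul, hv.2, tx ⟨hv.1, nf hv.2⟩]
  have dC : t * g ∈ C A := le_C1_iff.1 le
  generalize t * g = d at da db dc db' dc' du dv dC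
  obtain ⟨B, b1, b2, b3, b4⟩ := M.exists_notK hκ hk (g := d * (r * d⁻¹ * r⁻¹)) (y := u) (by
    have := Set.ncard_le_ncard (show insert c' {a, b, c, v} ⊆ FxS Ω A ∩ Fx Ω (d * (r * d⁻¹ * r⁻¹)) by
      rintro x (rfl | rfl | rfl | rfl | rfl)
      · exact ⟨hc'.1, by simp only [mem_Fx, mul_smul, i rc', i db', rb', db']⟩
      · exact ⟨ha, by simp only [mem_Fx, mul_smul, i ra, i db, rb, db]⟩
      · exact ⟨hb, by simp only [mem_Fx, mul_smul, i rb, i dc, rc, dc]⟩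
      · exact ⟨hc, by simp only [mem_Fx, mul_smul, i rc, i da, ra, da]⟩
      · exact ⟨hv.1, by simp only [mem_Fx, mul_smul, i r2, i du, r2, dv]⟩)
    rwa [Set.ncard_insert_of_notMem (by
      rintro (q | q | q | q)
      exacts [hc'.2 (q ▸ by simp), hc'.2 (q ▸ by simp), hc'.2 (q ▸ by simp), (au' hv.2).2.2 q]),
      D4.ncard ⟨ab, ac, (au hv.2).1, bc, (au hv.2).2.1, (au hv.2).2.2⟩] at this) hu.1 (by
    simp only [mul_smul, i r1, i dc', rc', dc']; exact (au' hu.2).1)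
  exact hA ((eq_bot_iff_forall _).2 fun k hk' => F.fpf b2 b3 b4 (M.le_K b2 b1 hk')
    (mem_C.1 (mul_mem dC (nrm_N_C A r rN _ (inv_mem dC))) k hk').symm)

theorem bot4 : A = ⊥ := by
  by_contra hA
  obtain ⟨c, cN, c3, c5, cs⟩ := M.exists_c hκ hk
  have g3 : c ^ 3 = 1 := c3 ▸ pow_orderOf_eq_one c
  let P : Set Ω → Set (Set Ω) := fun B => {S | (∃ g, S = FxS Ω (cj g A)) ∧ B ⊆ S}
  have mv : ∀ (g : G) (B S : Set Ω), S ∈ P B → (g • ·) '' S ∈ P ((g • ·) '' B) := by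
    rintro g B _ ⟨⟨h, rfl⟩, hs⟩
    exact ⟨⟨g * h, by rw [← cj_cj, FxS_cj g]⟩, Set.image_mono hs⟩
  have le : ∀ B B' : Set Ω, B.ncard = 4 → B'.ncard = 4 → (P B).ncard ≤ (P B').ncard := fun B B' h h' => by
    obtain ⟨g, rfl⟩ := F.tr.map h h'
    exact Set.ncard_le_ncard_of_injOn _ (mv g B) (Set.image_injective.2 (MulAction.injective g)).injOn
  have md : ∀ B : Set Ω, (∀ x ∈ B, c • x ∈ B) → (P B).ncard ≡
      {S | S ∈ P B ∧ (c • ·) '' S = S}.ncard [MOD 3] := fun B h =>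
    ncard_modEq_fun Nat.prime_three 1 (fun S : Set Ω => (c • ·) '' S) (fun S hS => by
      have := mv c B S hS
      rwa [image_eq_of_maps h] at this) fun S _ => by
      show (c • ·) '' ((c • ·) '' ((c • ·) '' S)) = S
      simp only [Set.image_image, ← mul_smul]
      rw [← mul_assoc, ← pow_two, ← pow_succ, g3]; simp
  have fx : ∀ B S : Set Ω, S ∈ P B → (c • ·) '' S = S → S = FxS Ω A := by
    rintro B _ ⟨⟨g, rfl⟩, -⟩ e
    have M' := M.cjj g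
    have mp : ∀ x ∈ FxS Ω (cj g A), c • x ∈ FxS Ω (cj g A) := fun x hx => e ▸ Set.mem_image_of_mem _ hx
    have m := ncard_modEq1 Nat.prime_three mp g3
    have l := Set.ncard_le_ncard (Set.inter_subset_right (s := FxS Ω (cj g A)) (t := Fx Ω c))
    rw [M'.eight hκ hk] at m
    unfold Nat.ModEq at m
    by_cases h2 : (FxS Ω (cj g A) ∩ Fx Ω c).ncard = 2
    · have := M'.dtype hκ hk (fun q => hA (cj_inj.1 (q.trans (cj_bot g).symm))) (M'.mem_N mp) c3 h2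
      omega
    have e5 := Set.eq_of_subset_of_ncard_le (Set.inter_subset_right (s := FxS Ω (cj g A)) (t := Fx Ω c))
      (by omega)
    have s : Fx Ω c ⊆ FxS Ω (cj g A) := e5 ▸ Set.inter_subset_left
    obtain ⟨B, b1, b2⟩ := exists_four (F := Fx Ω c) (by omega)
    obtain ⟨x, x1, x2⟩ := Set.exists_mem_notMem_of_ncard_lt_ncard (s := B) (t := Fx Ω c) (by omega)
    rw [M.eq_of M' b2 (b1.trans cs) (b1.trans s) (cs x1) (s x1) (by rwa [F.bl4 hk b2])]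
  obtain ⟨B, b1, b2⟩ := exists_four (F := Fx Ω c) (by omega)
  obtain ⟨y, hy⟩ : ∃ y, y ∉ FxS Ω A := by
    by_contra! q
    exact hA ((eq_bot_iff_forall _).2 fun g hg => F.faith g fun x => q x g hg)
  obtain ⟨z, hz⟩ := Set.nonempty_of_ncard_ne_zero (s := Fx Ω c) (by omega)
  obtain ⟨y1, y2, y3, y4⟩ := cyc_of_three g3 (a := y) fun q => hy (cs q)
  have o := maps_compl fun x hx => smul_mem_FxS (Ω := Ω) cN hx
  have D : D4 y (c • y) (c • c • y) z := ⟨y1, y2, fun q => hy (q ▸ cs hz), y3,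
    fun q => o y hy (q ▸ cs hz), fun q => o _ (o y hy) (q ▸ cs hz)⟩
  have m1 := md B fun x hx => (b1 hx).symm ▸ hx
  have m2 := md {y, c • y, c • c • y, z} (by
    rintro x (rfl | rfl | rfl | rfl) <;> simp [y4, mem_Fx.1 hz])
  rw [show {S | S ∈ P B ∧ (c • ·) '' S = S} = {FxS Ω A} from subset_antisymm
    (fun S hS => fx B S hS.1 hS.2) (by
      rintro _ rfl
      exact ⟨⟨⟨1, by rw [cj_one]⟩, b1.trans cs⟩, image_eq_of_maps fun x hx => smul_mem_FxS cN hx⟩),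
    Set.ncard_singleton, le_antisymm (le _ _ b2 D.ncard) (le _ _ D.ncard b2)] at m1
  rw [show {S | S ∈ P {y, c • y, c • c • y, z} ∧ (c • ·) '' S = S} = ∅ from
    Set.eq_empty_of_forall_notMem fun S hS => hy (fx _ S hS.1 hS.2 ▸ hS.1.2 (by simp)),
    Set.ncard_empty] at m2
  exact absurd (m1.symm.trans m2) (by decide)

end Mx

theorem caseA (F : Fr G Ω) (hκ : 2 ∣ F.κ) :
    Nonempty (G ≃* alternatingGroup (Fin 8)) ∨ Cfsg.Spor.IsoM23 G := by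
  obtain ⟨A, M⟩ := F.exists_Mx
  obtain ⟨h5, h11, h6⟩ := F.k_ne hκ (hall _ _)
  rcases F.k_cases hκ (hall _ _) with h | h | h | h | h
  · obtain rfl := M.bot4 hκ h
    exact Or.inl (Mx.isoA8 hκ (hall _ _) M h)
  · exact absurd h h5
  · exact absurd h h6
  · obtain rfl := Mx.bot7 hκ (hall _ _) M h
    exact Or.inr (Mx.isoM23 hκ (hall _ _) M h)
  · exact absurd h h11

end CfsgH1.Q4
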