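import Cfsg.Agent.H1.Q4A6
import Cfsg.Agent.H9.Q4CB

set_option autoImplicit false
set_option linter.unusedSectionVars false

/-! Four-fold transitive groups whose four-point stabilizer is a Frobenius group. -/

namespace CfsgH1.Q4

open MulAction Subgroup CfsgH5 CfsgH6 CfsgFT

universe u

variable {G : Type u} {Ω : Type*} [Group G] [Finite G] [MulAction G Ω] [Finite Ω]

theorem Fr.exists_invol (F : Fr G Ω) : ∃ t : G, orderOf t = 2 ∧ 4 ≤ (Fx Ω t).ncard := by
  by_contra hn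
  have od : ∀ g : G, 4 ≤ (Fx Ω g).ncard → Odd (orderOf g) := fun g hg => Nat.not_even_iff_odd.1 fun e => by
    obtain ⟨t, t1, t2⟩ := exists_mem_orderOf_eq (X := zpowers g) Nat.prime_two
      (by rw [Nat.card_zpowers]; exact even_iff_two_dvd.1 e)
    exact hn ⟨t, t2, hg.trans (Set.ncard_le_ncard fun x hx =>
      (zpowers_le.2 (show g ∈ stabilizer G x from hx)) t1)⟩
  have H := hall G Ω ⊤ Set.univ (fun _ _ _ _ => trivial) F.tr (by rw [Set.ncard_univ]; exact F.four)
    fun g _ h => ⟨_, od g (by rwa [Set.univ_inter] at h), fun x _ => by rw [pow_orderOf_eq_one, one_smul]⟩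
  obtain ⟨B, hB⟩ := F.exists_B
  have h4 : ∀ g ∈ St G B, 4 ≤ (Fx Ω g).ncard := fun g hg => hB ▸ Set.ncard_le_ncard hg
  refine F.K_ne hB ((eq_bot_iff_forall _).2 fun g hg => F.faith g fun y => ?_)
  by_cases h7 : (Set.univ : Set Ω).ncard = 7
  · by_cases hy : y ∈ B
    · exact F.le_St hB hg y hy
    have c3 : Bᶜ.ncard = 3 := by
      have := Set.ncard_add_ncard_compl B
      rw [Set.ncard_univ] at h7; omega
    have mp : ∀ g ∈ St G B, ∀ x ∈ Bᶜ, g • x ∈ Bᶜ := fun g hg => maps_compl (St_le_Stb B hg)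
    obtain ⟨x, x1, c, c1, rfl⟩ := F.comm_eq hB hg
    exact comm_three c3 mp (fun g hg t ht h1 => fix_three c3 (mp g hg) (od g (h4 g hg))
      (fun x _ => by rw [pow_orderOf_eq_one, one_smul]) ht h1) (F.le_St hB x1) c1 y hy
  · exact H.triv h7 g trivial (by rw [Set.univ_inter]; exact h4 g (F.le_St hB hg)) y trivial

theorem main [FaithfulSMul G Ω] (h4 : IsMultiplyPretransitive G Ω 4) {a b c d : Ω} (D : D4 a b c d)
    {H : Subgroup ↥(stabilizer G a ⊓ stabilizer G b ⊓ stabilizer G c ⊓ stabilizer G d)}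
    (hH : Cfsg.IsFrobeniusComplement H) : Nonempty (G ≃* Equiv.Perm (Fin 7)) ∨
    Nonempty (G ≃* alternatingGroup (Fin 8)) ∨ Cfsg.Spor.IsoM23 G := by
  obtain ⟨K, hK⟩ := frobKer_of_compl hH
  rw [show stabilizer G a ⊓ stabilizer G b ⊓ stabilizer G c ⊓ stabilizer G d = St G ({a, b, c, d} : Set Ω)
    by ext g; simp [mem_St4, and_assoc]] at hK
  obtain ⟨F⟩ := exists_Fr (fun g hg => eq_of_smul_eq_smul (α := Ω) fun x => by rw [hg, one_smul])
    (T4_of_mult h4) D.ncard hK
  rcases Nat.even_or_odd F.κ with h | h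
  · exact Or.inr (caseA F (even_iff_two_dvd.1 h))
  · exact Or.inl (caseB F h F.exists_invol)

end CfsgH1.Q4
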