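import Cfsg.Agent.H1.Q4Def
import Cfsg.Agent.FT.Base11
import Cfsg.Agent.L.Char4
import Cfsg.Agent.H3.FrobBasic

set_option autoImplicit false
set_option linter.unusedSectionVars false

/-! Four-fold transitive groups with Frobenius four-point stabilizer: counting tools, Witt's lemma,
and the structure `Fr`. -/

namespace CfsgH1.Q4

open MulAction Subgroup CfsgH5 CfsgH6 CfsgFT

universe u

/-- fixed points of a map of `p`-power order on a finite set -/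
theorem ncard_modEq_fun {α : Type*} [Finite α] {p : ℕ} (hp : p.Prime) (n : ℕ) (f : α → α) {S : Set α}
    (hS : ∀ x ∈ S, f x ∈ S) (h : ∀ x ∈ S, f^[p ^ n] x = x) :
    S.ncard ≡ {x | x ∈ S ∧ f x = x}.ncard [MOD p] := by
  classical
  haveI := Fact.mk hp
  haveI := Fintype.ofFinite S
  let F : Function.End S := fun x => ⟨f x, hS _ x.2⟩
  have hF : ∀ m (x : S), ((F ^ m) x : α) = f^[m] x := fun m => by
    induction m with
    | zero => intro x; rfl
    | succ m ih => intro x; rw [pow_succ, Function.iterate_succ_apply]; exact ih (F x)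
  have h1 := Equiv.Perm.card_fixedPoints_modEq (f := F) (p := p) (n := n)
    (funext fun x => Subtype.ext ((hF _ x).trans (h _ x.2)))
  rw [← Nat.card_eq_fintype_card, ← Nat.card_eq_fintype_card, Nat.card_coe_set_eq,
    Nat.card_coe_set_eq] at h1
  have h2 : {x | x ∈ S ∧ f x = x} = Subtype.val '' F.fixedPoints := by
    ext x
    exact ⟨fun ⟨a, b⟩ => ⟨⟨x, a⟩, Subtype.ext b, rfl⟩, by
      rintro ⟨y, hy, rfl⟩; exact ⟨y.2, congrArg Subtype.val hy⟩⟩
  rwa [h2, Set.ncard_image_of_injective _ Subtype.val_injective]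

/-- a Steiner triple system has `3 ∣ v (v - 1)` -/
theorem three_dvd_sts {α : Type*} [Finite α] {S : Set α} (e : α → α → α)
    (h1 : ∀ a ∈ S, ∀ b ∈ S, a ≠ b → e a b ∈ S ∧ e a b ≠ a ∧ e a b ≠ b ∧ e b (e a b) = a) :
    3 ∣ S.ncard * (S.ncard - 1) := by
  have h := ncard_modEq_fun (α := α × α) Nat.prime_three 1 (fun x => (x.2, e x.1 x.2))
    (S := S.offDiag) (fun x hx => ⟨hx.2.1, (h1 _ hx.1 _ hx.2.1 hx.2.2).1,
      (h1 _ hx.1 _ hx.2.1 hx.2.2).2.2.1.symm⟩) (fun x hx => by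
      obtain ⟨a1, a2, a3, a4⟩ := h1 _ hx.1 _ hx.2.1 hx.2.2
      have a5 := (h1 _ hx.2.1 _ a1 a3.symm).2.2.2
      rw [a4] at a5
      simp [a4, a5])
  have h2 : {x : α × α | x ∈ S.offDiag ∧ (x.2, e x.1 x.2) = x} = ∅ :=
    Set.eq_empty_of_forall_notMem fun x hx => hx.1.2.2 (congrArg Prod.fst hx.2).symm
  rw [h2, Set.ncard_empty] at h
  have h3 : S.offDiag.ncard = S.ncard * (S.ncard - 1) := by
    classical
    obtain ⟨T, rfl⟩ := (Set.toFinite S).exists_finset_coe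
    rw [← Finset.coe_offDiag, Set.ncard_coe_finset, Set.ncard_coe_finset, Finset.offDiag_card,
      Nat.mul_sub_one]
  exact h3 ▸ (Nat.modEq_zero_iff_dvd.1 h)

variable {G : Type u} {Ω : Type*} [Group G] [Finite G] [MulAction G Ω] [Finite Ω]

theorem ncard_modEq {p : ℕ} (hp : p.Prime) (n : ℕ) {g : G} {S : Set Ω} (hS : ∀ x ∈ S, g • x ∈ S)
    (h : ∀ x ∈ S, g ^ p ^ n • x = x) : S.ncard ≡ (S ∩ Fx Ω g).ncard [MOD p] :=
  ncard_modEq_fun hp n (g • ·) hS fun x hx => by rw [smul_iterate]; exact h x hx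

theorem ncard_modEq1 {p : ℕ} (hp : p.Prime) {g : G} {S : Set Ω} (hS : ∀ x ∈ S, g • x ∈ S)
    (h : g ^ p = 1) : S.ncard ≡ (S ∩ Fx Ω g).ncard [MOD p] :=
  ncard_modEq hp 1 hS fun x _ => by rw [pow_one, h, one_smul]

theorem card_modEq {p : ℕ} (hp : p.Prime) {g : G} (h : g ^ p = 1) :
    Nat.card Ω ≡ (Fx Ω g).ncard [MOD p] := by
  have := ncard_modEq1 (Ω := Ω) hp (S := Set.univ) (fun _ _ => trivial) h
  rwa [Set.ncard_univ, Set.univ_inter] at this

/-- a `p`-element fixes a point of an invariant set of size prime to `p` -/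
theorem exists_fixed {p : ℕ} (hp : p.Prime) (n : ℕ) {g : G} {S : Set Ω} (hS : ∀ x ∈ S, g • x ∈ S)
    (h : ∀ x ∈ S, g ^ p ^ n • x = x) (hd : ¬ p ∣ S.ncard) : ∃ x ∈ S, g • x = x := by
  by_contra H
  have h1 := ncard_modEq hp n hS h
  rw [Set.eq_empty_of_forall_notMem (s := S ∩ Fx Ω g) fun x hx => H ⟨x, hx.1, hx.2⟩,
    Set.ncard_empty] at h1
  exact hd (Nat.modEq_zero_iff_dvd.1 h1)

/-- conjugation version -/
theorem ncard_modEq_conj {p : ℕ} (hp : p.Prime) (n : ℕ) {g : G} {S : Set G}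
    (hS : ∀ x ∈ S, g * x * g⁻¹ ∈ S) (h : ∀ x ∈ S, Commute (g ^ p ^ n) x) :
    S.ncard ≡ {x | x ∈ S ∧ Commute g x}.ncard [MOD p] := by
  have h1 := ncard_modEq_fun hp n (fun x => g * x * g⁻¹) hS fun x hx => by
    have : ∀ m, (fun x => g * x * g⁻¹)^[m] x = g ^ m * x * (g ^ m)⁻¹ := fun m => by
      induction m with
      | zero => simp
      | succ m ih => rw [Function.iterate_succ_apply', ih, pow_succ']; group
    rw [this, (h x hx).eq, mul_inv_cancel_right]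
  simpa only [mul_inv_eq_iff_eq_mul, Commute, SemiconjBy] using h1

theorem exists_commute {p : ℕ} (hp : p.Prime) (n : ℕ) {g : G} {S : Set G}
    (hS : ∀ x ∈ S, g * x * g⁻¹ ∈ S) (h : ∀ x ∈ S, Commute (g ^ p ^ n) x) (hd : ¬ p ∣ S.ncard) :
    ∃ x ∈ S, Commute g x := by
  by_contra H
  have h1 := ncard_modEq_conj hp n hS h
  rw [Set.eq_empty_of_forall_notMem (s := {x | x ∈ S ∧ Commute g x}) fun x hx => H ⟨x, hx.1, hx.2⟩,
    Set.ncard_empty] at h1
  exact hd (Nat.modEq_zero_iff_dvd.1 h1)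

/-- a subgroup acting freely on a set -/
theorem card_dvd_of_free {E : Subgroup G} {S : Set Ω} (h1 : ∀ e ∈ E, ∀ x ∈ S, e • x ∈ S)
    (h2 : ∀ e ∈ E, ∀ x ∈ S, e • x = x → e = 1) : Nat.card E ∣ S.ncard := by
  letI : MulAction E S :=
    { smul := fun e a => ⟨(e : G) • (a : Ω), h1 _ e.2 _ a.2⟩
      one_smul := fun a => Subtype.ext (one_smul G (a : Ω))
      mul_smul := fun e f a => Subtype.ext (mul_smul (e : G) (f : G) (a : Ω)) }
  have := Nat.card_congr (MulAction.selfEquivOrbitsQuotientProd (G := E) (X := S) fun a => by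
    rw [eq_bot_iff]
    intro e he
    exact mem_bot.mpr (Subtype.ext (h2 _ e.2 _ a.2 (congrArg Subtype.val he))))
  rw [Nat.card_prod, Nat.card_coe_set_eq] at this
  exact this ▸ dvd_mul_left _ _

/-- a free action of a group as large as the set is transitive -/
theorem trans_of_free {E : Subgroup G} {S : Set Ω} (h1 : ∀ e ∈ E, ∀ x ∈ S, e • x ∈ S)
    (h2 : ∀ e ∈ E, ∀ x ∈ S, e • x = x → e = 1) (h : S.ncard ≤ Nat.card E) {x y : Ω} (hx : x ∈ S)
    (hy : y ∈ S) : ∃ e ∈ E, e • x = y := by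
  have h3 : (fun e : G => e • x) '' (E : Set G) = S :=
    Set.eq_of_subset_of_ncard_le (by rintro _ ⟨e, he, rfl⟩; exact h1 e he x hx) (by
      rw [Set.InjOn.ncard_image fun a ha b hb e => by
        have := h2 (a⁻¹ * b) (E.mul_mem (E.inv_mem ha) hb) x hx (by
          rw [mul_smul, inv_smul_eq_iff]; exact e.symm)
        exact inv_mul_eq_one.1 this]
      exact h)
  obtain ⟨e, he, rfl⟩ := h3 ▸ hy
  exact ⟨e, he, rfl⟩

theorem image_eq_of_maps {g : G} {S : Set Ω} (hS : ∀ x ∈ S, g • x ∈ S) : (g • ·) '' S = S :=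
  Set.eq_of_subset_of_ncard_le (by rintro _ ⟨x, hx, rfl⟩; exact hS x hx) (ncard_smul g S).ge

theorem inv_maps {g : G} {S : Set Ω} (hS : ∀ x ∈ S, g • x ∈ S) : ∀ x ∈ S, g⁻¹ • x ∈ S := fun x hx => by
  obtain ⟨y, hy, rfl⟩ := (image_eq_of_maps hS).symm ▸ hx
  simpa using hy

theorem maps_compl {g : G} {S : Set Ω} (hS : ∀ x ∈ S, g • x ∈ S) : ∀ x, x ∉ S → g • x ∉ S :=
  fun x hx h => hx (by simpa using inv_maps hS _ h)

theorem smul_mem_FxS {U : Subgroup G} {g : G} (hg : g ∈ N U) {x : Ω} (hx : x ∈ FxS Ω U) :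
    g • x ∈ FxS Ω U := fun u hu => by
  have := hx _ (conj_mem_of_mem_N (inv_mem hg) hu)
  rw [inv_inv, mul_smul, mul_smul, inv_smul_eq_iff] at this
  exact this

theorem FxS_cj (g : G) (U : Subgroup G) : FxS Ω (cj g U) = (g • ·) '' FxS Ω U := by
  ext y
  obtain ⟨y, rfl⟩ := MulAction.surjective g y
  rw [(MulAction.injective g).mem_set_image]
  exact ⟨fun H u hu => smul_mem_Fx_conj.1 (H _ (mem_cj'.2 ⟨u, hu, rfl⟩)), fun H u hu => by
    obtain ⟨v, hv, rfl⟩ := mem_cj'.1 hu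
    exact smul_mem_Fx_conj.2 (H _ hv)⟩

theorem FxS_zpowers (g : G) : FxS Ω (zpowers g) = Fx Ω g :=
  Set.ext fun x => ⟨fun h => h g (mem_zpowers g), fun h _ hu =>
    (zpowers_le (H := stabilizer G x)).2 h hu⟩

theorem cj_St (g : G) (B : Set Ω) : cj g (St G B) = St G ((g • ·) '' B) := by
  ext x
  rw [mem_cj, ← conj_mem_St (h := g)]
  simp [mul_assoc]

theorem T4.map {B B' : Set Ω} (h4 : T4 (⊤ : Subgroup G) (Set.univ : Set Ω)) (hB : B.ncard = 4)
    (hB' : B'.ncard = 4) : ∃ g : G, (g • ·) '' B = B' := by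
  obtain ⟨a, b, c, d, h, rfl⟩ := exists_D4 hB
  obtain ⟨a', b', c', d', h', rfl⟩ := exists_D4 hB'
  obtain ⟨g, -, h1, h2, h3, h5⟩ := h4 h h' trivial trivial trivial trivial trivial trivial trivial trivial
  exact ⟨g, by simp [Set.image_insert_eq, h1, h2, h3, h5]⟩

/-- **Witt's lemma.** -/
theorem witt (h4 : T4 (⊤ : Subgroup G) (Set.univ : Set Ω)) (U : Subgroup G)
    (hU : ∀ B ⊆ FxS Ω U, B.ncard = 4 → ∀ g : G, cj g U ≤ St G B → ∃ h ∈ St G B, cj h (cj g U) = U) :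
    T4 (N U) (FxS Ω U) := by
  intro a b c d a' b' c' d' h h' ha hb hc hd ha' hb' hc' hd'
  obtain ⟨g, -, h1, h2, h3, h5⟩ := h4 h h' trivial trivial trivial trivial trivial trivial trivial trivial
  obtain ⟨k, hk, e⟩ := hU {a', b', c', d'} (by rintro x (rfl | rfl | rfl | rfl) <;> assumption) h'.ncard g
    (le_St_iff.2 (by
      rw [FxS_cj]
      rintro x (rfl | rfl | rfl | rfl)
      exacts [⟨a, ha, h1⟩, ⟨b, hb, h2⟩, ⟨c, hc, h3⟩, ⟨d, hd, h5⟩]))
  obtain ⟨k1, k2, k3, k4⟩ := mem_St4.1 hk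
  exact ⟨k * g, mem_N.2 (by rw [← cj_cj, e]), by rw [mul_smul, h1, k1], by rw [mul_smul, h2, k2],
    by rw [mul_smul, h3, k3], by rw [mul_smul, h5, k4]⟩

theorem T4_of_mult (h4 : IsMultiplyPretransitive G Ω 4) : T4 (⊤ : Subgroup G) (Set.univ : Set Ω) := by
  have k : ∀ {a b c d : Ω}, D4 a b c d → Function.Injective ![a, b, c, d] := fun {a b c d} h => by
    obtain ⟨h1, h2, h3, h4, h5, h6⟩ := h
    intro i j e
    fin_cases i <;> fin_cases j <;> simp_all [eq_comm]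
  intro a b c d a' b' c' d' h h' _ _ _ _ _ _ _ _
  obtain ⟨g, hg⟩ := isMultiplyPretransitive_iff.1 h4 ⟨_, k h⟩ ⟨_, k h'⟩
  have e := fun i => congrArg (fun f : Fin 4 ↪ Ω => f i) hg
  exact ⟨g, trivial, e 0, e 1, e 2, e 3⟩

theorem exists_Fr (hf : ∀ g : G, (∀ x : Ω, g • x = x) → g = 1)
    (h4 : T4 (⊤ : Subgroup G) (Set.univ : Set Ω)) {B0 : Set Ω} (h0 : B0.ncard = 4) {K0 : Subgroup G}
    (hK : FrobKer K0 (St G B0)) : Nonempty (Fr G Ω) := by
  have k : ∀ B : Set Ω, ∃ K : Subgroup G, B.ncard = 4 → FrobKer K (St G B) ∧ Nat.card K = Nat.card K0 :=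
    fun B => by
      by_cases hB : B.ncard = 4
      · obtain ⟨g, rfl⟩ := h4.map h0 hB
        exact ⟨cj g K0, fun _ => ⟨cj_St g B0 ▸ hK.cjj g, card_cj _ _⟩⟩
      · exact ⟨⊥, fun h => absurd h hB⟩
  choose K hK' using k
  have cop : ∀ {B : Set Ω}, B.ncard = 4 → ∀ {h : G}, h ∈ St G B → h ∉ K B →
      (orderOf h).Coprime (Nat.card K0) := fun {B} hB h h1 h2 => by
    obtain ⟨⟨E, hE⟩, e⟩ := hK' B hB
    obtain ⟨k, -, h3⟩ := (hE.mem_or h1).resolve_left h2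
    exact (e ▸ hE.coprime).symm.coprime_dvd_left (card_cj k E ▸ orderOf_dvd_card' h3)
  exact ⟨{
    κ := Nat.card K0, K := K, pos := card_ne_zero _, faith := hf, tr := h4
    mem := fun {B} hB g => ⟨fun h => ⟨(hK' B hB).1.le h, orderOf_dvd_iff_pow_eq_one.1
        ((hK' B hB).2 ▸ orderOf_dvd_card' h)⟩, fun ⟨h1, h2⟩ => by
      by_contra h3
      have := Nat.Coprime.eq_one_of_dvd (cop hB h1 h3) (orderOf_dvd_iff_pow_eq_one.2 h2)
      exact h3 (orderOf_eq_one_iff.1 this ▸ one_mem _)⟩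
    nilp := fun {B} hB => (hK' B hB).1.nilpotent
    cen := fun {B} hB k h h1 h2 h3 h5 => (hK' B hB).1.inf_C1_le h1 h2 ⟨h3, mem_C1.2 h5.eq⟩
    cop := cop
    four := h0 ▸ Set.ncard_univ Ω ▸ Set.ncard_le_ncard (Set.subset_univ _)
    card := fun {B} hB => (hK' B hB).2
    one_lt := one_lt_card.2 hK.ne_bot
    ne := fun {B} hB => SetLike.exists_of_lt (hK' B hB).1.lt }⟩

theorem frobKer_of_compl {M : Subgroup G} {H : Subgroup M} (hH : Cfsg.IsFrobeniusComplement H) :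
    ∃ K, FrobKer K M := by
  obtain ⟨K, h1, h2, h3⟩ := CfsgL.frobenius_theorem hH
  refine ⟨K.map M.subtype, frobKer_iff.2 ⟨fun e => hH.2.1 ?_, lt_of_le_of_ne (map_subtype_le _) fun e => hH.1 ?_,
    ?_, ?_⟩⟩
  · rw [map_eq_bot_iff_of_injective _ M.subtype_injective] at e
    exact isComplement'_bot_left.1 (e ▸ h3)
  · obtain rfl : K = ⊤ := eq_top_iff.2 fun x _ => by
      obtain ⟨y, hy, e'⟩ := e.ge x.2
      exact Subtype.ext e' ▸ hy
    exact isComplement'_top_left.1 h3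
  · rintro a ha _ ⟨x, hx, rfl⟩
    exact ⟨_, h2.conj_mem x hx ⟨a, ha⟩, rfl⟩
  · rintro _ ⟨x, hx, rfl⟩ hne y ⟨y1, y2⟩
    by_contra h
    exact hne (congrArg Subtype.val (CfsgH3.eq_one_of_commute_frobeniusKernel hH (x := ⟨y, y1⟩)
      (fun h' => h ⟨⟨y, y1⟩, show _ ∈ (K : Set M) from h1 ▸ h', rfl⟩) (h1 ▸ hx) (Subtype.ext (mem_C1.1 y2))))

end CfsgH1.Q4
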