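import Mathlib

set_option autoImplicit false
set_option linter.unusedSectionVars false

/-! Four-fold transitive groups whose four-point stabilizer is a Frobenius group: definitions. -/

namespace CfsgH1.Q4

open MulAction Subgroup

section
variable {Ω : Type*}

/-- four distinct points -/
def D4 (a b c d : Ω) : Prop := a ≠ b ∧ a ≠ c ∧ a ≠ d ∧ b ≠ c ∧ b ≠ d ∧ c ≠ d

theorem D4.ncard {a b c d : Ω} (h : D4 a b c d) : ({a, b, c, d} : Set Ω).ncard = 4 := by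
  obtain ⟨h1, h2, h3, h4, h5, h6⟩ := h
  rw [Set.ncard_insert_of_notMem (by simp [h1, h2, h3]), Set.ncard_insert_of_notMem (by simp [h4, h5]),
    Set.ncard_pair h6]

theorem D4.le_ncard [Finite Ω] {a b c d : Ω} (h : D4 a b c d) {F : Set Ω} (ha : a ∈ F) (hb : b ∈ F)
    (hc : c ∈ F) (hd : d ∈ F) : 4 ≤ F.ncard :=
  h.ncard ▸ Set.ncard_le_ncard (by rintro x (rfl | rfl | rfl | rfl) <;> assumption)

theorem exists_D4 {B : Set Ω} (h : B.ncard = 4) : ∃ a b c d, D4 a b c d ∧ B = {a, b, c, d} := by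
  obtain ⟨a, b, c, d, h1, h2, h3, h4, h5, h6, h7⟩ := Set.ncard_eq_four.1 h
  exact ⟨a, b, c, d, ⟨h1, h2, h3, h4, h5, h6⟩, h7⟩

theorem exists_four {F : Set Ω} (h : 4 ≤ F.ncard) : ∃ B ⊆ F, B.ncard = 4 :=
  Set.exists_subset_card_eq h

theorem exists_D4_mem {F : Set Ω} (h : 4 ≤ F.ncard) :
    ∃ a ∈ F, ∃ b ∈ F, ∃ c ∈ F, ∃ d ∈ F, D4 a b c d := by
  obtain ⟨B, h1, h2⟩ := exists_four h
  obtain ⟨a, b, c, d, h3, rfl⟩ := exists_D4 h2
  exact ⟨a, h1 (by simp), b, h1 (by simp), c, h1 (by simp), d, h1 (by simp), h3⟩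

end

variable {G Ω : Type*} [Group G] [MulAction G Ω]

/-- pointwise stabilizer of a set -/
def St (G : Type*) {Ω : Type*} [Group G] [MulAction G Ω] (B : Set Ω) : Subgroup G where
  carrier := {g | ∀ x ∈ B, g • x = x}
  one_mem' := fun x _ => one_smul G x
  mul_mem' := fun {a b} ha hb x hx => by rw [mul_smul, hb x hx, ha x hx]
  inv_mem' := fun {a} ha x hx => by rw [inv_smul_eq_iff, ha x hx]

theorem mem_St {B : Set Ω} {g : G} : g ∈ St G B ↔ ∀ x ∈ B, g • x = x := Iff.rfl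

theorem mem_St4 {a b c d : Ω} {g : G} :
    g ∈ St G ({a, b, c, d} : Set Ω) ↔ g • a = a ∧ g • b = b ∧ g • c = c ∧ g • d = d := by
  simp [mem_St]

theorem St_mono {B B' : Set Ω} (h : B ⊆ B') : St G B' ≤ St G B := fun _ hg x hx => hg x (h hx)

/-- fixed points of an element -/
def Fx (Ω : Type*) {G : Type*} [Group G] [MulAction G Ω] (g : G) : Set Ω := {x | g • x = x}

/-- fixed points of a subgroup -/
def FxS (Ω : Type*) {G : Type*} [Group G] [MulAction G Ω] (U : Subgroup G) : Set Ω :=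
  {x | ∀ g ∈ U, g • x = x}

theorem mem_Fx {g : G} {x : Ω} : x ∈ Fx Ω g ↔ g • x = x := Iff.rfl

theorem mem_FxS {U : Subgroup G} {x : Ω} : x ∈ FxS Ω U ↔ ∀ g ∈ U, g • x = x := Iff.rfl

theorem mem_St_iff {B : Set Ω} {g : G} : g ∈ St G B ↔ B ⊆ Fx Ω g := Iff.rfl

theorem le_St_iff {B : Set Ω} {U : Subgroup G} : U ≤ St G B ↔ B ⊆ FxS Ω U :=
  ⟨fun h x hx _ hg => h hg x hx, fun h g hg _ hx => h hx g hg⟩

theorem smul_mem_Fx {g h : G} (hc : Commute h g) {x : Ω} (hx : x ∈ Fx Ω g) : h • x ∈ Fx Ω g := by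
  rw [mem_Fx, ← mul_smul, ← hc.eq, mul_smul, mem_Fx.1 hx]

theorem smul_mem_Fx_conj {g h : G} {x : Ω} : h • x ∈ Fx Ω (h * g * h⁻¹) ↔ x ∈ Fx Ω g := by
  simp [mem_Fx, mul_smul]

theorem Fx_conj (g h : G) : Fx Ω (h * g * h⁻¹) = (h • ·) '' Fx Ω g := by
  ext y
  obtain ⟨y, rfl⟩ := MulAction.surjective h y
  exact smul_mem_Fx_conj.trans (MulAction.injective h).mem_set_image.symm

theorem ncard_smul (h : G) (B : Set Ω) : ((h • ·) '' B).ncard = B.ncard :=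
  Set.ncard_image_of_injective _ (MulAction.injective h)

theorem ncard_Fx_conj (g h : G) : (Fx Ω (h * g * h⁻¹)).ncard = (Fx Ω g).ncard := by
  rw [Fx_conj, ncard_smul]

theorem Fx_inv (g : G) : Fx Ω g⁻¹ = Fx Ω g := by
  ext x; rw [mem_Fx, mem_Fx, inv_smul_eq_iff, eq_comm]

theorem Fx_le_pow (g : G) (n : ℕ) : Fx Ω g ⊆ Fx Ω (g ^ n) :=
  (St G (Fx Ω g)).pow_mem (fun _ h => h) n

theorem conj_mem_St {B : Set Ω} {g h : G} : h * g * h⁻¹ ∈ St G ((h • ·) '' B) ↔ g ∈ St G B := by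
  simp [mem_St, mul_smul]

/-- `N` is four-fold transitive on `F`. -/
def T4 (N : Subgroup G) (F : Set Ω) : Prop :=
  ∀ ⦃a b c d a' b' c' d' : Ω⦄, D4 a b c d → D4 a' b' c' d' → a ∈ F → b ∈ F → c ∈ F → d ∈ F →
    a' ∈ F → b' ∈ F → c' ∈ F → d' ∈ F → ∃ g ∈ N, g • a = a' ∧ g • b = b' ∧ g • c = c' ∧ g • d = d'

/-- The conclusions of M. Hall's theorem for `N` acting on `F`. -/
structure HallC (N : Subgroup G) (F : Set Ω) : Prop where
  card : F.ncard = 4 ∨ F.ncard = 5 ∨ F.ncard = 6 ∨ F.ncard = 7 ∨ F.ncard = 11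
  triv : F.ncard ≠ 7 → ∀ g ∈ N, 4 ≤ (F ∩ Fx Ω g).ncard → ∀ x ∈ F, g • x = x
  cyc : F.ncard = 7 → ∀ a ∈ F, ∀ b ∈ F, ∀ c ∈ F, a ≠ b → a ≠ c → b ≠ c →
    ∃ g ∈ N, g • a = b ∧ g • b = c ∧ g • c = a ∧ ∀ x ∈ F, x ≠ a → x ≠ b → x ≠ c → g • x = x
  inv : 6 ≤ F.ncard → ∀ g ∈ N, (∀ x ∈ F, g • g • x = x) → 2 ≤ (F ∩ Fx Ω g).ncard
  idx : 6 ≤ F.ncard → ∀ N0 : Subgroup G, (∀ g ∈ N, (∀ x ∈ F, g • x = x) → g ∈ N0) → N0.relIndex N ≠ 2

/-- The statement of M. Hall's theorem (relative form). -/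
def HallThm (G Ω : Type*) [Group G] [MulAction G Ω] : Prop :=
  ∀ (N : Subgroup G) (F : Set Ω), (∀ g ∈ N, ∀ x ∈ F, g • x ∈ F) → T4 N F → 4 ≤ F.ncard →
    (∀ g ∈ N, 4 ≤ (F ∩ Fx Ω g).ncard → ∃ m, Odd m ∧ ∀ x ∈ F, g ^ m • x = x) → HallC N F

/-- Local structure of the four-point stabilizers: `K B` is a nilpotent normal Hall subgroup of the
pointwise stabilizer of the `4`-set `B`, containing the centralizers of its non-identity elements. -/
structure Loc (G Ω : Type*) [Group G] [MulAction G Ω] where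
  κ : ℕ
  K : Set Ω → Subgroup G
  pos : κ ≠ 0
  faith : ∀ g : G, (∀ x : Ω, g • x = x) → g = 1
  mem : ∀ {B : Set Ω}, B.ncard = 4 → ∀ {g : G}, g ∈ K B ↔ g ∈ St G B ∧ g ^ κ = 1
  nilp : ∀ {B : Set Ω}, B.ncard = 4 → Group.IsNilpotent (K B)
  cen : ∀ {B : Set Ω}, B.ncard = 4 → ∀ {k h : G}, k ∈ K B → k ≠ 1 → h ∈ St G B → Commute h k → h ∈ K B
  cop : ∀ {B : Set Ω}, B.ncard = 4 → ∀ {h : G}, h ∈ St G B → h ∉ K B → (orderOf h).Coprime κ

/-- A four-fold transitive group whose four-point stabilizers are Frobenius groups with kernels `K B`. -/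
structure Fr (G Ω : Type*) [Group G] [MulAction G Ω] extends Loc G Ω where
  tr : T4 (⊤ : Subgroup G) (Set.univ : Set Ω)
  four : 4 ≤ Nat.card Ω
  card : ∀ {B : Set Ω}, B.ncard = 4 → Nat.card (K B) = κ
  one_lt : 1 < κ
  ne : ∀ {B : Set Ω}, B.ncard = 4 → ∃ h ∈ St G B, h ∉ K B

/-- A level: the kernels have even order and are semiregular outside their blocks of size `k`. -/
structure Lv (G Ω : Type*) [Group G] [MulAction G Ω] extends Loc G Ω where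
  k : ℕ
  inv : ∀ {B : Set Ω}, B.ncard = 4 → ∃ u ∈ K B, orderOf u = 2
  semi : ∀ {B : Set Ω}, B.ncard = 4 → ∀ {g : G}, g ∈ K B → g ≠ 1 → Fx Ω g = FxS Ω (K B)
  blk : ∀ {B : Set Ω}, B.ncard = 4 → (FxS Ω (K B)).ncard = k
  four : 4 ≤ k
  lt : k < Nat.card Ω
  r5 : ∀ {g g' w : G}, ¬ 3 ∣ κ → orderOf g = 3 → orderOf g' = 3 → 4 ≤ (Fx Ω g').ncard →
    w * g' * w⁻¹ = g'⁻¹ → (Fx Ω g).ncard ≤ 5

namespace Loc

variable (L : Loc G Ω) {B B' : Set Ω} {g h k : G}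

theorem le_St (hB : B.ncard = 4) : L.K B ≤ St G B := fun _ h => ((L.mem hB).1 h).1

theorem pow (hB : B.ncard = 4) (h : g ∈ L.K B) : g ^ L.κ = 1 := ((L.mem hB).1 h).2

theorem sub_blk (hB : B.ncard = 4) : B ⊆ FxS Ω (L.K B) := le_St_iff.1 (L.le_St hB)

theorem conj_mem (hB : B.ncard = 4) : h * g * h⁻¹ ∈ L.K ((h • ·) '' B) ↔ g ∈ L.K B := by
  rw [L.mem (by rw [ncard_smul, hB]), L.mem hB, conj_mem_St, conj_pow, mul_inv_eq_one, mul_eq_left]

theorem conj_mem_of (hB : B.ncard = 4) (hh : (h • ·) '' B = B) (hg : g ∈ L.K B) :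
    h * g * h⁻¹ ∈ L.K B := by
  have := (L.conj_mem (h := h) hB).2 hg
  rwa [hh] at this

theorem conj_mem_St (hB : B.ncard = 4) (hh : h ∈ St G B) (hg : g ∈ L.K B) : h * g * h⁻¹ ∈ L.K B :=
  L.conj_mem_of hB (by
    ext y; constructor
    · rintro ⟨x, hx, rfl⟩; simpa [hh x hx] using hx
    · exact fun hy => ⟨y, hy, hh y hy⟩) hg

/-- an element of the kernel type lies in the kernel of every `4`-set it fixes -/
theorem mem_of (hB : B.ncard = 4) (hB' : B'.ncard = 4) (hg : g ∈ L.K B) (h : B' ⊆ Fx Ω g) : g ∈ L.K B' :=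
  (L.mem hB').2 ⟨h, L.pow hB hg⟩

theorem le_of_sub (hB : B.ncard = 4) (hB' : B'.ncard = 4) (h : B' ⊆ FxS Ω (L.K B)) : L.K B ≤ L.K B' :=
  fun g hg => L.mem_of hB hB' hg fun _ hx => h hx g hg

/-- elements of the stabilizer outside the kernel act without fixed points on the kernel -/
theorem fpf (hB : B.ncard = 4) (hh : h ∈ St G B) (hn : h ∉ L.K B) (hk : k ∈ L.K B) (hc : Commute h k) :
    k = 1 := by
  by_contra e
  exact hn (L.cen hB hk e hh hc)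

theorem smul_blk (hB : B.ncard = 4) (h : G) :
    FxS Ω (L.K ((h • ·) '' B)) = (h • ·) '' FxS Ω (L.K B) := by
  ext y
  obtain ⟨y, rfl⟩ := MulAction.surjective h y
  rw [(MulAction.injective h).mem_set_image]
  constructor
  · intro H g hg
    exact smul_mem_Fx_conj.1 (H _ ((L.conj_mem hB).2 hg))
  · intro H g hg
    have e : g = h * (h⁻¹ * g * h) * h⁻¹ := by group
    rw [e] at hg ⊢
    exact smul_mem_Fx_conj.2 (H _ ((L.conj_mem hB).1 hg))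

end Loc

end CfsgH1.Q4
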