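import Mathlib

set_option autoImplicit false

open scoped commutatorElement

namespace CfsgQ

variable {G : Type*} [Group G]

/-- the subgroup generated by the quotients `x⁻¹ y` of elements of `S` -/
def Dl (S : Set G) : Subgroup G := Subgroup.closure {g | ∃ x ∈ S, ∃ y ∈ S, g = x⁻¹ * y}

/-- the derived group of `Dl S` -/
def ZZ (S : Set G) : Subgroup G := ⁅Dl S, Dl S⁆

/-- normaliser of a set -/
abbrev NS (S : Set G) : Subgroup G := Subgroup.normalizer S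

/-- the induction class -/
structure C2 (p r : ℕ) (K : Set G) : Prop where
  hp : p.Prime
  hp2 : p ≠ 2
  hr : r.Prime
  hpr : p ≠ r
  conj : ∀ x ∈ K, ∀ g : G, g * x * g⁻¹ ∈ K
  ord : ∀ x ∈ K, x ^ p = 1
  pair : ∀ x ∈ K, ∀ y ∈ K, ∃ F : Subgroup G, IsPGroup r F ∧ x ∈ NS (F : Set G) ∧ x⁻¹ * y ∈ F
  sq : ∀ x ∈ K, ∀ y ∈ K, Commute x ((x⁻¹ * y) ^ r)
  heis : ∀ x ∈ K, ∀ P : Subgroup G, IsPGroup r P → x ∈ NS (P : Set G) →
    ∀ g ∈ ⁅P, Subgroup.zpowers x⁆, ∀ h ∈ ⁅P, Subgroup.zpowers x⁆, Commute x ⁅g, h⁆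

/-- minimal counterexample -/
structure MC (p r : ℕ) (K : Set G) : Prop extends C2 p r K where
  gen : Subgroup.closure K = ⊤
  flat : ∀ H : Subgroup G, H ≠ ⊤ → IsPGroup r (Dl (K ∩ (H : Set G)))
  bad : ¬ IsPGroup r (Dl K)
  nor : ∀ N : Subgroup G, N.Normal → IsPGroup r N → N = ⊥
  cen : ∀ g : G, (∀ x ∈ K, Commute g x) → g = 1

/-- blocks -/
def IsBlk (r : ℕ) (K U : Set G) : Prop := ∃ P : Sylow r G, U = K ∩ NS ((P : Subgroup G) : Set G)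

/-- the block calculus in a minimal counterexample -/
structure BK (p r : ℕ) (K : Set G) : Prop extends MC p r K where
  eq_of_comm : ∀ x ∈ K, ∀ y ∈ K, Commute x y → x = y
  conj_of : ∀ x ∈ K, ∀ y ∈ K, ∀ B : Subgroup G, IsPGroup r B → x ∈ NS (B : Set G) → x⁻¹ * y ∈ B →
    ∃ f ∈ B, y = f * x * f⁻¹
  ex_blk : ∀ x ∈ K, ∀ B : Subgroup G, IsPGroup r B → x ∈ NS (B : Set G) →
    ∃ U, IsBlk r K U ∧ x ∈ U ∧ B ≤ NS U ∧ ∀ y ∈ K, x⁻¹ * y ∈ B → y ∈ U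
  pair_blk : ∀ x ∈ K, ∀ y ∈ K, ∃ U, IsBlk r K U ∧ x ∈ U ∧ y ∈ U
  fl : ∀ H : Subgroup G, H ≠ ⊤ → ∀ x ∈ K, x ∈ H → ∀ B : Subgroup G, IsPGroup r B → B ≤ H →
    x ∈ NS (B : Set G) → ∃ U, IsBlk r K U ∧ B ≤ NS U ∧ K ∩ (H : Set G) ⊆ U
  sub : ∀ U, IsBlk r K U → U ⊆ K
  ne : ∀ U, IsBlk r K U → ∃ x ∈ K, x ∉ U
  nonempty : ∀ U, IsBlk r K U → ∃ x, x ∈ U
  eq_of_sub : ∀ U U', IsBlk r K U → IsBlk r K U' → U ⊆ U' → U = U'
  blk_conj : ∀ U, IsBlk r K U → ∀ g : G, IsBlk r K ((fun x => g * x * g⁻¹) '' U)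
  cl_ne : ∀ U, IsBlk r K U → Subgroup.closure U ≠ ⊤
  mem_of_cl : ∀ U, IsBlk r K U → ∀ y ∈ K, y ∈ Subgroup.closure U → y ∈ U
  pg : ∀ U, IsBlk r K U → IsPGroup r (Dl U)
  cl_le : ∀ U, IsBlk r K U → Subgroup.closure U ≤ NS U
  ex_conj : ∀ U, IsBlk r K U → ∀ x ∈ U, ∀ y ∈ U, ∃ f ∈ Dl U, y = f * x * f⁻¹
  Z_comm : ∀ U, IsBlk r K U → ∀ e ∈ ZZ U, ∀ g ∈ Subgroup.closure U, Commute e g
  cent_Z : ∀ U, IsBlk r K U → ∀ x ∈ U, ∀ g ∈ Dl U, Commute g x → g ∈ ZZ U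
  pow_Z : ∀ U, IsBlk r K U → ∀ g ∈ Dl U, g ^ r ∈ ZZ U
  ti : ∀ U, IsBlk r K U → ∀ e ∈ ZZ U, e ≠ 1 → ∀ y ∈ K, Commute e y → y ∈ U
  mem_N : ∀ U, IsBlk r K U → ∀ e ∈ ZZ U, e ≠ 1 → ∀ g : G, g * e * g⁻¹ ∈ ZZ U → g ∈ NS U
  Z_inf : ∀ U U', IsBlk r K U → IsBlk r K U' → ∀ e ∈ ZZ U, e ∈ ZZ U' → e ≠ 1 → U = U'
  Z_ne : ∀ U, IsBlk r K U → ∃ e ∈ ZZ U, e ≠ 1
  no_sub : ∀ N Q : Subgroup G, N.Normal → Q ≤ N → IsPGroup r Q → N ≤ NS (Q : Set G) → Q = ⊥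

/-- no adjacency -/
def NA (r : ℕ) (K : Set G) : Prop :=
  ∀ U U1, IsBlk r K U → IsBlk r K U1 → ∀ a ∈ U, a ∈ U1 → ∀ e ∈ ZZ U, e ≠ 1 → e ∈ NS U1 → U = U1

theorem mem_Dl {S : Set G} {x y : G} (hx : x ∈ S) (hy : y ∈ S) : x⁻¹ * y ∈ Dl S :=
  Subgroup.subset_closure ⟨x, hx, y, hy, rfl⟩

theorem Dl_mono {S T : Set G} (h : S ⊆ T) : Dl S ≤ Dl T :=
  Subgroup.closure_mono fun _ ⟨x, hx, y, hy, e⟩ => ⟨x, h hx, y, h hy, e⟩

theorem Dl_le_cl (S : Set G) : Dl S ≤ Subgroup.closure S := by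
  rw [Dl, Subgroup.closure_le]
  rintro _ ⟨x, hx, y, hy, rfl⟩
  exact Subgroup.mul_mem _ (Subgroup.inv_mem _ (Subgroup.subset_closure hx))
    (Subgroup.subset_closure hy)

theorem Dl_le {S : Set G} {H : Subgroup G} (h : ∀ x ∈ S, ∀ y ∈ S, x⁻¹ * y ∈ H) : Dl S ≤ H := by
  rw [Dl, Subgroup.closure_le]
  rintro _ ⟨x, hx, y, hy, rfl⟩
  exact h x hx y hy

theorem ZZ_le (S : Set G) : ZZ S ≤ Dl S := by
  rw [ZZ, Subgroup.commutator_le]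
  intro g hg h hh
  rw [commutatorElement_def]
  exact Subgroup.mul_mem _ (Subgroup.mul_mem _ (Subgroup.mul_mem _ hg hh) (Subgroup.inv_mem _ hg))
    (Subgroup.inv_mem _ hh)

theorem comm_mem_ZZ {S : Set G} {g h : G} (hg : g ∈ Dl S) (hh : h ∈ Dl S) : ⁅g, h⁆ ∈ ZZ S :=
  Subgroup.commutator_mem_commutator hg hh

theorem mem_NS {S : Set G} {g : G} : g ∈ NS S ↔ ∀ n, n ∈ S ↔ g * n * g⁻¹ ∈ S :=
  Subgroup.mem_set_normalizer_iff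

theorem conj_mem_Dl {S : Set G} {g : G} (hg : ∀ x ∈ S, g * x * g⁻¹ ∈ S) {d : G} (hd : d ∈ Dl S) :
    g * d * g⁻¹ ∈ Dl S := by
  induction hd using Subgroup.closure_induction with
  | mem d hd =>
    obtain ⟨x, hx, y, hy, rfl⟩ := hd
    have := mem_Dl (hg x hx) (hg y hy)
    convert this using 1; group
  | one => simp
  | mul a b _ _ ha hb =>
    have := Subgroup.mul_mem _ ha hb
    convert this using 1; group
  | inv a _ ha =>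
    have := Subgroup.inv_mem _ ha
    convert this using 1; group

theorem NS_le_NS_Dl (S : Set G) : NS S ≤ NS (Dl S : Set G) := by
  intro g hg
  rw [mem_NS]
  intro n
  constructor
  · exact conj_mem_Dl fun x hx => (mem_NS.1 hg x).1 hx
  · intro hn
    have := conj_mem_Dl (g := g⁻¹) (fun x hx => (mem_NS.1 (Subgroup.inv_mem _ hg) x).1 hx) hn
    simpa [mul_assoc] using this

theorem conj_mem_ZZ {S : Set G} {g : G} (hg : g ∈ NS S) {d : G} (hd : d ∈ ZZ S) :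
    g * d * g⁻¹ ∈ ZZ S := by
  have h1 := NS_le_NS_Dl S hg
  rw [ZZ, Subgroup.commutator_def] at hd
  induction hd using Subgroup.closure_induction with
  | mem d hd =>
    obtain ⟨x, hx, y, hy, rfl⟩ := hd
    have := comm_mem_ZZ ((mem_NS.1 h1 x).1 hx) ((mem_NS.1 h1 y).1 hy)
    convert this using 1
    simp only [commutatorElement_def]; group
  | one => simp
  | mul a b _ _ ha hb =>
    have := Subgroup.mul_mem _ ha hb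
    convert this using 1; group
  | inv a _ ha =>
    have := Subgroup.inv_mem _ ha
    convert this using 1; group

end CfsgQ
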