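import Mathlib

/-!
Quadratic forms over finite fields of characteristic two: Gauss sums and uniqueness of the form
of minus type.
-/

set_option autoImplicit false

namespace CfsgH1

open QuadraticMap Module

universe u v

variable {F : Type*} [Field F]

section
variable {V V' : Type*} [AddCommGroup V] [Module F V] [AddCommGroup V'] [Module F V']

/-- the polar form is nondegenerate -/
def Nd (Q : QuadraticForm F V) : Prop := ∀ x, (∀ y, polar Q x y = 0) → x = 0

theorem polar_iso {Q : QuadraticForm F V} {Q' : QuadraticForm F V'} {g : V → V'}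
    (ha : ∀ x y, g (x + y) = g x + g y) (h : ∀ x, Q' (g x) = Q x) (x y : V) :
    polar Q' (g x) (g y) = polar Q x y := by
  simp only [polar, ← ha, h]

theorem Nd.of_equiv {Q : QuadraticForm F V} {Q' : QuadraticForm F V'} (e : Q.Equivalent Q')
    (h : Nd Q) : Nd Q' := fun x hx => by
  obtain ⟨e⟩ := e
  have := h (e.symm x) fun y => by
    rw [← polar_iso (g := e) (map_add e) e.map_app, e.apply_symm_apply, hx]
  rw [← e.apply_symm_apply x, this, map_zero]

theorem nd_prod_iff {Q : QuadraticForm F V} {Q' : QuadraticForm F V'} :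
    Nd (Q.prod Q') ↔ Nd Q ∧ Nd Q' :=
  ⟨fun h => ⟨fun x hx => congrArg Prod.fst (h (x, 0) fun y => by simp [hx]),
    fun x hx => congrArg Prod.snd (h (0, x) fun y => by simp [hx])⟩,
    fun h x hx => Prod.ext (h.1 _ fun y => by simpa using hx (y, 0))
      (h.2 _ fun y => by simpa using hx (0, y))⟩

theorem Nd.exists_one {Q : QuadraticForm F V} (h : Nd Q) {x : V} (hx : x ≠ 0) :
    ∃ y, polar Q x y = 1 := by
  obtain ⟨y, hy⟩ := not_forall.1 (mt (h x) hx)
  exact ⟨(polar Q x y)⁻¹ • y, by simp [hy]⟩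

theorem Nd.nondegenerate {Q : QuadraticForm F V} (h : Nd Q) :
    LinearMap.BilinForm.Nondegenerate Q.polarBilin :=
  ⟨h, fun x hx => h x fun y => (polar_comm _ _ _).trans (hx y)⟩

theorem polar_self_two [CharP F 2] (Q : QuadraticForm F V) (x : V) : polar Q x x = 0 := by
  rw [polar_self, two_smul, CharTwo.add_self_eq_zero]

/-- binary quadratic forms -/
def qbin (a b c : F) : QuadraticForm F (F × F) :=
  a • linMulLin (.fst F F F) (.fst F F F) + b • linMulLin (.fst F F F) (.snd F F F) +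
    c • linMulLin (.snd F F F) (.snd F F F)

@[simp] theorem qbin_apply (a b c : F) (x : F × F) :
    qbin a b c x = a * x.1 ^ 2 + b * x.1 * x.2 + c * x.2 ^ 2 := by
  simp [qbin]; ring

theorem polar_qbin [CharP F 2] (a b c : F) (x y : F × F) :
    polar (qbin a b c) x y = b * (x.1 * y.2 + x.2 * y.1) := by
  simp only [polar, qbin_apply, Prod.fst_add, Prod.snd_add]
  linear_combination (a * x.1 * y.1 + c * x.2 * y.2) * CharTwo.two_eq_zero (R := F)

theorem nd_qbin [CharP F 2] (a : F) {b : F} (hb : b ≠ 0) (c : F) : Nd (qbin a b c) := fun x hx =>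
  Prod.ext (by simpa [polar_qbin, hb] using hx (0, 1)) (by simpa [polar_qbin, hb] using hx (1, 0))

/-- Gauss sums -/
noncomputable def gs (ψ : AddChar F ℤ) {X : Type*} (Q : X → F) : ℤ := ∑ᶠ x, ψ (Q x)

theorem gs_eq (ψ : AddChar F ℤ) {X : Type*} [Fintype X] (Q : X → F) : gs ψ Q = ∑ x, ψ (Q x) :=
  finsum_eq_sum_of_fintype _

theorem gs_equiv (ψ : AddChar F ℤ) {X Y : Type*} (e : X ≃ Y) {Q : X → F} {Q' : Y → F}
    (h : ∀ x, Q' (e x) = Q x) : gs ψ Q = gs ψ Q' := by
  simp only [gs, ← h]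
  exact finsum_comp_equiv e (f := fun y => ψ (Q' y))

theorem gs_of_equiv (ψ : AddChar F ℤ) {Q : QuadraticForm F V} {Q' : QuadraticForm F V'}
    (e : Q.Equivalent Q') : gs ψ Q = gs ψ Q' :=
  e.elim fun e => gs_equiv ψ e.toLinearEquiv.toEquiv e.map_app

theorem gs_prod (ψ : AddChar F ℤ) [Finite V] [Finite V'] (Q : QuadraticForm F V)
    (Q' : QuadraticForm F V') : gs ψ (Q.prod Q') = gs ψ Q * gs ψ Q' := by
  cases nonempty_fintype V
  cases nonempty_fintype V'
  simp [gs_eq, Fintype.sum_prod_type, AddChar.map_add_eq_mul, Finset.sum_mul_sum]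

theorem gs_hyp [Fintype F] {ψ : AddChar F ℤ} (hψ : ψ ≠ 1) :
    gs ψ (qbin (0 : F) 1 0) = Fintype.card F := by
  classical
  simp [gs_eq, Fintype.sum_prod_type_right, AddChar.sum_mulShift _ (AddChar.IsPrimitive.of_ne_one hψ)]

theorem gs_neg [Fintype F] [CharP F 2] {ψ : AddChar F ℤ} (hψ : ψ ≠ 1) [Finite V] {Q : V → F}
    (h : ∀ (c : F) v, Q (c • v) = c ^ 2 * Q v) (ha : ∀ v, Q v = 0 → v = 0)
    (hc : Fintype.card F < Nat.card V) : gs ψ Q < 0 := by
  classical
  cases nonempty_fintype V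
  have h1 : ∀ c : F, ∑ v, ψ (c ^ 2 * Q v) = gs ψ Q + if c = 0 then Fintype.card V - gs ψ Q else 0 :=
    fun c => by
    split_ifs with e
    · simp [e]
    · rw [add_zero, gs_eq]
      exact Fintype.sum_equiv (MulAction.toPerm (Units.mk0 c e)) _ _ fun v => by rw [← h]; rfl
  have h2 : ∀ v, ∑ c : F, ψ (c ^ 2 * Q v) = if v = 0 then (Fintype.card F : ℤ) else 0 := fun v => by
    have := AddChar.sum_mulShift (Q v) (AddChar.IsPrimitive.of_ne_one hψ)
    rw [← (frobeniusEquiv F 2).toEquiv.sum_comp] at this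
    have e : Q v = 0 ↔ v = 0 := ⟨ha v, fun e => by simpa [e] using h 0 v⟩
    simpa [frobenius_def, e] using this
  have := Finset.sum_comm (s := Finset.univ) (t := Finset.univ) (f := fun (c : F) v => ψ (c ^ 2 * Q v))
  simp only [h1, h2, Finset.sum_add_distrib, Finset.sum_ite_eq', Finset.mem_univ, if_true,
    Finset.sum_const, Finset.card_univ, nsmul_eq_mul] at this
  rw [Nat.card_eq_fintype_card] at hc
  have : (1 : ℤ) < Fintype.card F := by exact_mod_cast Fintype.one_lt_card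
  nlinarith [(Nat.cast_lt (α := ℤ)).2 hc]

theorem exists_addChar (F : Type*) [Field F] [CharP F 2] : ∃ ψ : AddChar F ℤ, ψ ≠ 1 := by
  letI := ZMod.algebra F 2
  obtain ⟨f, hf⟩ := Projective.exists_dual_eq_one (ZMod 2) (one_ne_zero (α := F))
  refine ⟨(AddChar.zmodChar 2 (neg_one_sq (R := ℤ))).compAddMonoidHom f.toAddMonoidHom, fun e => ?_⟩
  have := DFunLike.congr_fun e 1
  simp [hf, AddChar.zmodChar_apply, ZMod.val_one] at this

theorem exists_split [CharP F 2] {Q : QuadraticForm F V} (h : Nd Q) {x : V} (hx : x ≠ 0)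
    (h0 : Q x = 0) : ∃ W : Submodule F V, ((qbin 0 1 0).prod (Q.restrict W)).Equivalent Q := by
  obtain ⟨y, h1, h2⟩ : ∃ y, polar Q x y = 1 ∧ Q y = 0 := by
    obtain ⟨y, hy⟩ := h.exists_one hx
    exact ⟨y + -Q y • x, by simp [hy, h0], by
      simp [QuadraticMap.map_add Q, QuadraticMap.map_smul, h0, polar_comm _ y, hy]⟩
  let W := LinearMap.ker (Q.polarBilin x) ⊓ LinearMap.ker (Q.polarBilin y)
  let f : (F × F) × W →ₗ[F] V := ((LinearMap.toSpanSingleton F V x).coprod
    (LinearMap.toSpanSingleton F V y)).coprod W.subtype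
  have hf : ∀ p, f p = p.1.1 • x + p.1.2 • y + p.2 := fun _ => rfl
  have w1 : ∀ w : W, polar Q x w = 0 := fun w => w.2.1
  have w2 : ∀ w : W, polar Q y w = 0 := fun w => w.2.2
  have h3 : polar Q y x = 1 := by rw [polar_comm, h1]
  refine ⟨W, ⟨⟨LinearEquiv.ofBijective f ⟨(injective_iff_map_eq_zero _).2 fun p hp => ?_, fun v => ?_⟩,
    fun p => ?_⟩⟩⟩
  · have e1 := congrArg (polar Q x) hp
    have e2 := congrArg (polar Q y) hp
    simp [hf, w1, w2, h0, h1, h2, h3] at e1 e2
    exact Prod.ext (Prod.ext e2 e1) (by simpa [hf, e1, e2] using hp)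
  · exact ⟨((polar Q y v, polar Q x v), ⟨v - polar Q y v • x - polar Q x v • y,
      by simp [W, h0, h1, h2, h3]⟩), by simp [hf]⟩
  · change Q (f p) = _
    simp [hf, QuadraticMap.map_add Q, QuadraticMap.map_smul, h0, h1, h2, w1, w2, mul_comm]

theorem exists_singular [Finite F] [CharP F 2] [FiniteDimensional F V] (Q : QuadraticForm F V)
    (h : 2 < finrank F V) : ∃ x, x ≠ 0 ∧ Q x = 0 := by
  haveI := nontrivial_of_finrank_pos (R := F) (M := V) (by omega)
  obtain ⟨u, hu⟩ := exists_ne (0 : V)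
  obtain ⟨w, h1, h2⟩ : ∃ w ∈ LinearMap.ker (Q.polarBilin u), w ∉ F ∙ u := by
    by_contra! c
    have := Submodule.finrank_mono (show _ ≤ F ∙ u from c)
    have h3 := (Q.polarBilin u).finrank_range_add_finrank_ker
    have h4 := (LinearMap.range (Q.polarBilin u)).finrank_le
    rw [finrank_span_singleton hu] at this
    rw [finrank_self] at h4
    omega
  obtain ⟨a, ha⟩ := (frobeniusEquiv F 2).surjective (Q w)
  obtain ⟨b, hb⟩ := (frobeniusEquiv F 2).surjective (Q u)
  rw [frobeniusEquiv_def] at ha hb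
  by_cases b0 : b = 0
  · exact ⟨u, hu, by simp [← hb, b0]⟩
  refine ⟨a • u + b • w, fun e => h2 (Submodule.mem_span_singleton.2 ⟨-(b⁻¹ * a), ?_⟩), ?_⟩
  · rw [← inv_smul_smul₀ b0 w, eq_neg_of_add_eq_zero_right e]
    simp [smul_smul]
  · have : polar Q u w = 0 := h1
    simp only [QuadraticMap.map_add Q, QuadraticMap.map_smul, polar_smul_left, polar_smul_right,
      this, ← ha, ← hb, smul_eq_mul]
    linear_combination a ^ 2 * b ^ 2 * CharTwo.two_eq_zero (R := F)

theorem exists_root [Finite F] [CharP F 2] {c c' : F} (h : ∀ t, t ^ 2 + t ≠ c)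
    (h' : ∀ t, t ^ 2 + t ≠ c') : ∃ t, t ^ 2 + t = c + c' := by
  let p : F →+ F := (frobenius F 2).toAddMonoidHom + AddMonoidHom.id F
  have : p.range.index = 2 := by
    rw [AddSubgroup.index_range, Nat.card_eq_two_iff]
    refine ⟨0, ⟨1, by simp [p, CharTwo.add_self_eq_zero]⟩, by simp [Subtype.ext_iff], ?_⟩
    refine Set.eq_univ_of_forall fun ⟨t, ht⟩ => ?_
    have : t * (t + 1) = 0 := by rw [← show t ^ 2 + t = 0 from ht]; ring
    simpa [Subtype.ext_iff, CharTwo.add_eq_zero] using this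
  exact (AddSubgroup.add_mem_iff_of_index_two this).2
    (iff_of_false (fun ⟨t, e⟩ => h t e) fun ⟨t, e⟩ => h' t e)

theorem exists_not_root (F : Type*) [Field F] [Finite F] [CharP F 2] :
    ∃ c : F, ∀ t, t ^ 2 + t ≠ c := by
  by_contra! h
  have := Finite.injective_iff_surjective.2 (h : Function.Surjective fun t : F => t ^ 2 + t)
  exact zero_ne_one (this (by simp [CharTwo.add_self_eq_zero]))

theorem equiv_qbin [Finite F] [CharP F 2] [FiniteDimensional F V] {Q : QuadraticForm F V}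
    (h : Nd Q) (h2 : finrank F V = 2) (ha : ∀ x, Q x = 0 → x = 0) :
    ∃ c, (∀ t, t ^ 2 + t ≠ c) ∧ (qbin 1 1 c).Equivalent Q := by
  haveI := nontrivial_of_finrank_pos (R := F) (M := V) (by omega)
  obtain ⟨u, hu⟩ : ∃ u, Q u = 1 := by
    obtain ⟨u, hu⟩ := exists_ne (0 : V)
    obtain ⟨a, e⟩ := (frobeniusEquiv F 2).surjective (Q u)⁻¹
    rw [frobeniusEquiv_def] at e
    exact ⟨a • u, by rw [QuadraticMap.map_smul, ← pow_two, e, smul_eq_mul,
      inv_mul_cancel₀ (mt (ha u) hu)]⟩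
  have u0 : u ≠ 0 := fun e => by simp [e] at hu
  obtain ⟨w, hw⟩ := h.exists_one u0
  let f := (LinearMap.toSpanSingleton F V u).coprod (LinearMap.toSpanSingleton F V w)
  have hf : ∀ p, Q (f p) = qbin 1 1 (Q w) p := fun p => by
    simp [f, QuadraticMap.map_add Q, QuadraticMap.map_smul, hu, hw]
    ring
  have inj : Function.Injective f := (injective_iff_map_eq_zero _).2 fun p hp => by
    have e1 := congrArg (polar Q u) hp
    simp [f, hw, polar_self_two, -polar_self] at e1
    exact Prod.ext (by simpa [f, e1, u0] using hp) e1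
  refine ⟨Q w, fun t e => ?_, ⟨⟨f.linearEquivOfInjective inj (by simp [h2]), hf⟩⟩⟩
  have := inj ((ha _ (by
    rw [hf]; simp; rw [e, CharTwo.add_self_eq_zero])).trans (map_zero f).symm : f (t, 1) = _)
  simp at this

theorem qbin_equiv [Finite F] [CharP F 2] {c c' : F} (h : ∀ t, t ^ 2 + t ≠ c)
    (h' : ∀ t, t ^ 2 + t ≠ c') : (qbin 1 1 c).Equivalent (qbin 1 1 c') := by
  obtain ⟨d, hd⟩ := exists_root h h'
  refine ⟨⟨(LinearEquiv.refl F F).skewProd (.refl F F) 0 ≪≫ₗ LinearEquiv.prodComm F F F ≪≫ₗ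
    (LinearEquiv.refl F F).skewProd (.refl F F) (d • LinearMap.id) ≪≫ₗ LinearEquiv.prodComm F F F,
    fun p => ?_⟩⟩
  simp
  linear_combination p.2 ^ 2 * hd + (p.1 * d * p.2 + c' * p.2 ^ 2) * CharTwo.two_eq_zero (R := F)

theorem neg_cases [Fintype F] [CharP F 2] {ψ : AddChar F ℤ} (hψ : ψ ≠ 1) [Finite V]
    {Q : QuadraticForm F V} (h : Nd Q) (hn : gs ψ Q < 0) :
    (finrank F V = 2 ∧ ∃ c, (∀ t, t ^ 2 + t ≠ c) ∧ (qbin 1 1 c).Equivalent Q) ∨
      (2 < finrank F V ∧ ∃ W : Submodule F V, ((qbin 0 1 0).prod (Q.restrict W)).Equivalent Q ∧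
        finrank F W + 2 = finrank F V ∧ Nd (Q.restrict W) ∧ gs ψ (Q.restrict W) < 0) := by
  have triv : ∀ W : Submodule F V, gs ψ (Q.restrict W) < 0 → 0 < finrank F W := fun W hW =>
    Nat.pos_of_ne_zero fun e => by
      haveI := finrank_zero_iff.1 e
      rw [gs, finsum_eq_single _ 0 fun x hx => absurd (Subsingleton.elim _ _) hx] at hW
      simp at hW
  by_cases c : ∃ x, x ≠ 0 ∧ Q x = 0
  · obtain ⟨x, hx, h0⟩ := c
    obtain ⟨W, e⟩ := exists_split h hx h0
    have e1 : finrank F W + 2 = finrank F V := by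
      simpa [add_comm] using e.some.toLinearEquiv.finrank_eq
    have e2 : gs ψ (Q.restrict W) < 0 := by
      rw [← gs_of_equiv ψ e, gs_prod, gs_hyp hψ] at hn
      exact neg_of_mul_neg_right hn (by positivity)
    have := triv W e2
    exact .inr ⟨by omega, W, e, e1, (nd_prod_iff.1 (h.of_equiv e.symm)).2, e2⟩
  · have h1 := mt (exists_singular Q) c
    have h2 := triv ⊤ ((gs_equiv ψ Submodule.topEquiv.toEquiv (Q' := Q) fun _ => rfl).trans_lt hn)
    rw [finrank_top] at h2
    have h3 : finrank F V ≠ 1 := fun e => by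
      obtain ⟨v, v0, hv⟩ := finrank_eq_one_iff'.1 e
      refine v0 (h v fun y => ?_)
      obtain ⟨a, rfl⟩ := hv y
      rw [polar_smul_right, polar_self_two, smul_zero]
    have h4 : finrank F V = 2 := by omega
    exact .inl ⟨h4, equiv_qbin h h4 fun x hx => by_contra fun x0 => c ⟨x, x0, hx⟩⟩

end

theorem equiv_of_neg [Fintype F] [CharP F 2] {ψ : AddChar F ℤ} (hψ : ψ ≠ 1) (n : ℕ) :
    ∀ (V : Type u) [AddCommGroup V] [Module F V] [Finite V] (V' : Type v) [AddCommGroup V']
      [Module F V'] [Finite V'] (Q : QuadraticForm F V) (Q' : QuadraticForm F V'),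
      finrank F V = n → finrank F V' = n → Nd Q → Nd Q' → gs ψ Q < 0 → gs ψ Q' < 0 →
      Q.Equivalent Q' := by
  induction n using Nat.strong_induction_on with
  | _ n ih =>
    intro V _ _ _ V' _ _ _ Q Q' e e' h h' k k'
    rcases neg_cases hψ h k with ⟨a, c, a1, a2⟩ | ⟨a, W, a1, a2, a3, a4⟩ <;>
      rcases neg_cases hψ h' k' with ⟨b, c', b1, b2⟩ | ⟨b, W', b1, b2, b3, b4⟩
    · exact a2.symm.trans ((qbin_equiv a1 b1).trans b2)
    · omega
    · omega
    · exact a1.symm.trans (((Equivalent.refl _).prod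
        (ih _ (by omega) W W' _ _ rfl (by omega) a3 b3 a4 b4)).trans b1)

end CfsgH1
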