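import Mathlib
import Cfsg.Agent.H1.QF2

/-!
Reflections, the Cartan-Dieudonné theorem in characteristic two, and the Dickson invariant.
-/

set_option autoImplicit false

namespace CfsgH1

open QuadraticMap Module

variable {F : Type*} [Field F] {V : Type*} [AddCommGroup V] [Module F V] {Q : QuadraticForm F V}

variable (Q) in
/-- the orthogonal group -/
def Og : Subgroup (V ≃ₗ[F] V) where
  carrier := {g | ∀ x, Q (g x) = Q x}
  mul_mem' ha hb x := (ha _).trans (hb x)
  one_mem' _ := rfl
  inv_mem' {g} hg x := by rw [← hg]; exact congrArg Q (g.apply_symm_apply x)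

theorem Og.polar {g : V ≃ₗ[F] V} (hg : g ∈ Og Q) (x y : V) : polar Q (g x) (g y) = polar Q x y :=
  polar_iso (map_add g) hg x y

/-- the fixed space -/
abbrev fixS (g : V ≃ₗ[F] V) : Submodule F V := LinearMap.ker (g.toLinearMap - 1)

theorem mem_fixS {g : V ≃ₗ[F] V} {x : V} : x ∈ fixS g ↔ g x = x := by simp [sub_eq_zero]

/-- reflections -/
def rf {v : V} (h : Q v ≠ 0) : V ≃ₗ[F] V :=
  Module.reflection (f := (Q v)⁻¹ • Q.polarBilin v) (x := v) (by simp; field_simp)

theorem rf_apply {v : V} (h : Q v ≠ 0) (x : V) : rf h x = x - ((Q v)⁻¹ * polar Q v x) • v := rfl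

theorem rf_mem {v : V} (h : Q v ≠ 0) : rf h ∈ Og Q := fun x => by
  rw [rf_apply, sub_eq_add_neg, ← neg_smul, QuadraticMap.map_add Q, QuadraticMap.map_smul,
    polar_smul_right, polar_comm _ x]
  simp only [smul_eq_mul]
  field_simp
  ring

theorem rf_rf {v : V} (h : Q v ≠ 0) (x : V) : rf h (rf h x) = x := involutive_reflection _ x

variable [FiniteDimensional F V]

theorem fix_succ {g : V ≃ₗ[F] V} (hg : g ∈ Og Q) {v y : V} (h : Q v ≠ 0) (e : g y = y + v) :
    finrank F (fixS (rf h * g)) = finrank F (fixS g) + 1 := by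
  have v0 : v ≠ 0 := fun c => h (by simp [c])
  rw [← Submodule.finrank_sup_span_singleton (v := y) (by simpa [mem_fixS, e] using v0)]
  refine congrArg (fun S : Submodule F V => finrank F S)
    (le_antisymm (fun x hx => ?_) (sup_le (fun x hx => ?_) ?_))
  · have h1 : g x = rf h x := by rw [← rf_rf h (g x)]; exact congrArg _ (mem_fixS.1 hx)
    refine Submodule.mem_sup.2 ⟨x + ((Q v)⁻¹ * polar Q v x) • y, mem_fixS.2 ?_,
      -(((Q v)⁻¹ * polar Q v x) • y), neg_mem (Submodule.smul_mem _ _
        (Submodule.mem_span_singleton_self y)), by simp⟩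
    rw [map_add, map_smul, h1, e, rf_apply]
    module
  · have h1 := mem_fixS.1 hx
    have := Og.polar hg y x
    rw [h1, e, polar_add_left, add_eq_left] at this
    exact mem_fixS.2 (by simp [h1, rf_apply, this])
  · have := hg y
    rw [e, QuadraticMap.map_add Q, add_assoc, add_eq_left, add_eq_zero_iff_neg_eq] at this
    refine (Submodule.span_singleton_le_iff_mem _ _).2 (mem_fixS.2 ?_)
    simp only [LinearEquiv.mul_apply, e, rf_apply, polar_add_right, polar_comm _ v y, ← this,
      polar_self]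
    rw [show (Q v)⁻¹ * (-Q v + 2 • Q v) = 1 by simp; field_simp; ring]
    simp

theorem fix_rf_mul (hQ : Nd Q) {g : V ≃ₗ[F] V} (hg : g ∈ Og Q) {v : V} (h : Q v ≠ 0) :
    finrank F (fixS (rf h * g)) % 2 = (finrank F (fixS g) + 1) % 2 := by
  by_cases c : v ∈ LinearMap.range (g.toLinearMap - 1)
  · obtain ⟨y, hy⟩ := c
    rw [fix_succ hg h (y := y) (by simp [← hy])]
  obtain ⟨f, f1, f2⟩ := Submodule.exists_dual_map_eq_bot_of_notMem c inferInstance
  obtain ⟨x, rfl⟩ := (LinearMap.BilinForm.toDual _ hQ.nondegenerate).surjective f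
  have f3 : ∀ z, polar Q x (g z - z) = 0 := fun z =>
    (Submodule.eq_bot_iff _).1 f2 _ ⟨_, ⟨z, rfl⟩, rfl⟩
  have f4 : g x = x := sub_eq_zero.1 (hQ _ fun z => by
    obtain ⟨z, rfl⟩ := g.surjective z
    rw [polar_sub_left, Og.polar hg, ← polar_sub_right, ← neg_sub, polar_neg_right, f3, neg_zero])
  have f5 : polar Q v x ≠ 0 := by rwa [polar_comm]
  have := fix_succ (mul_mem (rf_mem h) hg) h (y := -(Q v * (polar Q v x)⁻¹) • x) (by
    rw [map_smul, LinearEquiv.mul_apply, f4, rf_apply, smul_sub, smul_smul, sub_eq_add_neg,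
      ← neg_smul, show -(-(Q v * (polar Q v x)⁻¹) * ((Q v)⁻¹ * polar Q v x)) = 1 by field_simp,
      one_smul])
  rw [show rf h * (rf h * g) = g from LinearEquiv.ext fun x => rf_rf h _] at this
  omega

theorem mem_closure_rf [CharP F 2] (hQ : Nd Q) (h4 : 4 < finrank F V) {g : V ≃ₗ[F] V}
    (hg : g ∈ Og Q) : g ∈ Subgroup.closure {t | ∃ v, ∃ h : Q v ≠ 0, t = rf h} := by
  generalize hR : Subgroup.closure {t | ∃ v, ∃ h : Q v ≠ 0, t = rf h} = R
  have mR : ∀ {v} (h : Q v ≠ 0), rf h ∈ R := fun h => hR ▸ Subgroup.subset_closure ⟨_, h, rfl⟩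
  generalize hn : finrank F V - finrank F (fixS g) = n
  induction n using Nat.strong_induction_on generalizing g with
  | _ n ih =>
    have step : ∀ r ∈ R, r ∈ Og Q → finrank F (fixS g) < finrank F (fixS (r * g)) → g ∈ R :=
      fun r h1 h2 h3 => by
        have := (fixS (r * g)).finrank_le
        exact (R.mul_mem_cancel_left h1).1 (ih _ (by omega) (mul_mem h2 hg) rfl)
    by_cases c : ∃ y, Q (g y - y) ≠ 0
    · obtain ⟨y, h⟩ := c
      exact step _ (mR h) (rf_mem h) (by rw [fix_succ hg h (y := y) (by simp)]; omega)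
    by_cases g1 : g = 1
    · exact g1 ▸ one_mem R
    push Not at c
    obtain ⟨y, hy⟩ : ∃ y, g y ≠ y := not_forall.1 fun e => g1 (LinearEquiv.ext e)
    obtain ⟨z, hz⟩ : ∃ z, polar Q y (g z - z) = 1 := by
      obtain ⟨z, hz⟩ := hQ.exists_one (sub_ne_zero.2 hy)
      obtain ⟨z, rfl⟩ := g.surjective z
      exact ⟨-z, by
        rw [polar_sub_left, Og.polar hg] at hz
        rw [map_neg, polar_sub_right, polar_neg_right, polar_neg_right, ← hz]; ring⟩
    have fx : ∀ x ∈ fixS g, ∀ y, polar Q (g y - y) x = 0 := fun x hx y => by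
      rw [polar_sub_left, ← Og.polar hg y x, mem_fixS.1 hx, sub_self]
    have uw : polar Q (g y - y) (g z - z) = 0 := by
      have := c (y + z)
      rwa [map_add, add_sub_add_comm, QuadraticMap.map_add Q, c, c, zero_add, zero_add] at this
    have yu : polar Q (g y - y) y = 0 := by
      have := hg y
      rwa [← sub_add_cancel (g y) y, QuadraticMap.map_add Q, c, zero_add, add_eq_left] at this
    have hu := c y
    have hw := c z
    have e : g y = y + (g y - y) := by simp
    have fu := fun x hx => fx x hx y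
    have fw := fun x hx => fx x hx z
    generalize g y - y = u at *
    generalize g z - z = w at *
    obtain ⟨v, v1, v2, v3⟩ : ∃ v, polar Q u v = 0 ∧ polar Q w v = 0 ∧ Q v ≠ 0 := by
      by_contra! k
      let T := LinearMap.ker ((Q.polarBilin u).prod (Q.polarBilin w))
      have k1 : ∀ x ∈ T, Q x = 0 := fun x hx => k x (congrArg Prod.fst hx) (congrArg Prod.snd hx)
      have k2 : T ≤ LinearMap.BilinForm.orthogonal Q.polarBilin T := fun x hx a ha => by
        change polar Q a x = 0
        rw [polar, k1 _ (add_mem ha hx), k1 a ha, k1 x hx]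
        simp
      have k3 := Submodule.finrank_mono k2
      rw [LinearMap.BilinForm.finrank_orthogonal hQ.nondegenerate] at k3
      have k4 := ((Q.polarBilin u).prod (Q.polarBilin w)).finrank_range_add_finrank_ker
      have k5 := (LinearMap.range ((Q.polarBilin u).prod (Q.polarBilin w))).finrank_le
      rw [finrank_prod, finrank_self] at k5
      change _ + finrank F T = _ at k4
      omega
    have sieg : ∀ v, polar Q u v = 0 → Q v ≠ 0 → ∃ r ∈ R, r ∈ Og Q ∧
        ∀ x, r x = x + polar Q u x • v + (polar Q v x + Q v * polar Q u x) • u := fun v v1 v2 => by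
      have v3 : Q (v + Q v • u) = Q v := by
        simp [QuadraticMap.map_add Q, QuadraticMap.map_smul, hu, polar_comm _ v u, v1]
      have v4 : Q (v + Q v • u) ≠ 0 := by rwa [v3]
      refine ⟨rf v2 * rf v4, mul_mem (mR _) (mR _), mul_mem (rf_mem _) (rf_mem _), fun x => ?_⟩
      simp only [LinearEquiv.mul_apply, rf_apply, v3, polar_sub_right, polar_add_right,
        polar_add_left, polar_smul_left, polar_smul_right, polar_self_two, polar_comm _ v u, v1,
        smul_eq_mul]
      match_scalars <;> field_simp <;> grind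
    have v4 : Q (v + w) = Q v := by simp [QuadraticMap.map_add Q, hw, polar_comm _ v w, v2]
    obtain ⟨r, r1, r2, r3⟩ := sieg v v1 v3
    obtain ⟨s, s1, s2, s3⟩ := sieg (v + w) (by simp [v1, uw]) (by rwa [v4])
    have rs : ∀ x, polar Q u x = 0 → (r * s) x = x + polar Q w x • u := fun x hx => by
      simp only [LinearEquiv.mul_apply, r3, s3, hx, polar_add_right, polar_add_left,
        polar_smul_right, polar_self_two, polar_comm _ v u, v1, smul_eq_mul]
      match_scalars <;> grind
    refine step _ (mul_mem r1 s1) (mul_mem r2 s2) (Submodule.finrank_lt_finrank_of_lt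
      (lt_of_le_of_ne (fun x hx => mem_fixS.2 ?_) fun k => hy (mem_fixS.1 (k.ge (mem_fixS.2 ?_)))))
    · rw [LinearEquiv.mul_apply, mem_fixS.1 hx, rs x (fu x hx), fw x hx, zero_smul, add_zero]
    · rw [LinearEquiv.mul_apply, e, rs _ (by simp [yu, hu]), polar_add_right, polar_comm _ w y, hz,
        polar_comm _ w u, uw]
      match_scalars <;> grind

/-- the kernel of the Dickson invariant -/
def Kg [CharP F 2] (hQ : Nd Q) (h4 : 4 < finrank F V) : Subgroup (V ≃ₗ[F] V) where
  carrier := {g | g ∈ Og Q ∧ finrank F (fixS g) % 2 = finrank F V % 2}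
  mul_mem' {a b} ha hb := ⟨mul_mem ha.1 hb.1, by
    have key : ∀ a ∈ Subgroup.closure {t | ∃ v, ∃ h : Q v ≠ 0, t = rf h}, a ∈ Og Q ∧
        (finrank F (fixS (a * b)) + finrank F (fixS a)) % 2 = 0 := fun a ha => by
      have st : ∀ x ∈ {t | ∃ v, ∃ h : Q v ≠ 0, t = rf h}, ∀ a, a ∈ Og Q ∧
          (finrank F (fixS (a * b)) + finrank F (fixS a)) % 2 = 0 → x * a ∈ Og Q ∧
          (finrank F (fixS (x * a * b)) + finrank F (fixS (x * a))) % 2 = 0 := by
        rintro _ ⟨v, h, rfl⟩ a ⟨h1, h2⟩
        have := fix_rf_mul hQ h1 h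
        have := fix_rf_mul hQ (mul_mem h1 hb.1) h
        exact ⟨mul_mem (rf_mem h) h1, by rw [mul_assoc]; omega⟩
      induction ha using Subgroup.closure_induction_left with
      | one =>
        have : fixS (1 : V ≃ₗ[F] V) = ⊤ := eq_top_iff.2 fun x _ => mem_fixS.2 rfl
        have := hb.2
        exact ⟨one_mem _, by rw [one_mul, ‹fixS 1 = ⊤›, finrank_top]; omega⟩
      | mul_left x hx y _ ih => exact st x hx y ih
      | inv_mul_cancel x hx y _ ih =>
        obtain ⟨v, h, rfl⟩ := hx
        exact st _ ⟨v, h, rfl⟩ y ih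
    have := (key a (mem_closure_rf hQ h4 ha.1)).2
    have := ha.2
    omega⟩
  one_mem' := ⟨one_mem _, by
    rw [show fixS (1 : V ≃ₗ[F] V) = ⊤ from eq_top_iff.2 fun x _ => mem_fixS.2 rfl, finrank_top]⟩
  inv_mem' {g} hg := ⟨inv_mem hg.1, by
    rw [show fixS g⁻¹ = fixS g from Submodule.ext fun x => by
      rw [mem_fixS, mem_fixS]; exact g.symm_apply_eq.trans eq_comm]
    exact hg.2⟩

end CfsgH1
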