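import Mathlib
import Cfsg.Agent.H1.QF2Refl
import Cfsg.Agent.H7.AffNorm

/-!
Affine and linear isometries of prescribed order for quadratic forms in characteristic two.
-/

set_option autoImplicit false

namespace CfsgH1

open QuadraticMap Module

universe u

section
variable {F : Type*} [Field F] {V V' : Type*} [AddCommGroup V] [Module F V] [AddCommGroup V']
  [Module F V']

/-- there is an affine isometry of order divisible by `m` -/
def Re (Q : QuadraticForm F V) (m : ℕ) (lin : Prop) (k : ℕ) : Prop :=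
  ∃ g ∈ Og Q, ∃ v, (∀ n, (fun x => g x + v)^[n] = id → m ∣ n) ∧ (lin → v = 0) ∧
    finrank F (fixS g) % 2 = k % 2

theorem Re.of_equiv {Q : QuadraticForm F V} {Q' : QuadraticForm F V'} (e : Q.Equivalent Q')
    {m k : ℕ} {lin : Prop} (h : Re Q m lin k) : Re Q' m lin k := by
  obtain ⟨e⟩ := e
  obtain ⟨g, h1, v, h2, h3, h4⟩ := h
  let a := e.toLinearEquiv
  refine ⟨a.symm ≪≫ₗ g ≪≫ₗ a, fun x => (e.map_app _).trans ((h1 _).trans (e.symm.map_app x)), a v,
    fun n hn => h2 n (funext fun x => a.injective ?_), fun l => by simp [h3 l], ?_⟩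
  · have : Function.Semiconj a (fun x => g x + v) fun x => (a.symm ≪≫ₗ g ≪≫ₗ a) x + a v :=
      fun x => by simp
    rw [this.iterate_right n x, hn]
    rfl
  · rw [← h4, ← a.finrank_map_eq]
    refine congrArg (fun S : Submodule F V' => finrank F S % 2) (Submodule.ext fun x => ?_)
    rw [Submodule.mem_map_equiv, mem_fixS, mem_fixS]
    exact a.eq_symm_apply.symm

theorem Re.prod [FiniteDimensional F V] [FiniteDimensional F V'] {Q : QuadraticForm F V}
    {Q' : QuadraticForm F V'} {m m' k k' M : ℕ} {lin : Prop} (h : Re Q m lin k)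
    (h' : Re Q' m' lin k') (hM : ∀ n, m ∣ n → m' ∣ n → M ∣ n) :
    Re (Q.prod Q') M lin (k + k') := by
  obtain ⟨g, h1, v, h2, h3, h4⟩ := h
  obtain ⟨g', h1', v', h2', h3', h4'⟩ := h'
  refine ⟨g.prodCongr g', fun x => congrArg₂ (· + ·) (h1 _) (h1' _), (v, v'), fun n hn => ?_,
    fun l => Prod.ext (h3 l) (h3' l), ?_⟩
  · have := (Prod.map_iterate (fun x => g x + v) (fun x => g' x + v') n).symm.trans hn
    exact hM n (h2 n (funext fun x => congrArg Prod.fst (congrFun this (x, 0))))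
      (h2' n (funext fun x => congrArg Prod.snd (congrFun this (0, x))))
  · let e : fixS (g.prodCongr g') ≃ₗ[F] fixS g × fixS g' :=
      { toFun x := (⟨x.1.1, congrArg Prod.fst x.2⟩, ⟨x.1.2, congrArg Prod.snd x.2⟩)
        invFun x := ⟨(x.1, x.2), Prod.ext x.1.2 x.2.2⟩
        map_add' _ _ := rfl
        map_smul' _ _ := rfl }
    rw [e.finrank_eq, finrank_prod]
    omega

theorem Re.ext {Q : QuadraticForm F V} {m k : ℕ} {lin : Prop} (h : Re Q m lin k) :
    ∃ k, Re (Q.prod (qbin 0 1 0)) m True k := by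
  obtain ⟨g, h1, v, h2, -⟩ := h
  let f : V × F × F →ₗ[F] V := g.toLinearMap ∘ₗ .fst _ _ _ +
    LinearMap.toSpanSingleton F V v ∘ₗ .snd _ _ _ ∘ₗ .snd _ _ _
  let G : V × F × F →ₗ[F] V × F × F := f.prod (LinearMap.prod (.fst _ _ _ ∘ₗ .snd _ _ _ -
    Q.polarBilin v ∘ₗ f + Q v • .snd _ _ _ ∘ₗ .snd _ _ _) (.snd _ _ _ ∘ₗ .snd _ _ _))
  have hG : ∀ x, G x = (g x.1 + x.2.2 • v,
    x.2.1 - polar Q v (g x.1 + x.2.2 • v) + Q v * x.2.2, x.2.2) := fun _ => rfl
  refine ⟨_, LinearEquiv.ofBijective G ⟨(injective_iff_map_eq_zero _).2 fun x hx => ?_, fun y => ?_⟩,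
    fun x => ?_, 0, fun n hn => h2 n (funext fun x => ?_), fun _ => rfl, rfl⟩
  · simp only [hG, Prod.mk_eq_zero] at hx
    obtain ⟨a, b, c⟩ := hx
    rw [a, c] at b
    rw [c] at a
    exact Prod.ext (by simpa using a) (Prod.ext (by simpa using b) c)
  · exact ⟨(g.symm (y.1 - y.2.2 • v), y.2.1 + polar Q v y.1 - Q v * y.2.2, y.2.2), by
      simp [hG, Prod.ext_iff]; ring⟩
  · change (Q.prod (qbin 0 1 0)) (G x) = _
    simp [hG, QuadraticMap.map_add Q, QuadraticMap.map_smul, h1 x.1, polar_comm _ v]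
    ring
  · have : ∀ n, ∀ y : V × F × F, y.2.2 = 1 → (G^[n] y).1 = (fun x => g x + v)^[n] y.1 := fun n => by
      induction n with
      | zero => exact fun _ _ => rfl
      | succ n ih => exact fun y hy => (ih (G y) hy).trans (by simp [hG, hy])
    rw [← this n (x, 0, 1) rfl, show ⇑G = _ from funext fun x => (add_zero _).symm]
    exact congrArg Prod.fst (congrFun hn _)

end

variable {F : Type u} [Field F]

/-- there is a form of dimension `d` and type `ε` with such an isometry -/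
def Rl (ψ : AddChar F ℤ) (d : ℕ) (ε : ℤ) (m : ℕ) (lin : Prop) (k : ℕ) : Prop :=
  ∃ (V : Type u) (_ : AddCommGroup V) (_ : Module F V) (_ : Finite V) (Q : QuadraticForm F V),
    Nd Q ∧ finrank F V = d ∧ 0 < ε * gs ψ Q ∧ Re Q m lin k

variable {ψ : AddChar F ℤ} {d d' m m' k k' : ℕ} {ε ε' : ℤ} {lin : Prop}

theorem Rl.prod (h : Rl ψ d ε m lin k) (h' : Rl ψ d' ε' m' lin k') {M : ℕ}
    (hM : ∀ n, m ∣ n → m' ∣ n → M ∣ n) : Rl ψ (d + d') (ε * ε') M lin (k + k') := by
  obtain ⟨V, _, _, _, Q, h1, rfl, h3, h4⟩ := h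
  obtain ⟨V', _, _, _, Q', h1', rfl, h3', h4'⟩ := h'
  exact ⟨V × V', inferInstance, inferInstance, inferInstance, Q.prod Q', nd_prod_iff.2 ⟨h1, h1'⟩,
    finrank_prod, by rw [gs_prod, mul_mul_mul_comm]; positivity, h4.prod h4' hM⟩

theorem Rl.cop (h : Rl ψ d ε m lin k) (h' : Rl ψ d' ε' m' lin k') (c : m.Coprime m') :
    Rl ψ (d + d') (ε * ε') (m * m') lin (k + k') :=
  h.prod h' fun _ => c.mul_dvd_of_dvd_of_dvd

variable [Fintype F] [CharP F 2] (hψ : ψ ≠ 1)
include hψ

theorem Rl.ext (h : Rl ψ d ε m lin k) : ∃ k, Rl ψ (d + 2) ε m True k := by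
  obtain ⟨V, _, _, _, Q, h1, rfl, h3, h4⟩ := h
  obtain ⟨k, h⟩ := h4.ext
  exact ⟨k, V × F × F, inferInstance, inferInstance, inferInstance, _,
    nd_prod_iff.2 ⟨h1, nd_qbin _ one_ne_zero _⟩, by simp, by
      rw [gs_prod, gs_hyp hψ, ← mul_assoc]; positivity, h⟩

theorem rl_tp1 : Rl ψ 2 1 (Fintype.card F - 1) lin 0 := by
  obtain ⟨z, hz⟩ := IsCyclic.exists_ofOrder_eq_natCard (α := Fˣ)
  rw [Nat.card_units, Nat.card_eq_fintype_card] at hz
  let g := (LinearEquiv.smulOfUnit (M := F) z).prodCongr (LinearEquiv.smulOfUnit (M := F) z⁻¹)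
  have hg : ∀ x, g x = (z.1 * x.1, (z⁻¹).1 * x.2) := fun _ => rfl
  refine ⟨F × F, inferInstance, inferInstance, inferInstance, qbin 0 1 0, nd_qbin _ one_ne_zero _,
    by simp, by rw [gs_hyp hψ]; positivity, g, fun x => by simp [hg]; field_simp, 0,
    fun n hn => hz ▸ orderOf_dvd_of_pow_eq_one (Units.ext ?_), fun _ => rfl, ?_⟩
  · have : Function.Semiconj Prod.fst (fun x => g x + 0) fun x => z * x := fun x => by simp [hg]
    have := this.iterate_right n (1, 0)
    rw [hn] at this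
    simpa using this.symm
  · by_cases e : z = 1
    · rw [show fixS g = ⊤ from eq_top_iff.2 fun x _ => mem_fixS.2 (by simp [hg, e])]
      simp
    · rw [show fixS g = ⊥ from eq_bot_iff.2 fun x hx => by
        simpa [hg, Prod.ext_iff, mul_eq_right₀, e, mul_left_eq_self₀] using mem_fixS.1 hx]
      simp

theorem rl_tm1 : Rl ψ 2 (-1) (Fintype.card F + 1) lin 0 := by
  let K := AlgebraicClosure F
  have two : (2 : F) = 0 := CharTwo.two_eq_zero
  haveI : CharP K 2 := charP_of_injective_algebraMap (algebraMap F K).injective 2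
  haveI : NeZero ((Fintype.card F + 1 : ℕ) : F) := ⟨by simp⟩
  obtain ⟨z, hz⟩ := HasEnoughRootsOfUnity.exists_primitiveRoot K (Fintype.card F + 1)
  have z0 : z ≠ 0 := hz.ne_zero (by simp)
  let φ := FiniteField.frobeniusAlgHom F K
  have z1 : φ z = z⁻¹ := eq_inv_of_mul_eq_one_left (by simpa [φ, pow_succ] using hz.pow_eq_one)
  have z2 : z ≠ z⁻¹ := fun e => by
    have := Nat.le_of_dvd two_pos (hz.dvd_of_pow_eq_one 2 (by
      rw [pow_two]; nth_rw 1 [e]; exact inv_mul_cancel₀ z0))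
    have := Fintype.one_lt_card (α := F)
    omega
  obtain ⟨a, ha⟩ := CfsgH7.mem_range_of_pow_card_eq (F := F) (z + z⁻¹)
    (show φ _ = _ by rw [map_add, map_inv₀, z1, inv_inv, add_comm])
  have a0 : a ≠ 0 := fun e => z2 (CharTwo.add_eq_zero.1 (by simp [← ha, e]))
  let g := LinearEquiv.prodComm F F F ≪≫ₗ (LinearEquiv.refl F F).skewProd (.refl F F) (a • .id)
  have hg : ∀ x, g x = (x.2, x.1 + a * x.2) := fun _ => rfl
  refine ⟨F × F, inferInstance, inferInstance, inferInstance, qbin 1 a 1, nd_qbin _ a0 _,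
    by simp, ?_, g, fun x => ?_, 0, fun n hn => hz.dvd_of_pow_eq_one n ?_, fun _ => rfl, ?_⟩
  · refine mul_pos_of_neg_of_neg neg_one_lt_zero (gs_neg hψ (fun c v => by simp; ring)
      (fun v hv => ?_) (by simp [Fintype.one_lt_card]))
    have h1 : (algebraMap F K v.1 + algebraMap F K v.2 * z) *
        φ (algebraMap F K v.1 + algebraMap F K v.2 * z) = 0 := by
      have := congrArg (algebraMap F K) hv
      simp [ha] at this
      simp only [map_add, map_mul, AlgHom.commutes, z1]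
      linear_combination this + algebraMap F K v.2 ^ 2 * mul_inv_cancel₀ z0
    have h2 : algebraMap F K v.1 + algebraMap F K v.2 * z = 0 :=
      (mul_eq_zero.1 h1).elim id (map_eq_zero φ).1
    have h3 := congrArg φ h2
    simp only [map_add, map_mul, AlgHom.commutes, z1, map_zero] at h3
    have h4 : v.2 = 0 := by
      simpa [sub_ne_zero.2 z2] using
        show algebraMap F K v.2 * (z - z⁻¹) = 0 by linear_combination h2 - h3
    exact Prod.ext (by simpa [h4] using h2) h4
  · simp [hg]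
    linear_combination (a * x.1 * x.2 + a ^ 2 * x.2 ^ 2) * two
  · have : Function.Semiconj (fun v : F × F => algebraMap F K v.1 + algebraMap F K v.2 * z)
        (fun x => g x + 0) fun x => z * x := fun x => by
      simp [hg, ha]
      linear_combination algebraMap F K x.2 * (CharTwo.two_eq_zero (R := K) + mul_inv_cancel₀ z0)
    have := this.iterate_right n (1, 0)
    rw [hn] at this
    simpa using this.symm
  · rw [show fixS g = ⊥ from eq_bot_iff.2 fun x hx => by
      have := mem_fixS.1 hx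
      simp [hg, Prod.ext_iff] at this ⊢
      grind]
    simp

omit [Fintype F] [CharP F 2] hψ in
theorem Rl.restrict {L : Type u} [Field L] [Algebra F L] [FiniteDimensional F L]
    [Algebra.IsSeparable F L]
    (h : Rl (ψ.compAddMonoidHom (Algebra.trace F L).toAddMonoidHom) d ε m lin 0) :
    Rl ψ (finrank F L * d) ε m lin 0 := by
  obtain ⟨V, _, _, _, Q, h1, rfl, h3, g, h4, v, h5, h6, h7⟩ := h
  letI : Module F V := Module.compHom V (algebraMap F L)
  haveI : IsScalarTower F L V := .of_algebraMap_smul fun _ _ => rfl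
  refine ⟨V, inferInstance, inferInstance, inferInstance, (Algebra.trace F L).compQuadraticMap' Q,
    fun x hx => h1 x fun y => (traceForm_nondegenerate F L).1 _ fun c => ?_,
    (finrank_mul_finrank F L V).symm, h3, g.restrictScalars F,
    fun x => congrArg (Algebra.trace F L) (h4 x), v, h5, h6, ?_⟩
  · simpa [mul_comm, LinearMap.compQuadraticMap_polar] using hx (c • y)
  · change finrank F (fixS g) % 2 = _
    rw [← finrank_mul_finrank F L, Nat.mul_mod, h7]
    simp

theorem rl_torus (j : ℕ) [NeZero j] : Rl ψ (j * 2) 1 (Fintype.card F ^ j - 1) lin 0 ∧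
    Rl ψ (j * 2) (-1) (Fintype.card F ^ j + 1) lin 0 := by
  let L := ULift.{u} (FiniteField.Extension F 2 j)
  have e : finrank F L = j := finrank_ulift.trans (FiniteField.finrank_extension F 2 j)
  haveI : CharP L 2 := charP_of_injective_algebraMap (algebraMap F L).injective 2
  haveI := Fintype.ofFinite L
  have h : ψ.compAddMonoidHom (Algebra.trace F L).toAddMonoidHom ≠ 1 := fun c => hψ (by
    ext a
    obtain ⟨b, rfl⟩ := Algebra.trace_surjective F L a
    exact DFunLike.congr_fun c b)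
  rw [← e, ← card_eq_pow_finrank]
  exact ⟨(rl_tp1 h).restrict, (rl_tm1 h).restrict⟩

theorem exists_qbin (hε : ε = 1 ∨ ε = -1) : ∃ c : F, 0 < ε * gs ψ (qbin 1 1 c) := by
  rcases hε with rfl | rfl
  · refine ⟨0, ?_⟩
    rw [gs_equiv ψ (Equiv.prodShear (.refl F) Equiv.addLeft) (Q' := qbin 0 1 0)
      (fun x => by simp; ring), gs_hyp hψ]
    positivity
  · obtain ⟨c, hc⟩ := exists_not_root F
    refine ⟨c, mul_pos_of_neg_of_neg neg_one_lt_zero (gs_neg hψ (fun c v => by simp; ring)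
      (fun v hv => ?_) (by simp [Fintype.one_lt_card]))⟩
    have h : v.2 = 0 := by_contra fun h => hc (v.1 / v.2) (by
      simp at hv
      field_simp
      linear_combination hv - v.2 ^ 2 * c * CharTwo.two_eq_zero (R := F))
    exact Prod.ext (by simpa [h] using hv) h

omit [Fintype F] [CharP F 2] hψ in
theorem dvd_of_iterate {X : Type*} {f : X → X} (x : X) (e : ℕ) (h1 : f^[2 ^ e] x ≠ x)
    (h2 : f^[2 ^ (e + 1)] x = x) (n : ℕ) (hn : f^[n] = id) : 2 ^ (e + 1) ∣ n :=
  Function.minimalPeriod_eq_prime_pow h1 h2 ▸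
    Function.IsPeriodicPt.minimalPeriod_dvd (congrFun hn x)

theorem rl_unip (hε : ε = 1 ∨ ε = -1) : (∀ lin, Rl ψ 2 ε 2 lin 1) ∧ Rl ψ 2 ε 2 False 0 ∧
    Rl ψ 2 ε 4 False 1 ∧ Rl ψ 4 ε 8 False 1 := by
  obtain ⟨c, hc⟩ := exists_qbin hψ hε
  have two : (2 : F) = 0 := CharTwo.two_eq_zero
  have k : ∀ {m lin k}, Re (qbin 1 1 c) m lin k → Rl ψ 2 ε m lin k := fun h =>
    ⟨F × F, inferInstance, inferInstance, inferInstance, _, nd_qbin _ one_ne_zero _, by simp, hc, h⟩
  let t := LinearEquiv.prodComm F F F ≪≫ₗ (LinearEquiv.refl F F).skewProd (.refl F F) .id ≪≫ₗ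
    LinearEquiv.prodComm F F F
  have ht : ∀ x, t x = (x.1 + x.2, x.2) := fun _ => rfl
  have t1 : t ∈ Og (qbin 1 1 c) := fun x => by
    simp [ht]
    linear_combination (x.1 * x.2 + x.2 ^ 2) * two
  have t2 : finrank F (fixS t) % 2 = 1 % 2 := by
    rw [show fixS t = F ∙ (1, 0) from Submodule.ext fun x => by
      simp [mem_fixS, ht, Submodule.mem_span_singleton, Prod.ext_iff, eq_comm],
      finrank_span_singleton (by simp)]
  let f : (F × F) × F × F →ₗ[F] (F × F) × F × F :=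
    { toFun x := ((x.1.1 + x.1.2, x.1.2 + x.2.2), (x.2.1 + x.1.1 + x.1.2 + c * x.2.2, x.2.2))
      map_add' x y := by simp [Prod.ext_iff]; grind
      map_smul' x y := by simp [Prod.ext_iff]; grind }
  let g := LinearEquiv.ofInjectiveEndo f ((injective_iff_map_eq_zero _).2 fun x hx => by
    simp [f, Prod.ext_iff] at hx ⊢; grind)
  have hg : ∀ x, g x = ((x.1.1 + x.1.2, x.1.2 + x.2.2), (x.2.1 + x.1.1 + x.1.2 + c * x.2.2, x.2.2)) :=
    fun _ => rfl
  refine ⟨fun _ => k ⟨t, t1, 0, dvd_of_iterate (0, 1) 0 ?_ ?_, fun _ => rfl, t2⟩,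
    k ⟨1, one_mem _, (1, 0), dvd_of_iterate 0 0 ?_ ?_, False.elim, ?_⟩,
    k ⟨t, t1, (0, 1), dvd_of_iterate 0 1 ?_ ?_, False.elim, t2⟩,
    _, inferInstance, inferInstance, inferInstance, (qbin 1 1 c).prod (qbin 0 1 0),
    nd_prod_iff.2 ⟨nd_qbin _ one_ne_zero _, nd_qbin _ one_ne_zero _⟩, by simp, ?_,
    g, fun x => ?_, (0, 0, 1), dvd_of_iterate 0 2 ?_ ?_, False.elim, ?_⟩
  · simp [ht]
  · simp [ht, CharTwo.add_self_eq_zero]
  · simp
  · simp [CharTwo.add_self_eq_zero]
  · rw [show fixS (1 : (F × F) ≃ₗ[F] F × F) = ⊤ from eq_top_iff.2 fun x _ => mem_fixS.2 rfl]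
    simp
  · simp [ht]
  · simp [ht, CharTwo.add_self_eq_zero]
  · rw [gs_prod, gs_hyp hψ, ← mul_assoc]
    positivity
  · simp [hg]
    grind
  · simp [hg, Prod.ext_iff]
    grind
  · simp [hg, Prod.ext_iff]
    grind
  · rw [show fixS g = F ∙ (0, 1, 0) from Submodule.ext fun x => by
      simp [mem_fixS, hg, Submodule.mem_span_singleton, Prod.ext_iff]; grind,
      finrank_span_singleton (by simp)]

end CfsgH1
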