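import Cfsg.Agent.H1.QD
import Cfsg.Agent.H7.FB
import Cfsg.Agent.FT.PF2

set_option autoImplicit false
set_option linter.unusedSectionVars false

open scoped commutatorElement

namespace CfsgQ

open Subgroup CfsgH5 CfsgH6 CfsgFT

universe u

variable {G : Type u} [Group G] [Finite G] {p r : ℕ} {K : Set G}

theorem C2.cop (h : C2 p r K) {b : G} (hb : b ^ p = 1) {B : Subgroup G} (hB : IsPGroup r B) :
    (orderOf b).Coprime (Nat.card B) := by
  haveI := Fact.mk h.hr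
  obtain ⟨n, hn⟩ := IsPGroup.iff_card.1 hB
  rw [hn]
  exact Nat.Coprime.coprime_dvd_left (orderOf_dvd_of_pow_eq_one hb)
    (Nat.Coprime.pow_right _ ((Nat.coprime_primes h.hp h.hr).2 h.hpr))

theorem C2.eq_one (h : C2 p r K) {B : Subgroup G} (hB : IsPGroup r B) {g : G} (hg : g ∈ B)
    (hp : g ^ p = 1) : g = 1 := by
  have h1 := h.cop hp hB
  have h2 : orderOf g ∣ Nat.card B := by
    rw [← Subgroup.orderOf_mk g hg]; exact orderOf_dvd_natCard _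
  exact orderOf_eq_one_iff.1 (Nat.Coprime.eq_one_of_dvd h1 h2)

theorem C2.eq_of_comm' (h : C2 p r K) {x y : G} (hx : x ∈ K) (hy : y ∈ K) (hc : Commute x y) :
    x = y := by
  obtain ⟨F, hF, -, hxy⟩ := h.pair x hx y hy
  have : x⁻¹ * y = 1 := h.eq_one hF hxy (by
    rw [hc.inv_left.mul_pow, inv_pow, h.ord x hx, h.ord y hy]; simp)
  exact inv_mul_eq_one.1 this

theorem C2.conj_of' (h : C2 p r K) {x y : G} (hx : x ∈ K) (hy : y ∈ K) {B : Subgroup G}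
    (hB : IsPGroup r B) (hn : x ∈ NS (B : Set G)) (hxy : x⁻¹ * y ∈ B) :
    ∃ f ∈ B, y = f * x * f⁻¹ := by
  obtain ⟨f, hf, c, hc, e⟩ := exists_conj_cent_coset (b := x) (K := B) hn (h.cop (h.ord x hx) hB)
    (conj_mem_of_mem_N hn hxy)
  have e1 : y = f * (c * x) * f⁻¹ := by rw [← e]; group
  have hcx : Commute c x := mem_C1.1 hc.2
  have h2 : (c * x) ^ p = 1 := by
    have := h.ord y hy
    rw [e1, conj_pow] at this
    simpa [mul_inv_eq_iff_eq_mul] using this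
  rw [hcx.mul_pow, h.ord x hx, mul_one] at h2
  refine ⟨f, hf, ?_⟩
  rw [e1, h.eq_one hB hc.1 h2, one_mul]

theorem mem_N_sup' {A B : Subgroup G} {x : G} (ha : x ∈ N A) (hb : x ∈ N B) : x ∈ N (A ⊔ B) :=
  Subgroup.normalizer_inf_normalizer_le_normalizer_sup A B ⟨ha, hb⟩

theorem C2.ex_sylow (h : C2 p r K) {x : G} (hx : x ∈ K) {B : Subgroup G} (hB : IsPGroup r B)
    (hn : x ∈ NS (B : Set G)) : ∃ P : Sylow r G, B ≤ P ∧ x ∈ N (P : Subgroup G) := by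
  haveI := Fact.mk h.hr
  obtain ⟨Q, ⟨hQ, hBQ, hxQ⟩, hmax⟩ := WellFounded.has_min (wellFounded_gt (α := Subgroup G))
    {Q | IsPGroup r Q ∧ B ≤ Q ∧ x ∈ N Q} ⟨B, hB, le_rfl, hn⟩
  have hmax' : ∀ T : Subgroup G, IsPGroup r T → Q ≤ T → x ∈ N T → T = Q := fun T h1 h2 h3 => by
    by_contra hne
    exact hmax T ⟨h1, hBQ.trans h2, h3⟩ (lt_of_le_of_ne h2 (Ne.symm hne))
  obtain ⟨P, hP⟩ := hQ.exists_le_sylow
  have key : ∀ g ∈ N Q, ∃ f ∈ Q, g * x * g⁻¹ = f * x * f⁻¹ := fun g hg => by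
    have hy := h.conj x hx g
    obtain ⟨F, hF, hxF, hxy⟩ := h.pair x hx _ hy
    have h1 : (F ⊓ N Q) ⊔ Q = Q := by
      refine hmax' _ ((hF.to_le inf_le_left).to_sup_of_normal_right' hQ inf_le_right)
        le_sup_right (mem_N_sup' (mem_N_of_conj fun a ha => ⟨conj_mem_of_mem_N hxF ha.1, ?_⟩) hxQ)
      exact (N Q).mul_mem ((N Q).mul_mem hxQ ha.2) ((N Q).inv_mem hxQ)
    refine h.conj_of' hx hy hQ hxQ (h1 ▸ mem_sup_left ⟨hxy, ?_⟩)
    exact (N Q).mul_mem ((N Q).inv_mem hxQ) ((N Q).mul_mem ((N Q).mul_mem hg hxQ) ((N Q).inv_mem hg))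
  have hT : (P : Subgroup G) ⊓ N Q = Q := by
    refine hmax' _ (P.2.to_le inf_le_left) (le_inf hP (le_N Q)) (mem_N_of_conj fun g hg => ?_)
    obtain ⟨f, hf, e⟩ := key g hg.2
    have e2 : x * g * x⁻¹ = (x * f * x⁻¹) * (f⁻¹ * g) := by
      have : g * x = f * x * f⁻¹ * g := by rw [← e]; group
      have h3 : f⁻¹ * g * x = x * (f⁻¹ * g) := by rw [mul_assoc, this]; group
      calc x * g * x⁻¹ = x * f * x⁻¹ * (x * (f⁻¹ * g)) * x⁻¹ := by group
        _ = _ := by rw [← h3]; group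
    rw [e2]
    have hQT : Q ≤ (P : Subgroup G) ⊓ N Q := le_inf hP (le_N Q)
    exact mul_mem (hQT (conj_mem_of_mem_N hxQ hf)) (mul_mem (inv_mem (hQT hf)) hg)
  have hPQ : Q = P := by
    by_contra hne
    exact (lt_inf_normalizer P.2 (lt_of_le_of_ne hP hne)).ne hT.symm
  exact ⟨P, hPQ ▸ hBQ, hPQ ▸ hxQ⟩

theorem C2.quot_mem (h : C2 p r K) (P : Sylow r G) {x y : G} (hx : x ∈ K ∩ NS ((P : Subgroup G) : Set G))
    (hy : y ∈ K ∩ NS ((P : Subgroup G) : Set G)) : x⁻¹ * y ∈ (P : Subgroup G) := by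
  obtain ⟨F, hF, -, hxy⟩ := h.pair x hx.1 y hy.1
  have h1 : (F ⊓ N (P : Subgroup G)) ⊔ P = P :=
    P.3 ((hF.to_le inf_le_left).to_sup_of_normal_right' P.2 inf_le_right) le_sup_right
  exact h1 ▸ mem_sup_left ⟨hxy, (N (P : Subgroup G)).mul_mem ((N (P : Subgroup G)).inv_mem hx.2) hy.2⟩

theorem C2.Dl_le_P (h : C2 p r K) (P : Sylow r G) :
    Dl (K ∩ NS ((P : Subgroup G) : Set G)) ≤ P := Dl_le fun _ hx _ hy => h.quot_mem P hx hy

theorem C2.le_NS_inter (h : C2 p r K) (H : Subgroup G) : H ≤ NS (K ∩ (H : Set G)) := by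
  intro g hg
  rw [mem_NS]
  intro n
  constructor
  · exact fun hn => ⟨h.conj n hn.1 g, mul_mem (mul_mem hg hn.2) (inv_mem hg)⟩
  · intro hn
    have e : n = g⁻¹ * (g * n * g⁻¹) * g⁻¹⁻¹ := by group
    rw [e]
    exact ⟨h.conj _ hn.1 _, mul_mem (mul_mem (inv_mem hg) hn.2) (inv_mem (inv_mem hg))⟩

theorem cl_le_N (P : Subgroup G) : closure (K ∩ NS (P : Set G)) ≤ N P :=
  (closure_le _).2 fun _ hx => hx.2

theorem C2.blk_smul (h : C2 p r K) (P : Sylow r G) (g : G) :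
    (fun x => g * x * g⁻¹) '' (K ∩ NS ((P : Subgroup G) : Set G)) =
      K ∩ NS (((g • P : Sylow r G) : Subgroup G) : Set G) := by
  have hm : ∀ a, a ∈ ((g • P : Sylow r G) : Subgroup G) ↔ g⁻¹ * a * g ∈ (P : Subgroup G) := fun a => by
    rw [Sylow.coe_subgroup_smul, Subgroup.mem_pointwise_smul_iff_inv_smul_mem]; simp
  ext y
  constructor
  · rintro ⟨x, hx, rfl⟩
    refine ⟨h.conj x hx.1 g, mem_N_of_conj fun a ha => ?_⟩
    rw [hm] at ha ⊢
    have := conj_mem_of_mem_N hx.2 ha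
    convert this using 1; group
  · intro hy
    refine ⟨g⁻¹ * y * g⁻¹⁻¹, ⟨h.conj y hy.1 _, mem_N_of_conj fun a ha => ?_⟩, by group⟩
    have h1 : g * a * g⁻¹ ∈ ((g • P : Sylow r G) : Subgroup G) := by rw [hm]; simpa [mul_assoc] using ha
    have := (hm _).1 (conj_mem_of_mem_N hy.2 h1)
    convert this using 1; group

theorem C2.blk_conj' (h : C2 p r K) {U : Set G} (hU : IsBlk r K U) (g : G) :
    IsBlk r K ((fun x => g * x * g⁻¹) '' U) := by
  obtain ⟨P, rfl⟩ := hU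
  exact ⟨g • P, h.blk_smul P g⟩

theorem C2.blk_trans (h : C2 p r K) {U U' : Set G} (hU : IsBlk r K U) (hU' : IsBlk r K U') :
    ∃ g : G, U' = (fun x => g * x * g⁻¹) '' U := by
  haveI := Fact.mk h.hr
  obtain ⟨P, rfl⟩ := hU
  obtain ⟨P', rfl⟩ := hU'
  obtain ⟨g, rfl⟩ := MulAction.exists_smul_eq G P P'
  exact ⟨g, (h.blk_smul P g).symm⟩

theorem C2.eq_of_sub' (h : C2 p r K) {U U' : Set G} (hU : IsBlk r K U) (hU' : IsBlk r K U')
    (hs : U ⊆ U') : U = U' := by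
  obtain ⟨g, e⟩ := h.blk_trans hU hU'
  refine Set.eq_of_subset_of_ncard_le hs ?_ (Set.toFinite _)
  rw [e]
  exact Set.ncard_image_le (Set.toFinite _)

theorem C2.cl_le' (h : C2 p r K) {U : Set G} (hU : IsBlk r K U) : closure U ≤ NS U := by
  obtain ⟨P, rfl⟩ := hU
  exact (cl_le_N _).trans (h.le_NS_inter _)

theorem C2.pg' (h : C2 p r K) {U : Set G} (hU : IsBlk r K U) : IsPGroup r (Dl U) := by
  obtain ⟨P, rfl⟩ := hU
  exact P.2.to_le (h.Dl_le_P P)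

theorem sub' {U : Set G} (hU : IsBlk r K U) : U ⊆ K := by
  obtain ⟨P, rfl⟩ := hU
  exact Set.inter_subset_left

theorem C2.mem_NR (h : C2 p r K) {U : Set G} (hU : IsBlk r K U) {x : G} (hx : x ∈ U) :
    x ∈ N (Dl U) := NS_le_NS_Dl U (h.cl_le' hU (subset_closure hx))

theorem C2.ex_conj' (h : C2 p r K) {U : Set G} (hU : IsBlk r K U) {x y : G} (hx : x ∈ U)
    (hy : y ∈ U) : ∃ f ∈ Dl U, y = f * x * f⁻¹ :=
  h.conj_of' (sub' hU hx) (sub' hU hy) (h.pg' hU) (h.mem_NR hU hx) (mem_Dl hx hy)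

theorem C2.ex_blk' (h : C2 p r K) {x : G} (hx : x ∈ K) {B : Subgroup G} (hB : IsPGroup r B)
    (hn : x ∈ NS (B : Set G)) :
    ∃ U, IsBlk r K U ∧ x ∈ U ∧ B ≤ NS U ∧ ∀ y ∈ K, x⁻¹ * y ∈ B → y ∈ U := by
  obtain ⟨P, hBP, hxP⟩ := h.ex_sylow hx hB hn
  refine ⟨_, ⟨P, rfl⟩, ⟨hx, hxP⟩, hBP.trans ((le_N _).trans (h.le_NS_inter _)), fun y hy hxy => ⟨hy, ?_⟩⟩
  have := mul_mem hxP (le_N _ (hBP hxy))
  rwa [mul_inv_cancel_left] at this

theorem C2.pair_blk' (h : C2 p r K) {x y : G} (hx : x ∈ K) (hy : y ∈ K) :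
    ∃ U, IsBlk r K U ∧ x ∈ U ∧ y ∈ U := by
  obtain ⟨F, hF, hxF, hxy⟩ := h.pair x hx y hy
  obtain ⟨U, hU, h1, -, h2⟩ := h.ex_blk' hx hF hxF
  exact ⟨U, hU, h1, h2 y hy hxy⟩

theorem C2.Z_comm' (h : C2 p r K) {U : Set G} (hU : IsBlk r K U) {e : G} (he : e ∈ ZZ U) {g : G}
    (hg : g ∈ closure U) : Commute e g := by
  have h1 : ∀ x ∈ U, Commute e x := fun x hx => by
    have hle : Dl U ≤ ⁅Dl U, zpowers x⁆ := by
      have h0 : ∀ y ∈ U, x⁻¹ * y ∈ ⁅Dl U, zpowers x⁆ := fun y hy => by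
        obtain ⟨f, hf, rfl⟩ := h.ex_conj' hU hx hy
        rw [Subgroup.commutator_comm]
        have := commutator_mem_commutator (inv_mem (mem_zpowers x)) hf
        convert this using 1
        rw [commutatorElement_def]; group
      refine Dl_le fun y hy w hw => ?_
      have := mul_mem (inv_mem (h0 y hy)) (h0 w hw)
      convert this using 1; group
    have : ZZ U ≤ C1 x := by
      rw [ZZ, Subgroup.commutator_le]
      intro a ha b hb
      exact mem_C1.2 (h.heis x (sub' hU hx) _ (h.pg' hU) (h.mem_NR hU hx) a (hle ha) b (hle hb)).symm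
    exact mem_C1.1 (this he)
  have : closure U ≤ C1 e := (closure_le _).2 fun x hx => mem_C1.2 (h1 x hx).symm
  exact (mem_C1.1 (this hg)).symm

theorem C2.decomp (h : C2 p r K) {U : Set G} (hU : IsBlk r K U) {x : G} (hx : x ∈ U) {g : G}
    (hg : g ∈ Dl U) : ∃ f ∈ Dl U, ∃ z ∈ ZZ U, g = x⁻¹ * (f * x * f⁻¹) * z := by
  have hτ : ∀ f ∈ Dl U, x⁻¹ * (f * x * f⁻¹) ∈ Dl U := fun f hf => by
    have := mul_mem (conj_mem_of_mem_N (inv_mem (h.mem_NR hU hx)) hf) (inv_mem hf)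
    convert this using 1; group
  let S : Subgroup G :=
    { carrier := {g | ∃ f ∈ Dl U, ∃ z ∈ ZZ U, g = x⁻¹ * (f * x * f⁻¹) * z}
      one_mem' := ⟨1, one_mem _, 1, one_mem _, by group⟩
      mul_mem' := by
        rintro _ _ ⟨f, hf, z, hz, rfl⟩ ⟨f', hf', z', hz', rfl⟩
        refine ⟨f * f', mul_mem hf hf', ⁅(x⁻¹ * (f' * x * f'⁻¹))⁻¹, f⁆⁻¹ * (z * z'),
          mul_mem (inv_mem (comm_mem_ZZ (inv_mem (hτ f' hf')) hf)) (mul_mem hz hz'), ?_⟩
        have c := (h.Z_comm' hU hz (Dl_le_cl U (hτ f' hf'))).eq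
        calc _ = x⁻¹ * (f * x * f⁻¹) * (z * (x⁻¹ * (f' * x * f'⁻¹))) * z' := by group
          _ = _ := by rw [c, commutatorElement_def]; group
      inv_mem' := by
        rintro _ ⟨f, hf, z, hz, rfl⟩
        refine ⟨f⁻¹, inv_mem hf, ⁅(x⁻¹ * (f⁻¹ * x * f⁻¹⁻¹))⁻¹, f⁆ * z⁻¹,
          mul_mem (comm_mem_ZZ (inv_mem (hτ _ (inv_mem hf))) hf) (inv_mem hz), ?_⟩
        have c := (h.Z_comm' hU (inv_mem hz) (Dl_le_cl U (inv_mem (hτ f hf)))).eq
        rw [mul_inv_rev, c, commutatorElement_def]; group }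
  have h0 : ∀ y ∈ U, x⁻¹ * y ∈ S := fun y hy => by
    obtain ⟨f, hf, rfl⟩ := h.ex_conj' hU hx hy
    exact ⟨f, hf, 1, one_mem _, by group⟩
  have : Dl U ≤ S := Dl_le fun y hy w hw => by
    have := mul_mem (inv_mem (h0 y hy)) (h0 w hw)
    convert this using 1; group
  exact this hg

theorem C2.cent_Z' (h : C2 p r K) {U : Set G} (hU : IsBlk r K U) {x : G} (hx : x ∈ U) {g : G}
    (hg : g ∈ Dl U) (hc : Commute g x) : g ∈ ZZ U := by
  classical
  set R := Dl U with hR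
  set Cx : Subgroup R := (C1 x).subgroupOf R with hCx
  have hτ : ∀ f ∈ R, x⁻¹ * (f * x * f⁻¹) ∈ R := fun f hf => by
    have := mul_mem (conj_mem_of_mem_N (inv_mem (h.mem_NR hU hx)) hf) (inv_mem hf)
    convert this using 1; group
  let Φ : (R ⧸ Cx) × ZZ U → R := fun q =>
    ⟨x⁻¹ * ((q.1.out : R) * x * ((q.1.out : R) : G)⁻¹) * q.2, mul_mem (hτ _ (q.1.out).2) (ZZ_le U q.2.2)⟩
  have hΦ : Function.Surjective Φ := by
    rintro ⟨a, ha⟩
    obtain ⟨f, hf, z, hz, rfl⟩ := h.decomp hU hx ha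
    refine ⟨(QuotientGroup.mk ⟨f, hf⟩, ⟨z, hz⟩), Subtype.ext ?_⟩
    obtain ⟨c, hc⟩ := QuotientGroup.mk_out_eq_mul Cx (⟨f, hf⟩ : R)
    have hc2 : ((c : R) : G) * x = x * ((c : R) : G) := mem_C1.1 c.2
    simp only [Φ, hc, coe_mul, mul_inv_rev]
    calc x⁻¹ * (f * ((c : R) : G) * x * (((c : R) : G)⁻¹ * f⁻¹)) * z
        = x⁻¹ * (f * (((c : R) : G) * x) * (((c : R) : G)⁻¹ * f⁻¹)) * z := by group
      _ = _ := by rw [hc2]; group
  have h1 := Nat.card_le_card_of_surjective Φ hΦ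
  rw [Nat.card_prod, Subgroup.card_eq_card_quotient_mul_card_subgroup Cx] at h1
  have h2 : Nat.card Cx ≤ Nat.card (ZZ U) := Nat.le_of_mul_le_mul_left h1 Nat.card_pos
  have h3 : Nat.card Cx = Nat.card (C1 x ⊓ R : Subgroup G) := by
    rw [hCx, ← inf_subgroupOf_right]
    exact Nat.card_congr (subgroupOfEquivOfLe inf_le_right).toEquiv
  have h4 : ZZ U ≤ C1 x ⊓ R := fun e he =>
    ⟨mem_C1.2 (h.Z_comm' hU he (subset_closure hx)), ZZ_le U he⟩
  have h5 : ZZ U = C1 x ⊓ R := eq_of_le_of_card_ge h4 (h3 ▸ h2)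
  rw [h5]
  exact ⟨mem_C1.2 hc, hg⟩

theorem conj_mem_Dl2 {S T : Set G} {g : G} (hg : ∀ x ∈ S, g * x * g⁻¹ ∈ T) {d : G} (hd : d ∈ Dl S) :
    g * d * g⁻¹ ∈ Dl T := by
  induction hd using Subgroup.closure_induction with
  | mem d hd =>
    obtain ⟨x, hx, y, hy, rfl⟩ := hd
    have := mem_Dl (hg x hx) (hg y hy)
    convert this using 1; group
  | one => simp
  | mul a b _ _ ha hb =>
    have := Subgroup.mul_mem _ ha hb
    convert this using 1; group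
  | inv a _ ha =>
    have := Subgroup.inv_mem _ ha
    convert this using 1; group

theorem MC.K_ne (h : MC p r K) : ∃ x, x ∈ K := by
  by_contra hn
  push Not at hn
  refine h.bad (IsPGroup.of_bot.to_le (Dl_le fun x hx => (hn x hx).elim))

theorem MC.nonempty' (h : MC p r K) {U : Set G} (hU : IsBlk r K U) : ∃ x, x ∈ U := by
  obtain ⟨x, hx⟩ := h.K_ne
  obtain ⟨U0, hU0, h1, -⟩ := h.pair_blk' hx hx
  obtain ⟨g, rfl⟩ := h.blk_trans hU0 hU
  exact ⟨_, x, h1, rfl⟩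

theorem MC.ne' (h : MC p r K) {U : Set G} (hU : IsBlk r K U) : ∃ x ∈ K, x ∉ U := by
  by_contra hn
  push Not at hn
  exact h.bad ((h.pg' hU).to_le (Dl_mono hn))

theorem mem_of_cl' {U : Set G} (hU : IsBlk r K U) {y : G} (hy : y ∈ K) (hc : y ∈ closure U) :
    y ∈ U := by
  obtain ⟨P, rfl⟩ := hU
  exact ⟨hy, cl_le_N _ hc⟩

theorem MC.fl' (h : MC p r K) {H : Subgroup G} (hH : H ≠ ⊤) {x : G} (hx : x ∈ K) (hxH : x ∈ H)
    {B : Subgroup G} (hB : IsPGroup r B) (hBH : B ≤ H) (hn : x ∈ NS (B : Set G)) :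
    ∃ U, IsBlk r K U ∧ B ≤ NS U ∧ K ∩ (H : Set G) ⊆ U := by
  have hD : H ≤ N (Dl (K ∩ (H : Set G))) := (h.le_NS_inter H).trans (NS_le_NS_Dl _)
  obtain ⟨U, hU, -, h2, h3⟩ := h.ex_blk' hx
    (hB.to_sup_of_normal_right' (h.flat H hH) (hBH.trans hD)) (mem_N_sup' hn (hD hxH))
  exact ⟨U, hU, le_sup_left.trans h2, fun y hy => h3 y hy.1 (mem_sup_right (mem_Dl ⟨hx, hxH⟩ hy))⟩

theorem MC.ti' (h : MC p r K) {U : Set G} (hU : IsBlk r K U) {e : G} (he : e ∈ ZZ U) (e1 : e ≠ 1)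
    {y : G} (hy : y ∈ K) (hc : Commute e y) : y ∈ U := by
  have hH : C1 e ≠ ⊤ := fun e2 => e1 (h.cen e fun x _ => (mem_C1.1 (e2 ▸ mem_top x : x ∈ C1 e)).symm)
  have hs : U ⊆ K ∩ (C1 e : Set G) := fun x hx =>
    ⟨sub' hU hx, mem_C1.2 (h.Z_comm' hU he (subset_closure hx)).symm⟩
  obtain ⟨x, hx⟩ := h.nonempty' hU
  obtain ⟨U', hU', -, h2⟩ := h.fl' hH (hs hx).1 (hs hx).2 IsPGroup.of_bot bot_le
    (mem_N_of_conj fun a ha => by rw [mem_bot.1 ha]; simp)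
  rw [h.eq_of_sub' hU hU' (hs.trans h2)]
  exact h2 ⟨hy, mem_C1.2 hc.symm⟩

theorem MC.Z_ne' (h : MC p r K) {U : Set G} (hU : IsBlk r K U) : ∃ e ∈ ZZ U, e ≠ 1 := by
  by_contra hn
  push Not at hn
  have hall : ∀ U', IsBlk r K U' → ∀ e ∈ ZZ U', e = 1 := fun U' hU' => by
    obtain ⟨g, e⟩ := h.blk_trans hU' hU
    have : ZZ U' ≤ ⊥ := by
      rw [ZZ, Subgroup.commutator_le]
      intro a ha b hb
      have hg : ∀ x ∈ U', g * x * g⁻¹ ∈ U := fun x hx => e ▸ ⟨x, hx, rfl⟩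
      have := hn _ (comm_mem_ZZ (conj_mem_Dl2 hg ha) (conj_mem_Dl2 hg hb))
      rw [← conjugate_commutatorElement] at this
      simpa [mul_inv_eq_iff_eq_mul] using this
    exact fun e he => this he
  obtain ⟨z, hz⟩ := h.K_ne
  have hcl : ∀ x ∈ K, ∀ y ∈ K, ∃ f, y = f * x * f⁻¹ := fun x hx y hy => by
    obtain ⟨U', hU', h1, h2⟩ := h.pair_blk' hx hy
    obtain ⟨f, -, e⟩ := h.ex_conj' hU' h1 h2
    exact ⟨f, e⟩
  have hN : ∀ M : Subgroup G, M.Normal → z ∈ M → M = ⊤ := fun M hM hzM => by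
    rw [eq_top_iff, ← h.gen, closure_le]
    intro y hy
    obtain ⟨f, rfl⟩ := hcl z hz y hy
    exact hM.conj_mem z hzM f
  have hsq : ∀ g : G, ∃ c : G, z * (g * z * g⁻¹) = c * (z * z) * c⁻¹ := fun g => by
    obtain ⟨U', hU', h1, h2⟩ := h.pair_blk' hz (h.conj z hz g)
    have hb : z * z ∈ N (Dl U') := mul_mem (h.mem_NR hU' h1) (h.mem_NR hU' h1)
    have hbp : (z * z) ^ p = 1 := by rw [(Commute.refl z).mul_pow, h.ord z hz, one_mul]
    obtain ⟨f, -, c, hc, e⟩ := exists_conj_cent_coset hb (h.cop hbp (h.pg' hU'))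
      (conj_mem_of_mem_N hb (mem_Dl h1 h2))
    have hcz : Commute c z := by
      have h3 : Commute c (z * z) := mem_C1.1 hc.2
      obtain ⟨k, hk⟩ := h.hp.odd_of_ne_two h.hp2
      have h4 : z = (z * z) ^ (k + 1) := by
        rw [← pow_two, ← pow_mul, show 2 * (k + 1) = p + 1 by omega, pow_succ, h.ord z hz, one_mul]
      rw [h4]; exact h3.pow_right _
    refine ⟨f, ?_⟩
    rw [hall U' hU' c (h.cent_Z' hU' h1 hc.1 hcz), one_mul] at e
    rw [← e]; group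
  refine h.bad fun a => ?_
  have ha : (a : G) ∈ ⁅(⊤ : Subgroup G), (⊤ : Subgroup G)⁆ := by
    refine (Dl_le fun x hx y hy => ?_) a.2
    obtain ⟨f, rfl⟩ := hcl x hx y hy
    have := commutator_mem_commutator (mem_top x⁻¹) (mem_top f)
    convert this using 1
    rw [commutatorElement_def]; group
  obtain ⟨g, hg⟩ := CfsgFS.ck hN hsq ha
  obtain ⟨F, hF, -, hxy⟩ := h.pair z hz _ (h.conj z hz g)
  rw [hg, inv_mul_cancel_left] at hxy
  obtain ⟨k, hk⟩ := hF ⟨a, hxy⟩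
  exact ⟨k, Subtype.ext (congrArg Subtype.val hk :)⟩

theorem MC.bk (h : MC p r K) : BK p r K where
  toMC := h
  eq_of_comm := fun _ hx _ hy => h.eq_of_comm' hx hy
  conj_of := fun _ hx _ hy _ => h.conj_of' hx hy
  ex_blk := fun _ hx _ => h.ex_blk' hx
  pair_blk := fun _ hx _ hy => h.pair_blk' hx hy
  fl := fun _ hH _ hx hxH _ => h.fl' hH hx hxH
  sub := fun _ => sub'
  ne := fun _ => h.ne'
  nonempty := fun _ => h.nonempty'
  eq_of_sub := fun _ _ => h.eq_of_sub'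
  blk_conj := fun _ => h.blk_conj'
  cl_ne := fun U hU e => by
    obtain ⟨x, hx, h1⟩ := h.ne' hU
    exact h1 (mem_of_cl' hU hx (e ▸ mem_top x))
  mem_of_cl := fun _ hU _ => mem_of_cl' hU
  pg := fun _ => h.pg'
  cl_le := fun _ => h.cl_le'
  ex_conj := fun _ hU _ hx _ hy => h.ex_conj' hU hx hy
  Z_comm := fun _ hU _ he _ => h.Z_comm' hU he
  cent_Z := fun _ hU _ hx _ => h.cent_Z' hU hx
  pow_Z := fun U hU g hg => by
    obtain ⟨x, hx⟩ := h.nonempty' hU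
    obtain ⟨f, hf, z, hz, rfl⟩ := h.decomp hU hx hg
    have hy : f * x * f⁻¹ ∈ U := (mem_NS.1 (h.cl_le' hU (Dl_le_cl U hf)) x).1 hx
    rw [(h.Z_comm' hU hz (Dl_le_cl U (mem_Dl hx hy))).symm.mul_pow]
    exact mul_mem (h.cent_Z' hU hx (pow_mem (mem_Dl hx hy) r)
      (h.sq x (sub' hU hx) _ (sub' hU hy)).symm) (pow_mem hz r)
  ti := fun _ hU _ he e1 _ => h.ti' hU he e1
  mem_N := fun U hU e he e1 g hg => by
    rw [mem_NS]
    intro n
    constructor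
    · intro hn
      refine h.ti' hU hg (by simpa [mul_inv_eq_iff_eq_mul] using e1) (h.conj n (sub' hU hn) g) ?_
      have := (h.Z_comm' hU he (subset_closure hn)).eq
      show _ = _
      calc g * e * g⁻¹ * (g * n * g⁻¹) = g * (e * n) * g⁻¹ := by group
        _ = _ := by rw [this]; group
    · intro hn
      have hK : n ∈ K := by
        have := h.conj _ (sub' hU hn) g⁻¹
        simpa [mul_assoc] using this
      refine h.ti' hU he e1 hK ?_
      have := (h.Z_comm' hU hg (subset_closure hn)).eq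
      show _ = _
      calc e * n = g⁻¹ * (g * e * g⁻¹ * (g * n * g⁻¹)) * g := by group
        _ = _ := by rw [this]; group
  Z_inf := fun U U' hU hU' e he he' e1 => h.eq_of_sub' hU hU' fun y hy =>
    h.ti' hU' he' e1 (sub' hU hy) (h.Z_comm' hU he (subset_closure hy))
  Z_ne := fun _ => h.Z_ne'
  no_sub := fun M Q hM hQM hQ hn => by
    haveI := Fact.mk h.hr
    have h1 : Q ≤ Op r M := le_Op hQM (nrm_of_le_N hn) hQ
    have h2 : (Op r M).Normal := by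
      refine ⟨fun a ha g => ?_⟩
      have e : cj g M = M := mem_N.1 (mem_N_of_conj fun b hb => hM.conj_mem b hb g)
      have := cj_Op r M g
      rw [e] at this
      rw [← this]
      exact conj_mem_cj.2 ha
    exact le_bot_iff.1 (h.nor _ h2 (isPGroup_Op r M) ▸ h1)

end CfsgQ
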