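import Mathlib

/-!
Upper bound for the element orders of `Sp₈(q)`, `q` even, through the roots of the characteristic
polynomial.
-/

set_option autoImplicit false

namespace CfsgH1

open Polynomial

theorem sum_count_le {α : Type*} [DecidableEq α] (s : Finset α) (M : Multiset α) :
    ∑ a ∈ s, M.count a ≤ M.card :=
  (Finset.sum_le_sum_of_subset (Finset.subset_union_left (s₂ := M.toFinset))).trans
    (Multiset.sum_count_eq_card (by simp +contextual)).le

/-- the maximal element orders `2 ^ e * m` of `Sp₈(s + 1)` -/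
def lam (s : ℕ) : List (ℕ × ℕ) :=
  [(0, (s + 1) ^ 4 + 1), (0, s * (s + 2) * ((s + 1) ^ 2 + 1)), (0, s * (s ^ 2 + 3 * s + 3) * (s + 2)),
    (0, (s + 2) * (s ^ 2 + s + 1) * s), (1, (s + 2) * (s ^ 2 + s + 1)), (1, s * (s ^ 2 + 3 * s + 3)),
    (1, ((s + 1) ^ 2 + 1) * (s + 2)), (1, ((s + 1) ^ 2 + 1) * s), (2, (s + 1) ^ 2 + 1),
    (2, s * (s + 2)), (3, s + 2), (3, s)]

section
variable {K : Type*} [Field K] [CharP K 2] {φ : K →+* K}

/-- `φ^d` fixes or inverts `r` -/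
def Hit (φ : K →+* K) (r : K) (d : ℕ) : Prop := 0 < d ∧ (φ^[d] r = r ∨ φ^[d] r = r⁻¹)

omit [CharP K 2] in
theorem iter_inv (d : ℕ) (r : K) : φ^[d] r⁻¹ = (φ^[d] r)⁻¹ := by
  rw [← RingHom.coe_pow, map_inv₀]

omit [CharP K 2] in
theorem iter_map (d : ℕ) (r : K) : φ^[d] (φ r) = φ (φ^[d] r) :=
  (Function.Commute.iterate_self φ d) r

theorem orbit_bound [DecidableEq K] {R : Multiset K} (h1 : R.map φ = R) (h2 : R.map (·⁻¹) = R)
    {r : K} (r0 : r ≠ 0) (r1 : r ≠ 1) {d : ℕ} (hd : ∀ j < d, ¬ Hit φ r j) (p : K → Prop)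
    [DecidablePred p] (p1 : ∀ x, p x → p (φ x)) (p2 : ∀ x, p x → p x⁻¹) (pr : p r) :
    2 * d * R.count r ≤ (R.filter p).card := by
  let f : ℕ × Bool → K := fun t => if t.2 then φ^[t.1] r else (φ^[t.1] r)⁻¹
  have c1 : ∀ i, R.count (φ^[i] r) = R.count r ∧ p (φ^[i] r) := fun i => by
    induction i with
    | zero => exact ⟨rfl, pr⟩
    | succ i ih =>
      rw [Function.iterate_succ_apply', ← ih.1]
      exact ⟨by conv_lhs => rw [← h1, Multiset.count_map_eq_count' _ _ φ.injective], p1 _ ih.2⟩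
  have c2 : ∀ t, (R.filter p).count (f t) = R.count r := by
    rintro ⟨i, _ | _⟩
    · have := Multiset.count_map_eq_count' (·⁻¹) R inv_injective (φ^[i] r)
      rw [h2] at this
      simp [f, p2 _ (c1 i).2, this, (c1 i).1]
    · simp [f, (c1 i).2, (c1 i).1]
  have key : ∀ i j a b, i + j < d → f (i, a) = f (i + j, b) → (i, a) = (i + j, b) := by
    intro i j a b hj e
    have inj : Function.Injective φ^[i] := φ.injective.iterate i
    have e' : (a = b ∧ φ^[j] r = r) ∨ (a ≠ b ∧ φ^[j] r = r⁻¹) := by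
      cases a <;> cases b <;>
        simp only [f, Function.iterate_add_apply, ← iter_inv, inj.eq_iff, if_true, Bool.false_eq_true,
          if_false] at e
      · exact .inl ⟨rfl, by rw [iter_inv] at e; exact (inv_injective e).symm⟩
      · exact .inr ⟨by simp, e.symm⟩
      · exact .inr ⟨by simp, by rw [iter_inv] at e; exact inv_eq_iff_eq_inv.1 e.symm⟩
      · exact .inl ⟨rfl, e.symm⟩
    obtain rfl : j = 0 := by_contra fun j0 =>
      hd j (by omega) ⟨Nat.pos_of_ne_zero j0, e'.imp And.right And.right⟩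
    rcases e' with e' | e'
    · simp [e'.1]
    · refine absurd ?_ r1
      have : (r - 1) ^ 2 = 0 := by
        have := mul_inv_cancel₀ r0
        rw [← show r = r⁻¹ from e'.2] at this
        linear_combination this + (1 - r) * CharTwo.two_eq_zero (R := K)
      exact sub_eq_zero.1 (pow_eq_zero_iff two_ne_zero |>.1 this)
  have inj : Set.InjOn f (Finset.range d ×ˢ (Finset.univ : Finset Bool) : Finset _) := by
    rintro ⟨i, a⟩ hi ⟨j, b⟩ hj e
    simp only [Finset.coe_product, Set.mem_prod, Finset.coe_range, Set.mem_Iio] at hi hj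
    rcases le_total i j with h | h
    · obtain ⟨j, rfl⟩ := Nat.exists_eq_add_of_le h
      exact key i j a b hj.1 e
    · obtain ⟨i, rfl⟩ := Nat.exists_eq_add_of_le h
      exact (key j i b a hi.1 e.symm).symm
  have := sum_count_le ((Finset.range d ×ˢ Finset.univ).image f) (R.filter p)
  rw [Finset.sum_image inj] at this
  simpa [c2, mul_comm d] using this

theorem exists_lam [DecidableEq K] {s : ℕ} (hφ : ∀ x, φ x = x ^ (s + 1)) {R : Multiset K}
    (h0 : 0 ∉ R) (h1 : R.map φ = R) (h2 : R.map (·⁻¹) = R) (h8 : R.card = 8) :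
    ∃ t ∈ lam s, ∀ r ∈ R, r ^ t.2 = 1 ∧ R.count r ≤ 2 ^ t.1 := by
  classical
  let dg : K → ℕ := fun r => sInf {d | Hit φ r d}
  let τ : K → ℕ × Bool := fun r => if r = 1 then (0, true) else (dg r, decide (φ^[dg r] r = r))
  have τ1 : ∀ x, τ (φ x) = τ x := fun x => by
    have : dg (φ x) = dg x := by
      simp only [dg, Hit, iter_map, ← map_inv₀, φ.injective.eq_iff]
    simp only [τ, this, iter_map, φ.injective.eq_iff, map_eq_one_iff φ φ.injective]
  have τ2 : ∀ x, τ x⁻¹ = τ x := fun x => by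
    have : dg x⁻¹ = dg x := by simp only [dg, Hit, iter_inv, inv_inj]
    simp only [τ, this, iter_inv, inv_inj, inv_eq_one]
  have it : ∀ d x, φ^[d] x = x ^ (s + 1) ^ d := fun d x => by
    induction d with
    | zero => simp
    | succ d ih => rw [Function.iterate_succ_apply', ih, hφ, ← pow_mul, ← pow_succ]
  obtain ⟨w, hw⟩ : ∃ w : ℕ → Bool → ℕ, ∀ d ε, w d ε = (R.map τ).count (d, ε) := ⟨_, fun _ _ => rfl⟩
  have sum := sum_count_le {(0, true), (1, true), (1, false), (2, true), (2, false), (3, true),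
    (3, false), (4, true), (4, false)} (R.map τ)
  simp only [← hw, Multiset.card_map, h8] at sum
  rw [Finset.sum_insert (by decide), Finset.sum_insert (by decide), Finset.sum_insert (by decide),
    Finset.sum_insert (by decide), Finset.sum_insert (by decide), Finset.sum_insert (by decide),
    Finset.sum_insert (by decide), Finset.sum_insert (by decide), Finset.sum_singleton] at sum
  simp only [← hw] at sum
  have one : R.count 1 ≤ w 0 true := by
    rw [hw, Multiset.count_map]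
    exact (Multiset.count_filter_of_pos (by simp [τ])).ge.trans (Multiset.count_le_card 1 _)
  have main : ∀ r ∈ R, r ≠ 1 → ∃ d ε, τ r = (d, ε) ∧ 0 < d ∧ d < 5 ∧ 2 * d * R.count r ≤ w d ε ∧
      ∀ m, (s + 1) ^ d = (if ε then m + 1 else m - 1) → 0 < m → r ^ m = 1 := fun r hr r1 => by
    have r0 : r ≠ 0 := fun e => h0 (e ▸ hr)
    have c : 0 < R.count r := Multiset.count_pos.2 hr
    have ex : ∃ j < 5, Hit φ r j := by
      by_contra! h
      have := orbit_bound h1 h2 r0 r1 h (fun _ => True) (by simp) (by simp) trivial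
      simp only [Multiset.filter_true, h8] at this
      omega
    obtain ⟨j, hj, ex⟩ := ex
    have hd : Hit φ r (dg r) := Nat.sInf_mem (s := {d | Hit φ r d}) ⟨j, ex⟩
    refine ⟨dg r, decide (φ^[dg r] r = r), if_neg r1, hd.1, (Nat.sInf_le ex).trans_lt hj, ?_, fun m hm m0 => ?_⟩
    · rw [hw, Multiset.count_map]
      exact orbit_bound h1 h2 r0 r1 (fun j hj => Nat.notMem_of_lt_sInf hj) _
        (fun x e => by rwa [τ1]) (fun x e => by rwa [τ2]) (by simp [τ, r1])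
    · by_cases e : φ^[dg r] r = r
      · rw [if_pos (by simpa using e)] at hm
        rw [it, hm, pow_succ] at e
        exact (mul_eq_right₀ r0).1 e
      · rw [if_neg (by simpa using e)] at hm
        have e' := hd.2.resolve_left e
        rw [it, hm] at e'
        rw [← Nat.sub_add_cancel m0, pow_succ, e', inv_mul_cancel₀ r0]
  have wpos : ∀ d ε, w d ε = 0 ∨ 2 * d ≤ w d ε := fun d ε => by
    refine or_iff_not_imp_left.2 fun h => ?_
    rw [hw, Multiset.count_eq_zero, not_not, Multiset.mem_map] at h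
    obtain ⟨r, hr, e⟩ := h
    by_cases r1 : r = 1
    · simp [τ, r1] at e
      omega
    · obtain ⟨d', ε', e', -, -, k, -⟩ := main r hr r1
      obtain ⟨rfl, rfl⟩ := Prod.mk.inj (e'.symm.trans e)
      exact (Nat.le_mul_of_pos_right _ (Multiset.count_pos.2 hr)).trans k
  have leaf : ∀ t ∈ lam s, ∀ k, 2 ^ t.1 = k → w 0 true ≤ k → (∀ ε, w 1 ε < 2 * (k + 1)) →
      (∀ ε, w 2 ε < 4 * (k + 1)) → (0 < w 1 true → s ∣ t.2) → (0 < w 1 false → s + 2 ∣ t.2) →
      (0 < w 2 true → s * (s + 2) ∣ t.2) → (0 < w 2 false → (s + 1) ^ 2 + 1 ∣ t.2) →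
      (0 < w 3 true → s * (s ^ 2 + 3 * s + 3) ∣ t.2) →
      (0 < w 3 false → (s + 2) * (s ^ 2 + s + 1) ∣ t.2) →
      (0 < w 4 true → s * (s + 2) * ((s + 1) ^ 2 + 1) ∣ t.2) →
      (0 < w 4 false → (s + 1) ^ 4 + 1 ∣ t.2) →
      ∃ t ∈ lam s, ∀ r ∈ R, r ^ t.2 = 1 ∧ R.count r ≤ 2 ^ t.1 := by
    rintro t ht _ rfl a0 a1 a2 b1 b2 b3 b4 b5 b6 b7 b8
    refine ⟨t, ht, fun r hr => ?_⟩
    by_cases r1 : r = 1
    · exact ⟨by simp [r1], r1 ▸ one.trans a0⟩
    obtain ⟨d, ε, -, d0, d5, k1, k2⟩ := main r hr r1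
    have c : 0 < R.count r := Multiset.count_pos.2 hr
    have p : 0 < 2 ^ t.1 := by positivity
    have fin : ∀ {m}, r ^ m = 1 → m ∣ t.2 → r ^ t.2 = 1 := by
      rintro m h ⟨k, e⟩
      rw [e, pow_mul, h, one_pow]
    have a1' := a1 ε
    have a2' := a2 ε
    have s0 : ∀ m, m = 0 → m ∣ t.2 → r ^ t.2 = 1 := by
      rintro _ rfl h
      rw [zero_dvd_iff.1 h, pow_zero]
    have fin' : ∀ m, m ∣ t.2 → (s + 1) ^ d = (if ε then m + 1 else m - 1) → r ^ t.2 = 1 :=
      fun m h e => (Nat.eq_zero_or_pos m).elim (fun m0 => s0 m m0 h) fun m0 => fin (k2 m e m0) h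
    interval_cases d <;> cases ε <;> refine ⟨?_, by omega⟩
    · exact fin' _ (b2 (by omega)) (by simp)
    · exact fin' _ (b1 (by omega)) (by simp)
    · exact fin' _ (b4 (by omega)) (by simp)
    · exact fin' _ (b3 (by omega)) (by simp; ring)
    · exact fin' _ (b6 (by omega)) (Nat.eq_sub_of_add_eq (by ring))
    · exact fin' _ (b5 (by omega)) (by simp; ring)
    · exact fin' _ (b8 (by omega)) (by simp)
    · exact fin' _ (b7 (by omega)) (by simp; ring)
  have w1 := wpos 1 true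
  have w2 := wpos 1 false
  have w3 := wpos 2 true
  have w4 := wpos 2 false
  have w5 := wpos 3 true
  have w6 := wpos 3 false
  have w7 := wpos 4 true
  have w8 := wpos 4 false
  have go : ∀ i : Fin 12, (lam s)[i.1]'i.2 ∈ lam s := fun i => List.getElem_mem _
  refine if c1 : 0 < w 4 false then leaf _ (go 0) 1 rfl ?_ ?_ ?_ ?_ ?_ ?_ ?_ ?_ ?_ ?_ ?_
    else if c2 : 0 < w 3 true then (if c : 1 < w 0 true then leaf _ (go 5) 2 rfl ?_ ?_ ?_ ?_ ?_ ?_ ?_ ?_ ?_ ?_ ?_
      else leaf _ (go 2) 1 rfl ?_ ?_ ?_ ?_ ?_ ?_ ?_ ?_ ?_ ?_ ?_)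
    else if c3 : 0 < w 3 false then (if c : 1 < w 0 true then leaf _ (go 4) 2 rfl ?_ ?_ ?_ ?_ ?_ ?_ ?_ ?_ ?_ ?_ ?_
      else leaf _ (go 3) 1 rfl ?_ ?_ ?_ ?_ ?_ ?_ ?_ ?_ ?_ ?_ ?_)
    else if c4 : w 0 true ≤ 1 ∧ w 1 true < 4 ∧ w 1 false < 4 ∧ w 2 true < 8 ∧ w 2 false < 8 then
      leaf _ (go 1) 1 rfl ?_ ?_ ?_ ?_ ?_ ?_ ?_ ?_ ?_ ?_ ?_
    else if c5 : 0 < w 2 false then (if c : 0 < w 1 true then leaf _ (go 7) 2 rfl ?_ ?_ ?_ ?_ ?_ ?_ ?_ ?_ ?_ ?_ ?_
      else if c' : 0 < w 1 false then leaf _ (go 6) 2 rfl ?_ ?_ ?_ ?_ ?_ ?_ ?_ ?_ ?_ ?_ ?_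
      else leaf _ (go 8) 4 rfl ?_ ?_ ?_ ?_ ?_ ?_ ?_ ?_ ?_ ?_ ?_)
    else if c6 : w 0 true ≤ 4 then leaf _ (go 9) 4 rfl ?_ ?_ ?_ ?_ ?_ ?_ ?_ ?_ ?_ ?_ ?_
    else if c7 : 0 < w 1 false then leaf _ (go 10) 8 rfl ?_ ?_ ?_ ?_ ?_ ?_ ?_ ?_ ?_ ?_ ?_
    else leaf _ (go 11) 8 rfl ?_ ?_ ?_ ?_ ?_ ?_ ?_ ?_ ?_ ?_ ?_
  all_goals first
    | omega
    | (rintro (_ | _) <;> omega)
    | (intro _; exfalso; omega)
    | exact fun _ => dvd_rfl
    | exact fun _ => Dvd.intro _ rfl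
    | exact fun _ => Dvd.intro_left _ rfl
    | exact fun _ => (Dvd.intro _ rfl).mul_right _
    | exact fun _ => (Dvd.intro_left _ rfl).mul_right _

end

end CfsgH1
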