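import Mathlib
import Cfsg.Agent.H1.Sp8Root

/-!
The characteristic polynomial of an isometry of an eight-dimensional form in characteristic two.
-/

set_option autoImplicit false

namespace CfsgH1

open Polynomial Matrix Module

theorem roots_reverse_prod {K : Type*} [Field K] (R : Multiset K) (h0 : 0 ∉ R) :
    (R.map (X - C ·)).prod.reverse.roots = R.map (·⁻¹) := by
  induction R using Multiset.induction_on with
  | empty => simpa using (congrArg roots (reverse_C (1 : K))).trans (roots_C 1)
  | cons a R ih =>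
    rw [Multiset.mem_cons, not_or] at h0
    have e : (X - C a).reverse = C (-a) * (X - C a⁻¹) := by
      rw [sub_eq_add_neg, ← C_neg, reverse_add_C, mul_sub, ← C_mul, neg_mul,
        mul_inv_cancel₀ (Ne.symm h0.1), ← one_mul X, reverse_mul_X, ← C_1, reverse_C]
      simp [add_comm]
    have h1 : (X - C a).reverse * (R.map (X - C ·)).prod.reverse ≠ 0 := mul_ne_zero
      (by simpa using X_sub_C_ne_zero a) (by simpa using (monic_multisetProd_X_sub_C R).ne_zero)
    rw [Multiset.map_cons, Multiset.prod_cons, reverse_mul_of_domain, roots_mul h1, ih h0.2, e,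
      roots_C_mul _ (neg_ne_zero.2 (Ne.symm h0.1)), roots_X_sub_C, Multiset.map_cons,
      Multiset.singleton_add]

variable {F : Type*} [Field F] [Fintype F] [CharP F 2]

theorem charpoly_dvd_lam_matrix {n : Type*} [Fintype n] [DecidableEq n] (hn : Fintype.card n = 8)
    {A M : Matrix n n F} (hM : M.det ≠ 0) (h : Aᵀ * M * A = M) :
    ∃ t ∈ lam (Fintype.card F - 1), A.charpoly ∣ X ^ (2 ^ t.1 * t.2) - 1 := by
  classical
  let K := AlgebraicClosure F
  haveI : CharP K 2 := charP_of_injective_algebraMap (algebraMap F K).injective 2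
  have hA : A.det ≠ 0 := fun e => hM (by rw [← h]; simp [e])
  have uA : IsUnit A := (isUnit_iff_isUnit_det _).2 hA.isUnit
  obtain ⟨U, rfl⟩ : IsUnit M := (isUnit_iff_isUnit_det _).2 hM.isUnit
  have e1 : A⁻¹.charpoly = A.charpoly := by
    have : A⁻¹ = (U⁻¹).1 * Aᵀ * U.1 := inv_eq_left_inv (by
      rw [mul_assoc, mul_assoc, ← mul_assoc Aᵀ, h, Units.inv_mul])
    rw [this, ← charpoly_transpose A]
    simpa using charpoly_units_conj' U Aᵀ
  let χ := A.charpoly.map (algebraMap F K)
  have mo : χ.Monic := A.charpoly_monic.map _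
  have sp : χ.Splits := IsAlgClosed.splits χ
  have h0 : 0 ∉ χ.roots := fun e => hA (by
    have := (mem_roots mo.ne_zero).1 e
    rw [IsRoot.def, ← coeff_zero_eq_eval_zero, coeff_map, map_eq_zero] at this
    rw [det_eq_sign_charpoly_coeff, this, mul_zero])
  obtain ⟨t, ht, k⟩ := exists_lam (s := Fintype.card F - 1)
    (φ := (FiniteField.frobeniusAlgHom F K : K →+* K))
    (fun x => by simp [Nat.sub_add_cancel Fintype.card_pos]) h0
    (by rw [← sp.roots_map, Polynomial.map_map, AlgHom.comp_algebraMap])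
    (by
      rw [← roots_reverse_prod _ h0, ← sp.eq_prod_roots_of_monic mo]
      have e2 := charpoly_inv A uA
      rw [e1, ← reverse_charpoly, ← C_1, ← C_neg, ← C_pow, ← C_mul] at e2
      have e3 : χ.reverse = A.charpoly.reverse.map (algebraMap F K) := by
        rw [reverse, reverse, natDegree_map, reflect_map]
      have e4 := congrArg (Polynomial.map (algebraMap F K)) e2
      rw [Polynomial.map_mul, map_C, ← e3] at e4
      conv_rhs => rw [show χ = _ from e4]
      rw [roots_C_mul _ (by simp [hA])])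
    (by rw [← sp.natDegree_eq_card_roots, natDegree_map, charpoly_natDegree_eq_dim, hn])
  refine ⟨t, ht, (map_dvd_map' (algebraMap F K)).1 ?_⟩
  by_cases z : (X ^ t.2 - 1 : K[X]) = 0
  · have : t.2 = 0 := by_contra fun c => X_pow_sub_C_ne_zero (Nat.pos_of_ne_zero c) (1 : K) (by simpa using z)
    simp [this]
  refine sp.dvd_of_roots_le_roots mo.ne_zero (Multiset.le_iff_count.2 fun r => ?_)
  rw [Polynomial.map_sub, Polynomial.map_pow, map_X, Polynomial.map_one, mul_comm, pow_mul,
    ← one_pow (2 ^ t.1), ← sub_pow_char_pow, roots_pow, Multiset.count_nsmul]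
  by_cases hr : r ∈ χ.roots
  · exact (k r hr).2.trans (Nat.le_mul_of_pos_right _ (Multiset.count_pos.2
      ((mem_roots z).2 (by simp [(k r hr).1]))))
  · simp [Multiset.count_eq_zero.2 hr]

variable {V : Type*} [AddCommGroup V] [Module F V] [FiniteDimensional F V]

theorem charpoly_dvd_lam (hV : finrank F V = 8) {B : LinearMap.BilinForm F V} (hB : B.Nondegenerate)
    {g : V →ₗ[F] V} (h : ∀ x y, B (g x) (g y) = B x y) :
    ∃ t ∈ lam (Fintype.card F - 1), g.charpoly ∣ X ^ (2 ^ t.1 * t.2) - 1 := by
  let b := Module.finBasis F V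
  rw [← LinearMap.charpoly_toMatrix g b]
  refine charpoly_dvd_lam_matrix (by simp [hV])
    ((LinearMap.BilinForm.nondegenerate_iff_det_ne_zero b).1 hB) ?_
  rw [← LinearMap.BilinForm.toMatrix_comp b b]
  exact congrArg _ (LinearMap.ext fun x => LinearMap.ext (h x))

omit [Fintype F] [CharP F 2] in
theorem pow_eq_one_of_charpoly_dvd {g : V →ₗ[F] V} {N : ℕ} (h : g.charpoly ∣ X ^ N - 1) :
    g ^ N = 1 := by
  obtain ⟨p, hp⟩ := h
  simpa [g.aeval_self_charpoly, sub_eq_zero] using congrArg (aeval g) hp

omit [Fintype F] [CharP F 2] in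
theorem sum_pow_eq_zero {g : V →ₗ[F] V} {N : ℕ} (h : g.charpoly ∣ X ^ N - 1)
    (hk : finrank F (LinearMap.ker (g - 1)) ≠ 1) : ∑ i ∈ Finset.range N, g ^ i = 0 := by
  have Q : ∀ k, LinearMap.ker ((g - 1) ^ k) = LinearMap.ker ((g - 1) ^ (k + 1)) ∨
      k + 2 ≤ finrank F (LinearMap.ker ((g - 1) ^ (k + 1))) := fun k => by
    induction k with
    | zero =>
      by_cases e : finrank F (LinearMap.ker (g - 1)) = 0
      · exact .inl (by rw [zero_add, pow_one, Submodule.finrank_eq_zero.1 e]; rfl)
      · exact .inr (by rw [zero_add 1, pow_one]; omega)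
    | succ k ih =>
      refine or_iff_not_imp_left.2 fun c => ?_
      have h1 := ih.resolve_left fun e =>
        c ((End.ker_pow_constant e 1).symm.trans (End.ker_pow_constant e 2))
      have := Submodule.finrank_lt_finrank_of_lt (lt_of_le_of_ne
        (by rw [pow_succ' _ (k + 1)]; exact LinearMap.ker_le_ker_comp _ _) c)
      omega
  have b : ∀ k : ℕ, finrank F (LinearMap.ker ((g - 1) ^ k)) ≤ g.charpoly.rootMultiplicity 1 :=
    fun k => by
      have := g.finrank_genEigenspace_le 1 k
      rwa [End.genEigenspace_nat, one_smul] at this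
  obtain ⟨χ, e⟩ := g.charpoly.pow_rootMultiplicity_dvd 1
  generalize g.charpoly.rootMultiplicity 1 = r at b e
  have e0 := g.aeval_self_charpoly
  obtain ⟨p, hp⟩ := h
  rw [← geom_sum_mul] at hp
  have key : ∀ k, LinearMap.ker ((g - 1) ^ k) = LinearMap.ker ((g - 1) ^ (k + 1)) →
      ∀ f : V →ₗ[F] V, (g - 1) ^ (k + 1) * f = 0 → (g - 1) ^ k * f = 0 := fun k e f h =>
    LinearMap.ext fun v => (e.ge (LinearMap.congr_fun h v) :)
  rcases r with _ | r
  · have := key 0 (by rw [Submodule.finrank_eq_zero.1 (Nat.le_zero.1 (b (0 + 1)))]; rfl)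
      (∑ i ∈ Finset.range N, g ^ i) (by
        simpa [e0, mul_geom_sum, geom_sum_mul] using congrArg (aeval g) hp)
    simpa using this
  · have h1 := key r ((Q r).resolve_right (by have := b (r + 1); omega)) (aeval g χ)
      (by simpa [e] using e0)
    rw [e, C_1, pow_succ', mul_assoc, mul_assoc, mul_comm] at hp
    have := congrArg (aeval g) (mul_left_cancel₀ (X_sub_C_ne_zero 1) hp)
    simpa [← mul_assoc, h1] using this

end CfsgH1
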