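import Mathlib

/-!
An amalgamation step for groups acting on a symplectic space.
-/

set_option autoImplicit false

namespace CfsgH1

open Subgroup

variable {F Γ V : Type*} [Field F] [Group Γ] [AddCommGroup V] [Module F V]
  [DistribMulAction Γ V] [SMulCommClass Γ F V]

/-- `g` acts as the short root element `T(u, v)` -/
def IsT (B : LinearMap.BilinForm F V) (g : Γ) (u v : V) : Prop :=
  ∀ x, g • x = x + B x u • v + B x v • u

/-- `g` acts as a transvection -/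
def IsX (B : LinearMap.BilinForm F V) (g : Γ) (a : V) (c : F) : Prop :=
  ∀ x, g • x = x + (c * B x a) • a

/-- `K` contains all transvections along vectors of `W` -/
def HasX (B : LinearMap.BilinForm F V) (K : Subgroup Γ) (W : Submodule F V) : Prop :=
  ∀ a ∈ W, ∀ c, ∃ g ∈ K, IsX B g a c

/-- `B` is nondegenerate on `W` -/
def NdOn (B : LinearMap.BilinForm F V) (W : Submodule F V) : Prop :=
  ∀ v ∈ W, v ≠ 0 → ∃ w ∈ W, B v w = 1

variable (V) in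
/-- `K` acts faithfully -/
def Faith (K : Subgroup Γ) : Prop := ∀ g ∈ K, (∀ x : V, g • x = x) → g = 1

variable {B : LinearMap.BilinForm F V}

theorem Faith.eq {K : Subgroup Γ} (h : Faith V K) {a b : Γ} (ha : a ∈ K) (hb : b ∈ K)
    (e : ∀ x : V, a • x = b • x) : a = b :=
  (inv_mul_eq_one.1 (h _ (mul_mem (inv_mem hb) ha) fun x => by rw [mul_smul, e, inv_smul_smul])).symm

theorem sm (g : Γ) (c : F) (x : V) : g • c • x = c • g • x := smul_comm g c x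

theorem skew (alt : ∀ x, B x x = 0) (x y : V) : B x y = -B y x := by
  have := alt (x + y)
  simp only [map_add, LinearMap.add_apply, alt] at this
  linear_combination this

section trans

variable {K : Subgroup Γ} {W : Submodule F V}

omit [SMulCommClass Γ F V] in
theorem HasX.move (alt : ∀ x, B x x = 0) (h : HasX B K W) {x y : V} (hx : x ∈ W) (hy : y ∈ W)
    (e : B x y ≠ 0) : ∃ g ∈ K, g • x = y ∧ ∀ z, B z x = B z y → g • z = z := by
  obtain ⟨g, hg, h⟩ := h _ (sub_mem hx hy) (B x y)⁻¹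
  refine ⟨g, hg, ?_, fun z hz => ?_⟩
  · rw [h]
    simp [alt, e]
  · rw [h]
    simp [hz]

omit [SMulCommClass Γ F V] in
theorem HasX.trans1 (alt : ∀ x, B x x = 0) (h : HasX B K W) (nd : NdOn B W) {x y : V}
    (hx : x ∈ W) (hy : y ∈ W) (hx0 : x ≠ 0) (hy0 : y ≠ 0) : ∃ g ∈ K, g • x = y := by
  obtain ⟨z, hz, e1, e2⟩ : ∃ z ∈ W, B x z ≠ 0 ∧ B y z ≠ 0 := by
    obtain ⟨z1, m1, e1⟩ := nd x hx hx0
    obtain ⟨z2, m2, e2⟩ := nd y hy hy0
    by_cases c1 : B y z1 = 0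
    · by_cases c2 : B x z2 = 0
      · exact ⟨z1 + z2, add_mem m1 m2, by simp [e1, c2], by simp [e2, c1]⟩
      · exact ⟨z2, m2, c2, by simp [e2]⟩
    · exact ⟨z1, m1, by simp [e1], c1⟩
  obtain ⟨g1, m1, e1, -⟩ := h.move alt hx hz e1
  obtain ⟨g2, m2, e2, -⟩ := h.move alt hy hz e2
  exact ⟨g2⁻¹ * g1, mul_mem (inv_mem m2) m1, by rw [mul_smul, e1, ← e2, inv_smul_smul]⟩

omit [SMulCommClass Γ F V] in
theorem HasX.trans2 (alt : ∀ x, B x x = 0) (h : HasX B K W) {x y y' : V}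
    (hx : x ∈ W) (hy : y ∈ W) (hy' : y' ∈ W) (e : B x y = 1) (e' : B x y' = 1) :
    ∃ g ∈ K, g • x = x ∧ g • y = y' := by
  by_cases c : B y y' = 0
  · obtain ⟨g1, m1, e1, e2⟩ := h.move alt hy (add_mem hy hx) (by simp [alt, skew alt y x, e])
    obtain ⟨g2, m2, e3, e4⟩ := h.move alt (add_mem hy hx) hy' (by simp [c, e'])
    exact ⟨g2 * g1, mul_mem m2 m1, by
      rw [mul_smul, e2 x (by simp [alt]), e4 x (by simp [alt, e, e'])], by rw [mul_smul, e1, e3]⟩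
  · obtain ⟨g, m, e1, e2⟩ := h.move alt hy hy' c
    exact ⟨g, m, e2 x (by rw [e, e']), e1⟩

end trans

theorem IsT.conj (inv : ∀ (g : Γ) x y, B (g • x) (g • y) = B x y) {m : Γ} {u v : V}
    (h : IsT B m u v) (g : Γ) : IsT B (g * m * g⁻¹) (g • u) (g • v) := fun x => by
  rw [mul_smul, mul_smul, h, ← inv g _ u, ← inv g _ v]
  simp [sm]

/-- hypotheses of the amalgamation step -/
structure SpSetup (B : LinearMap.BilinForm F V) (e f e₁ f₁ : V) (U U₁ W : Submodule F V)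
    (S S₁ G M : Subgroup Γ) : Prop where
  alt : ∀ x, B x x = 0
  inv : ∀ (g : Γ) x y, B (g • x) (g • y) = B x y
  two : ∃ a : F, a ≠ 0 ∧ a ≠ 1
  ef : B e f = 1
  ef₁ : B e₁ f₁ = 1
  memU : ∀ u, u ∈ U ↔ ∃ a b : F, u = a • e + b • f
  memU₁ : ∀ u, u ∈ U₁ ↔ ∃ a b : F, u = a • e₁ + b • f₁
  UW : U₁ ≤ W
  orth : ∀ u ∈ U, ∀ w ∈ W, B u w = 0
  ndW : NdOn B W
  SU : ∀ s ∈ S, ∀ u ∈ U, s • u ∈ U
  SW : ∀ s ∈ S, ∀ w ∈ W, s • w = w
  GU : ∀ g ∈ G, ∀ u ∈ U, g • u = u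
  GW : ∀ g ∈ G, ∀ w ∈ W, g • w ∈ W
  SG : S₁ ≤ G
  XS : HasX B S U
  XS₁ : HasX B S₁ U₁
  XG : HasX B G W
  comm : ∀ s ∈ S, ∀ g ∈ G, Commute s g
  Me : ∀ c, ∃ m ∈ M, IsX B m e c
  Me₁ : ∀ c, ∃ m ∈ M, IsX B m e₁ c
  MT : ∀ c : F, ∃ m ∈ M, IsT B m e (c • e₁)
  M1 : ∀ m ∈ M, ∃ a b : F, m • f = f + a • e + b • e₁
  M2 : ∀ m ∈ M, m • f = f → m ∈ G
  faith₀ : Faith V (M ⊔ S)
  faith₁ : Faith V (M ⊔ S₁)
  cS : ∀ s ∈ S, s • e = e → ∀ m ∈ M, Commute s m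
  cG : ∀ g ∈ G, g • e₁ = e₁ → ∀ m ∈ M, Commute g m

theorem ndOn_of_pair (alt : ∀ x, B x x = 0) {e f : V} {U : Submodule F V} (ef : B e f = 1)
    (h : ∀ u, u ∈ U ↔ ∃ a b : F, u = a • e + b • f) : NdOn B U := fun u hu h0 => by
  obtain ⟨a, b, rfl⟩ := (h u).1 hu
  by_cases c : a = 0
  · have : b ≠ 0 := fun e => h0 (by simp [c, e])
    exact ⟨_, (h _).2 ⟨-b⁻¹, 0, rfl⟩, by simp [c, alt, skew alt f e, ef, this]⟩
  · exact ⟨_, (h _).2 ⟨0, a⁻¹, rfl⟩, by simp [c, alt, ef]⟩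

namespace SpSetup

variable {e f e₁ f₁ : V} {U U₁ W : Submodule F V} {S S₁ G M : Subgroup Γ}
  (h : SpSetup B e f e₁ f₁ U U₁ W S S₁ G M)
include h

theorem eU : e ∈ U := (h.memU _).2 ⟨1, 0, by simp⟩
theorem fU : f ∈ U := (h.memU _).2 ⟨0, 1, by simp⟩
theorem eU₁ : e₁ ∈ U₁ := (h.memU₁ _).2 ⟨1, 0, by simp⟩
theorem fU₁ : f₁ ∈ U₁ := (h.memU₁ _).2 ⟨0, 1, by simp⟩
theorem e0 : e ≠ 0 := fun c => by simpa [c] using h.ef
theorem e0₁ : e₁ ≠ 0 := fun c => by simpa [c] using h.ef₁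
theorem ndU : NdOn B U := ndOn_of_pair h.alt h.ef h.memU
theorem orth' {u w : V} (hu : u ∈ U) (hw : w ∈ W) : B w u = 0 := by
  rw [skew h.alt, h.orth u hu w hw, neg_zero]

theorem transS {u : V} (hu : u ∈ U) (h0 : u ≠ 0) : ∃ s ∈ S, s • e = u :=
  h.XS.trans1 h.alt h.ndU h.eU hu h.e0 h0

theorem transG {u : V} (hu : u ∈ W) (h0 : u ≠ 0) : ∃ s ∈ G, s • e₁ = u :=
  h.XG.trans1 h.alt h.ndW (h.UW h.eU₁) hu h.e0₁ h0

theorem transS₁ {u : V} (hu : u ∈ U₁) (h0 : u ≠ 0) : ∃ s ∈ S₁, s • e₁ = u :=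
  h.XS₁.trans1 h.alt (ndOn_of_pair h.alt h.ef₁ h.memU₁) h.eU₁ hu h.e0₁ h0

theorem span_of_orth {u u' : V} (hu : u ∈ U) (hu' : u' ∈ U) (h0 : u ≠ 0) (c : B u u' = 0) :
    ∃ l : F, u' = l • u := by
  obtain ⟨s, hs, rfl⟩ := h.transS hu h0
  obtain ⟨a, b, e1⟩ := (h.memU _).1 (h.SU _ (inv_mem hs) _ hu')
  rw [← smul_inv_smul s u', h.inv, e1] at c
  simp only [map_add, map_smul, h.alt, h.ef, smul_eq_mul, mul_zero, mul_one, zero_add] at c
  exact ⟨a, by rw [← sm, ← inv_smul_eq_iff, e1, c]; simp⟩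

/-- existence of the family `T` -/
theorem exists_T0 : ∃ (T : V → V → Γ) (m : Γ), m ∈ M ∧ IsT B m e e₁ ∧ (∀ v, T 0 v = 1) ∧
    (∀ u, T u 0 = 1) ∧ ∀ s ∈ S, ∀ g ∈ G, T (s • e) (g • e₁) = s * g * m * (s * g)⁻¹ := by
  classical
  obtain ⟨m, hm, hT⟩ := h.MT 1
  rw [one_smul] at hT
  refine ⟨fun u v => if c : ∃ p : Γ × Γ, p.1 ∈ S ∧ p.2 ∈ G ∧ p.1 • e = u ∧ p.2 • e₁ = v then
    c.choose.1 * c.choose.2 * m * (c.choose.1 * c.choose.2)⁻¹ else 1, m, hm, hT, fun v => ?_,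
    fun u => ?_, fun s hs g hg => ?_⟩
  · exact dif_neg fun ⟨p, _, _, c, _⟩ => h.e0 ((smul_eq_zero_iff_eq _).1 c)
  · exact dif_neg fun ⟨p, _, _, _, c⟩ => h.e0₁ ((smul_eq_zero_iff_eq _).1 c)
  have c : ∃ p : Γ × Γ, p.1 ∈ S ∧ p.2 ∈ G ∧ p.1 • e = s • e ∧ p.2 • e₁ = g • e₁ :=
    ⟨(s, g), hs, hg, rfl, rfl⟩
  simp only [dif_pos c]
  obtain ⟨c1, c2, c3, c4⟩ := c.choose_spec
  generalize c.choose.1 = s' at c1 c3
  generalize c.choose.2 = g' at c2 c4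
  have k1 := h.cS _ (mul_mem (inv_mem hs) c1) (by rw [mul_smul, c3, inv_smul_smul]) m hm
  have k2 := h.cG _ (mul_mem (inv_mem hg) c2) (by rw [mul_smul, c4, inv_smul_smul]) m hm
  have k3 := h.comm _ (mul_mem (inv_mem hs) c1) g hg
  have : s' * g' = s * g * ((s⁻¹ * s') * (g⁻¹ * g')) := by
    rw [mul_assoc s, ← mul_assoc g, ← k3.eq]
    group
  rw [this, mul_assoc (s * g), (k1.mul_left k2).eq]
  group

/-- properties of the family `T` -/
structure Fam (B : LinearMap.BilinForm F V) (e : V) (U W : Submodule F V) (S G M : Subgroup Γ)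
    (T : V → V → Γ) : Prop where
  zl : ∀ v, T 0 v = 1
  zr : ∀ u, T u 0 = 1
  act : ∀ u ∈ U, ∀ v ∈ W, IsT B (T u v) u v
  cjS : ∀ s ∈ S, ∀ u ∈ U, ∀ v ∈ W, s * T u v = T (s • u) v * s
  cjG : ∀ g ∈ G, ∀ u ∈ U, ∀ v ∈ W, g * T u v = T u (g • v) * g
  sc : ∀ (c : F), ∀ u ∈ U, ∀ v ∈ W, T (c • u) v = T u (c • v)
  addr : ∀ u ∈ U, ∀ v ∈ W, ∀ v' ∈ W, ∃ s ∈ S, s • u = u ∧ T u v * T u v' = T u (v + v') * s
  addl : ∀ u ∈ U, ∀ u' ∈ U, ∀ v ∈ W, ∃ g ∈ G, g • v = v ∧ T u v * T u' v = T (u + u') v * g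
  mem : ∀ v ∈ W, T e v ∈ G ⊔ M
  Mdec : ∀ m ∈ M, ∃ v ∈ W, ∃ s ∈ S, ∃ g ∈ G, m = T e v * s * g

theorem exists_fam : ∃ T : V → V → Γ, Fam B e U W S G M T := by
  obtain ⟨T, m, hm, hT, zl, zr, key⟩ := h.exists_T0
  have e1W := h.UW h.eU₁
  have ind : ∀ p : V → V → Prop, (∀ v, p 0 v) → (∀ u, p u 0) →
      (∀ s ∈ S, ∀ g ∈ G, p (s • e) (g • e₁)) → ∀ u ∈ U, ∀ v ∈ W, p u v := by
    intro p h1 h2 h3 u hu v hv
    by_cases u0 : u = 0
    · exact u0 ▸ h1 v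
    by_cases v0 : v = 0
    · exact v0 ▸ h2 u
    obtain ⟨s, hs, rfl⟩ := h.transS hu u0
    obtain ⟨g, hg, rfl⟩ := h.transG hv v0
    exact h3 s hs g hg
  have act : ∀ u ∈ U, ∀ v ∈ W, IsT B (T u v) u v := by
    refine ind _ (fun v x => by simp [zl]) (fun v x => by simp [zr]) fun s hs g hg => ?_
    have := hT.conj h.inv (s * g)
    rwa [← key s hs g hg, mul_smul, mul_smul, h.GU g hg e h.eU, h.SW s hs _ (h.GW g hg _ e1W)] at this
  have cjS : ∀ s ∈ S, ∀ u ∈ U, ∀ v ∈ W, s * T u v = T (s • u) v * s := fun s hs => by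
    refine ind _ (by simp [zl]) (by simp [zr]) fun s' hs' g hg => ?_
    rw [← mul_smul, key _ hs' g hg, key _ (mul_mem hs hs') g hg]
    group
  have cjG : ∀ g ∈ G, ∀ u ∈ U, ∀ v ∈ W, g * T u v = T u (g • v) * g := fun g hg => by
    refine ind _ (by simp [zl]) (by simp [zr]) fun s hs g' hg' => ?_
    rw [← mul_smul, key _ hs _ hg', key _ hs _ (mul_mem hg hg'), ← mul_assoc s g,
      (h.comm s hs g hg).eq]
    group
  have mem0 : ∀ u ∈ U, T u e₁ ∈ M ⊔ S := fun u hu => by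
    by_cases u0 : u = 0
    · simp [u0, zl]
    obtain ⟨s, hs, rfl⟩ := h.transS hu u0
    have := key s hs 1 (one_mem _)
    rw [one_smul, mul_one] at this
    exact this ▸ mul_mem (mul_mem (mem_sup_right hs) (mem_sup_left hm)) (mem_sup_right (inv_mem hs))
  have mem1 : ∀ v ∈ U₁, T e v ∈ M ⊔ S₁ := fun v hv => by
    by_cases v0 : v = 0
    · simp [v0, zr]
    obtain ⟨s, hs, rfl⟩ := h.transS₁ hv v0
    have := key 1 (one_mem _) s (h.SG hs)
    rw [one_smul, one_mul] at this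
    exact this ▸ mul_mem (mul_mem (mem_sup_right hs) (mem_sup_left hm)) (mem_sup_right (inv_mem hs))
  have mT : ∀ c : F, ∀ m ∈ M, IsT B m e (c • e₁) → T e (c • e₁) = m := fun c m hm hT =>
    h.faith₁.eq (mem1 _ (U₁.smul_mem c h.eU₁)) (mem_sup_left hm) fun x => by
      rw [act e h.eU _ (W.smul_mem c e1W), hT]
  have mX : ∀ c : F, ∃ s ∈ S, s ∈ M ∧ IsX B s e c := fun c => by
    obtain ⟨m, hm, e1⟩ := h.Me c
    obtain ⟨s, hs, e2⟩ := h.XS e h.eU c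
    obtain rfl := h.faith₀.eq (mem_sup_left hm) (mem_sup_right hs) fun x => by rw [e1, e2]
    exact ⟨_, hs, hm, e1⟩
  have sc : ∀ (c : F), ∀ u ∈ U, ∀ v ∈ W, T (c • u) v = T u (c • v) := fun c => by
    refine ind _ (by simp [zl]) (by simp [zr]) fun s hs g hg => ?_
    have : T (c • e) e₁ = T e (c • e₁) := by
      obtain ⟨m, hm, hT⟩ := h.MT c
      rw [mT c m hm hT]
      refine h.faith₀.eq (mem0 _ (U.smul_mem c h.eU)) (mem_sup_left hm) fun x => ?_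
      rw [act _ (U.smul_mem c h.eU) _ e1W, hT]
      simp [smul_smul, mul_comm]
    have k := cjS s hs _ (U.smul_mem c h.eU) _ (h.GW g hg _ e1W)
    have k' := cjS s hs _ h.eU _ (h.GW g hg _ (W.smul_mem c e1W))
    rw [← mul_inv_eq_iff_eq_mul, sm] at k k'
    rw [← k, ← k', ← sm, ← mul_inv_eq_iff_eq_mul.2 (cjG g hg _ (U.smul_mem c h.eU) _ e1W),
      ← mul_inv_eq_iff_eq_mul.2 (cjG g hg _ h.eU _ (W.smul_mem c e1W)), this]
  refine ⟨T, zl, zr, act, cjS, cjG, sc, ?_, ?_, ?_, ?_⟩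
  · let Rel : V → V → Prop := fun v v' => ∃ s ∈ S, s • e = e ∧ T e v * T e v' = T e (v + v') * s
    have base : ∀ g ∈ G, ∀ v ∈ U₁, ∀ v' ∈ U₁, Rel (g • v) (g • v') := fun g hg v hv v' hv' => by
      obtain ⟨s, hs, hs', e1⟩ := mX (-B v v')
      have : T e v * T e v' = T e (v + v') * s := by
        refine h.faith₁.eq (mul_mem (mem1 v hv) (mem1 v' hv'))
          (mul_mem (mem1 _ (add_mem hv hv')) (mem_sup_left hs')) fun y => ?_
        rw [mul_smul, mul_smul, act _ h.eU _ (h.UW hv), act _ h.eU _ (h.UW hv'),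
          act _ h.eU _ (h.UW (add_mem hv hv')), e1]
        simp only [map_add, map_smul, LinearMap.add_apply, LinearMap.smul_apply, h.alt,
          h.orth' h.eU (h.UW hv'), h.orth _ h.eU _ (h.UW hv), h.orth _ h.eU _ (h.UW hv'),
          skew h.alt v' v, smul_eq_mul]
        module
      refine ⟨s, hs, by rw [e1, h.alt]; simp, ?_⟩
      rw [← smul_add, ← mul_inv_eq_iff_eq_mul.2 (cjG g hg _ h.eU _ (h.UW hv)),
        ← mul_inv_eq_iff_eq_mul.2 (cjG g hg _ h.eU _ (h.UW hv')),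
        ← mul_inv_eq_iff_eq_mul.2 (cjG g hg _ h.eU _ (h.UW (add_mem hv hv'))), mul_assoc _ _ s,
        ← (h.comm s hs _ (inv_mem hg)).eq]
      calc _ = g * (T e v * T e v') * g⁻¹ := by group
        _ = _ := by rw [this]; group
    have r1 : ∀ v ∈ W, ∀ v' ∈ W, B v v' ≠ 0 → Rel v v' := fun v hv v' hv' c => by
      obtain ⟨g, hg, e1⟩ := h.transG hv (fun e => c (by simp [e]))
      obtain ⟨g', hg', e2, e3⟩ := h.XG.trans2 h.alt hv (h.GW g hg _ (h.UW h.fU₁))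
        (W.smul_mem (B v v')⁻¹ hv') (by rw [← e1, h.inv, h.ef₁]) (by simp [c])
      have := base _ (mul_mem hg' hg) _ h.eU₁ _ (U₁.smul_mem (B v v') h.fU₁)
      rwa [mul_smul, e1, e2, sm, mul_smul, e3, smul_inv_smul₀ c] at this
    have r2 : ∀ v ∈ W, ∀ c : F, Rel v (c • v) := fun v hv c => by
      by_cases v0 : v = 0
      · exact ⟨1, one_mem _, one_smul _ _, by simp [v0, zr]⟩
      obtain ⟨g, hg, rfl⟩ := h.transG hv v0
      exact sm g c e₁ ▸ base g hg _ h.eU₁ _ (U₁.smul_mem c h.eU₁)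
    have r3 : ∀ v ∈ W, ∀ v' ∈ W, Rel v v' := fun v hv v' hv' => by
      by_cases c : B v v' ≠ 0
      · exact r1 v hv v' hv' c
      by_cases v0 : v = 0
      · exact ⟨1, one_mem _, one_smul _ _, by simp [v0, zr]⟩
      obtain ⟨w, hw, e1⟩ := h.ndW v hv v0
      by_cases c' : v' - B v' w • v = 0
      · exact sub_eq_zero.1 c' ▸ r2 v hv _
      obtain ⟨z, hz, e2⟩ := h.ndW _ (sub_mem hv' (W.smul_mem _ hv)) c'
      obtain ⟨a, a0, a1⟩ := h.two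
      obtain ⟨y, hy, e3, e4⟩ : ∃ y ∈ W, B v y = 1 ∧ B v' y = -a := by
        refine ⟨w + (-a - B v' w) • (z - B v z • w), add_mem hw (W.smul_mem _
          (sub_mem hz (W.smul_mem _ hw))), by simp [e1], ?_⟩
        simp only [map_add, map_sub, map_smul, LinearMap.sub_apply, LinearMap.smul_apply,
          smul_eq_mul] at e2 ⊢
        linear_combination (-a - B v' w) * e2
      rw [not_not] at c
      obtain ⟨s1, m1, f1, k1⟩ := r1 y hy _ (sub_mem hv' hy) (by simp [h.alt, skew h.alt y v', e4, a0])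
      obtain ⟨s2, m2, f2, k2⟩ := r1 v hv y hy (by simp [e3])
      obtain ⟨s3, m3, f3, k3⟩ := r1 _ (add_mem hv hy) _ (sub_mem hv' hy) (by
        simpa [h.alt, skew h.alt y v', e4, e3, c, neg_add_eq_zero] using a1.symm)
      have k4 := cjS s2 m2 _ h.eU _ (sub_mem hv' hy)
      rw [add_sub_cancel, ← mul_inv_eq_iff_eq_mul] at k1
      rw [add_add_sub_cancel] at k3
      refine ⟨s3 * s2 * s1⁻¹, mul_mem (mul_mem m3 m2) (inv_mem m1), by
        rw [mul_smul, mul_smul, inv_smul_eq_iff.2 f1.symm, f2, f3], ?_⟩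
      rw [← k1, ← mul_assoc, ← mul_assoc, k2, mul_assoc _ s2, k4, f2, ← mul_assoc, k3]
      group
    intro u hu v hv v' hv'
    by_cases u0 : u = 0
    · exact ⟨1, one_mem _, one_smul _ _, by simp [u0, zl]⟩
    obtain ⟨s, hs, rfl⟩ := h.transS hu u0
    obtain ⟨x, hx, e1, e2⟩ := r3 v hv v' hv'
    refine ⟨s * x * s⁻¹, mul_mem (mul_mem hs hx) (inv_mem hs), by
      rw [mul_smul, mul_smul, inv_smul_smul, e1], ?_⟩
    rw [← mul_inv_eq_iff_eq_mul.2 (cjS s hs _ h.eU _ hv),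
      ← mul_inv_eq_iff_eq_mul.2 (cjS s hs _ h.eU _ hv'),
      ← mul_inv_eq_iff_eq_mul.2 (cjS s hs _ h.eU _ (add_mem hv hv'))]
    calc _ = s * (T e v * T e v') * s⁻¹ := by group
      _ = _ := by rw [e2]; group
  · intro u hu u' hu' v hv
    by_cases v0 : v = 0
    · exact ⟨1, one_mem _, one_smul _ _, by simp [v0, zr]⟩
    obtain ⟨g, hg, rfl⟩ := h.transG hv v0
    obtain ⟨x, hx, e1⟩ := h.Me₁ (-B u u')
    have xG := h.M2 x hx (by rw [e1, h.orth _ h.fU _ e1W]; simp)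
    have : T u e₁ * T u' e₁ = T (u + u') e₁ * x := by
      refine h.faith₀.eq (mul_mem (mem0 u hu) (mem0 u' hu'))
        (mul_mem (mem0 _ (add_mem hu hu')) (mem_sup_left hx)) fun y => ?_
      rw [mul_smul, mul_smul, act u hu _ e1W, act u' hu' _ e1W, act _ (add_mem hu hu') _ e1W, e1]
      simp only [map_add, map_smul, LinearMap.add_apply, LinearMap.smul_apply, h.alt,
        h.orth' hu e1W, h.orth' hu' e1W, h.orth _ hu' _ e1W, skew h.alt u' u, smul_eq_mul]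
      module
    refine ⟨g * x * g⁻¹, mul_mem (mul_mem hg xG) (inv_mem hg), ?_, ?_⟩
    · rw [mul_smul, mul_smul, inv_smul_smul, e1, h.alt]
      simp
    · rw [← mul_inv_eq_iff_eq_mul.2 (cjG g hg _ hu _ e1W),
        ← mul_inv_eq_iff_eq_mul.2 (cjG g hg _ hu' _ e1W),
        ← mul_inv_eq_iff_eq_mul.2 (cjG g hg _ (add_mem hu hu') _ e1W)]
      calc _ = g * (T u e₁ * T u' e₁) * g⁻¹ := by group
        _ = _ := by rw [this]; group
  · intro v hv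
    by_cases v0 : v = 0
    · simp [v0, zr]
    obtain ⟨s, hs, rfl⟩ := h.transG hv v0
    have := key 1 (one_mem _) s hs
    rw [one_smul, one_mul] at this
    exact this ▸ mul_mem (mul_mem (mem_sup_left hs) (mem_sup_right hm)) (mem_sup_left (inv_mem hs))
  · intro m hm
    obtain ⟨a, b, e1⟩ := h.M1 m hm
    obtain ⟨s, hs, hs', e2⟩ := mX (-a)
    obtain ⟨m', hm', e3⟩ := h.MT (-b)
    refine ⟨_, W.smul_mem (-b) e1W, s, hs, (m' * s)⁻¹ * m,
      h.M2 _ (mul_mem (inv_mem (mul_mem hm' hs')) hm) ?_, by rw [mT _ _ hm' e3]; group⟩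
    rw [mul_smul, inv_smul_eq_iff, e1, mul_smul, e2, e3]
    simp only [map_add, map_smul, LinearMap.add_apply, LinearMap.smul_apply, h.alt, h.ef,
      h.orth _ h.eU _ e1W, h.orth _ h.fU _ e1W, skew h.alt f e, smul_eq_mul]
    module

end SpSetup

end CfsgH1
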