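import Mathlib
import Cfsg.Agent.H1.SpAmalg

/-!
The coset argument of the amalgamation step.
-/

set_option autoImplicit false

namespace CfsgH1

open Subgroup

variable {F Γ V : Type*} [Field F] [Group Γ] [AddCommGroup V] [Module F V]
  [DistribMulAction Γ V] [SMulCommClass Γ F V] {B : LinearMap.BilinForm F V}

namespace SpSetup

variable {e f e₁ f₁ : V} {U U₁ W : Submodule F V} {S S₁ G M : Subgroup Γ} {T : V → V → Γ}

section
variable {Ω : Type*} [MulAction Γ Ω]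

/-- generic points -/
def Gen (B : LinearMap.BilinForm F V) (e : V) (U W : Submodule F V) (S : Subgroup Γ)
    (T : V → V → Γ) (p₀ p : Ω) : Prop :=
  ∃ s ∈ S, ∃ u ∈ U, ∃ w ∈ W, B (s • e) u = 1 ∧ p = T u w • s • p₀

/-- a covering of the action on vectors -/
structure Cov (e : V) (W : Submodule F V) (S G : Subgroup Γ) (T : V → V → Γ) (φ : Ω → V)
    (p₀ : Ω) : Prop where
  eqv : ∀ (g : Γ) p, φ (g • p) = g • φ p
  base : φ p₀ = e
  fT : ∀ v ∈ W, T e v • p₀ = p₀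
  fS : ∀ s ∈ S, s • e = e → s • p₀ = p₀
  fG : ∀ g ∈ G, g • p₀ = p₀

variable (h : SpSetup B e f e₁ f₁ U U₁ W S S₁ G M) (t : Fam B e U W S G M T) {φ : Ω → V} {p₀ : Ω}
  (c : Cov e W S G T φ p₀)
include h t

theorem T_apply {u u' w : V} (hu : u ∈ U) (hu' : u' ∈ U) (hw : w ∈ W) :
    T u' w • u = u + B u u' • w := by
  rw [t.act u' hu' w hw, h.orth u hu w hw, zero_smul, add_zero]

include c

theorem gen_rep {p : Ω} (hp : Gen B e U W S T p₀ p) : ∃ s ∈ S, ∃ w ∈ W, φ p = s • e + w ∧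
    ∀ u ∈ U, B (s • e) u = 1 → p = T u w • s • p₀ := by
  obtain ⟨s, hs, u, hu, w, hw, e1, rfl⟩ := hp
  have se := h.SU s hs e h.eU
  refine ⟨s, hs, w, hw, by rw [c.eqv, c.eqv, c.base, h.T_apply t se hu hw, e1, one_smul],
    fun u' hu' e2 => ?_⟩
  obtain ⟨l, e3⟩ := h.span_of_orth se (sub_mem hu hu') (fun e => h.e0 ((smul_eq_zero_iff_eq _).1 e))
    (by simp [e1, e2])
  obtain ⟨g, hg, -, e4⟩ := t.addl u' hu' _ (sub_mem hu hu') w hw
  have e5 : T (u - u') w • s • p₀ = s • p₀ := by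
    rw [e3, t.sc l _ se w hw, ← mul_smul, ← t.cjS s hs e h.eU _ (W.smul_mem l hw), mul_smul,
      c.fT _ (W.smul_mem l hw)]
  have := congrArg (· • s • p₀) e4
  simp only [mul_smul, e5, add_sub_cancel] at this
  rw [this, ← mul_smul g, ← (h.comm s hs g hg).eq, mul_smul, c.fG g hg]

omit c in
theorem gen_S {p : Ω} (hp : Gen B e U W S T p₀ p) {s : Γ} (hs : s ∈ S) :
    Gen B e U W S T p₀ (s • p) := by
  obtain ⟨s', hs', u, hu, w, hw, e1, rfl⟩ := hp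
  exact ⟨s * s', mul_mem hs hs', s • u, h.SU s hs u hu, w, hw, by rw [mul_smul, h.inv, e1],
    by rw [← mul_smul, t.cjS s hs u hu w hw, mul_smul, mul_smul]⟩

theorem gen_G {p : Ω} (hp : Gen B e U W S T p₀ p) {g : Γ} (hg : g ∈ G) :
    Gen B e U W S T p₀ (g • p) := by
  obtain ⟨s, hs, u, hu, w, hw, e1, rfl⟩ := hp
  exact ⟨s, hs, u, hu, g • w, h.GW g hg w hw, e1, by
    rw [← mul_smul, t.cjG g hg u hu w hw, mul_smul, ← mul_smul g, ← (h.comm s hs g hg).eq,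
      mul_smul, c.fG g hg]⟩

theorem gen_T {p : Ω} (hp : Gen B e U W S T p₀ p) {u z : V} (hu : u ∈ U) (hz : z ∈ W)
    (k : B (φ p) u ≠ 0) : Gen B e U W S T p₀ (T u z • p) := by
  obtain ⟨s, hs, w, hw, e1, e2⟩ := h.gen_rep t c hp
  rw [e1, map_add, LinearMap.add_apply, h.orth' hu hw, add_zero] at k
  have hu' := U.smul_mem (B (s • e) u)⁻¹ hu
  have e3 : B (s • e) ((B (s • e) u)⁻¹ • u) = 1 := by simp [k]
  have hz' := W.smul_mem (B (s • e) u) hz
  obtain ⟨s', hs', e4, e5⟩ := t.addr _ hu' _ hz' w hw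
  refine ⟨s' * s, mul_mem hs' hs, _, hu', _, add_mem hz' hw, by rw [mul_smul, ← e4, h.inv, e3], ?_⟩
  rw [mul_smul, ← mul_smul _ s', ← e5, mul_smul, ← e2 _ hu' e3, ← t.sc _ _ hu' _ hz,
    smul_inv_smul₀ k]

theorem gen_T' {p : Ω} (hp : Gen B e U W S T p₀ p) {u z u₂ : V} (hu : u ∈ U) (hz : z ∈ W)
    (hu₂ : u₂ ∈ U) (k : B (T u z • φ p) u₂ ≠ 0) : Gen B e U W S T p₀ (T u z • p) := by
  by_cases k' : B (φ p) u ≠ 0
  · exact h.gen_T t c hp hu hz k'
  obtain ⟨s, hs, w, hw, e1, -⟩ := h.gen_rep t c hp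
  have se := h.SU s hs e h.eU
  have s0 : s • e ≠ 0 := fun e => h.e0 ((smul_eq_zero_iff_eq _).1 e)
  generalize s • e = a at e1 se s0
  rw [e1, map_add, LinearMap.add_apply, h.orth' hu hw, add_zero, not_not] at k'
  obtain ⟨l, rfl⟩ := h.span_of_orth se hu s0 k'
  by_cases l0 : l = 0
  · simpa [l0, t.zl] using hp
  have k1 : 1 + l * B w z ≠ 0 := fun k1 => k (by
    rw [t.act _ hu z hz, e1]
    simp only [map_add, map_smul, LinearMap.add_apply, LinearMap.smul_apply, h.alt,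
      h.orth' se hw, h.orth' hu₂ hw, h.orth' hu₂ hz, h.orth _ se _ hz, smul_eq_mul]
    linear_combination B a u₂ * k1)
  obtain ⟨a', ha', e2⟩ := h.ndU a se s0
  obtain ⟨y, hy, e3⟩ := h.XS.trans1 h.alt h.ndU se (add_mem se ha') s0
    (fun e => by simpa [e2, h.alt] using congrArg (B a) e)
  obtain ⟨g, hg, e4, e5⟩ := t.addl _ hu _ (U.smul_mem l ha') z hz
  have p1 := h.gen_G t c (h.gen_S t hp hy) (inv_mem hg)
  have e6 : φ (g⁻¹ • y • p) = a + a' + g⁻¹ • w := by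
    rw [c.eqv, c.eqv, e1, smul_add, e3, h.SW y hy w hw, smul_add,
      h.GU _ (inv_mem hg) _ (add_mem se ha')]
  have gw := h.GW _ (inv_mem hg) w hw
  have e7 : B (g⁻¹ • w) z = B w z := by rw [← h.inv g, smul_inv_smul, e4]
  have p2 := h.gen_T t c p1 (U.smul_mem l ha') hz (by simp [e6, h.alt, e2, h.orth' ha' gw, l0])
  have p3 := h.gen_T t c p2 hu hz (by
    rw [c.eqv, t.act _ (U.smul_mem l ha') z hz, e6]
    simp only [map_add, map_smul, LinearMap.add_apply, LinearMap.smul_apply, h.alt, e2, e7,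
      h.orth' se gw, h.orth' ha' gw, h.orth' se hz, h.orth _ se _ hz, h.orth _ ha' _ hz,
      skew h.alt a' a, smul_eq_mul]
    intro k2
    exact mul_ne_zero l0 k1 (by linear_combination -k2))
  have p4 := h.gen_S t p3 (inv_mem hy)
  rwa [← mul_smul (T _ _), e5, mul_smul, smul_inv_smul, ← smul_add, ← e3, ← sm, ← mul_smul (T _ _),
    ← t.cjS y hy _ hu z hz, mul_smul, inv_smul_smul] at p4

theorem cov_fix {γ : Γ} (hγ : γ ∈ S ⊔ G ⊔ M) (k : γ • e = e) : γ • p₀ = p₀ := by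
  let P : Ω → Prop := fun q => ∃ z ∈ W, ∃ p, Gen B e U W S T p₀ p ∧ q = T e z • p
  have P0 : ∀ p, Gen B e U W S T p₀ p → P p := fun p hp =>
    ⟨0, zero_mem _, p, hp, by rw [t.zr, one_smul]⟩
  have PG : ∀ g ∈ G, ∀ q, P q → P (g • q) := by
    rintro g hg _ ⟨z, hz, p, hp, rfl⟩
    exact ⟨g • z, h.GW g hg z hz, _, h.gen_G t c hp hg, by
      rw [← mul_smul, t.cjG g hg _ h.eU z hz, mul_smul]⟩
  have PT : ∀ v ∈ W, ∀ q, P q → P (T e v • q) := by
    rintro v hv _ ⟨z, hz, p, hp, rfl⟩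
    obtain ⟨s, hs, -, e1⟩ := t.addr _ h.eU v hv z hz
    exact ⟨_, add_mem hv hz, _, h.gen_S t hp hs, by rw [← mul_smul, e1, mul_smul]⟩
  have PS : ∀ s ∈ S, ∀ q, P q → P (s • q) := by
    rintro s hs _ ⟨z, hz, p, hp, rfl⟩
    by_cases k : ∃ u₂ ∈ U, B (T e z • φ p) u₂ ≠ 0
    · obtain ⟨u₂, hu₂, k⟩ := k
      exact P0 _ (h.gen_S t (h.gen_T' t c hp h.eU hz hu₂ k) hs)
    obtain ⟨s', hs', w, hw, e1, -⟩ := h.gen_rep t c hp
    have se := h.SU s' hs' e h.eU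
    have s0 : s' • e ≠ 0 := fun e => h.e0 ((smul_eq_zero_iff_eq _).1 e)
    generalize s' • e = a at e1 se s0
    have e2 : a = -B w z • e := by
      by_contra e2
      obtain ⟨u₂, hu₂, e3⟩ := h.ndU _ (sub_mem se (U.smul_mem (-B w z) h.eU)) (sub_ne_zero.2 e2)
      refine k ⟨u₂, hu₂, ?_⟩
      rw [t.act _ h.eU z hz, e1]
      simp only [map_add, map_sub, map_smul, LinearMap.add_apply, LinearMap.sub_apply,
        LinearMap.smul_apply, h.orth' hu₂ hw, h.orth' hu₂ hz, h.orth _ se _ hz, smul_eq_mul] at e3 ⊢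
      intro k2
      exact one_ne_zero (by linear_combination k2 - e3)
    have b0 : B w z ≠ 0 := fun e => s0 (by simp [e2, e])
    have se' := h.SU s hs e h.eU
    obtain ⟨g, hg, e4, e5⟩ := t.addl _ h.eU _ (sub_mem se' h.eU) z hz
    have gw := h.GW _ (inv_mem hg) w hw
    have e7 : B (g⁻¹ • w) z = B w z := by rw [← h.inv g, smul_inv_smul, e4]
    refine ⟨z, hz, _, h.gen_T' t c (h.gen_G t c (h.gen_S t hp hs) (inv_mem hg))
      (sub_mem se' h.eU) hz h.fU ?_, ?_⟩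
    · rw [c.eqv, c.eqv, e1, e2, smul_add, h.SW s hs w hw, smul_add, sm, sm,
        h.GU _ (inv_mem hg) _ se', t.act _ (sub_mem se' h.eU) z hz]
      simp only [map_add, map_sub, map_smul, LinearMap.add_apply, LinearMap.sub_apply,
        LinearMap.smul_apply, h.orth' h.fU gw, h.orth' h.fU hz, h.orth _ se' _ hz, e7, h.ef,
        smul_eq_mul]
      intro k2
      exact b0 (by linear_combination -k2)
    · rw [← mul_smul (T e z), e5, add_sub_cancel, mul_smul, smul_inv_smul, ← mul_smul,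
        t.cjS s hs _ h.eU z hz, mul_smul]
  have PM : ∀ m ∈ M, ∀ q, P q → P (m • q) := fun m hm q hq => by
    obtain ⟨v, hv, s, hs, g, hg, rfl⟩ := t.Mdec m hm
    rw [mul_smul, mul_smul]
    exact PT v hv _ (PS s hs _ (PG g hg q hq))
  let K : Subgroup Γ :=
    { carrier := {g | (∀ q, P q → P (g • q)) ∧ ∀ q, P q → P (g⁻¹ • q)}
      mul_mem' := fun ha hb => ⟨fun q hq => by rw [mul_smul]; exact ha.1 _ (hb.1 q hq),
        fun q hq => by rw [mul_inv_rev, mul_smul]; exact hb.2 _ (ha.2 q hq)⟩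
      one_mem' := by simp
      inv_mem' := fun ha => ⟨ha.2, by simpa using ha.1⟩ }
  have hK : S ⊔ G ⊔ M ≤ K := sup_le (sup_le (fun s hs => ⟨PS s hs, PS _ (inv_mem hs)⟩)
    fun s hs => ⟨PG s hs, PG _ (inv_mem hs)⟩) fun s hs => ⟨PM s hs, PM _ (inv_mem hs)⟩
  obtain ⟨z, hz, p, hp, e1⟩ := (hK hγ).1 p₀ (P0 _ ⟨1, one_mem _, f, h.fU, 0, zero_mem _,
    by rw [one_smul, h.ef], by rw [t.zr, one_smul, one_smul]⟩)
  have e2 : φ (T e z • p) = e := by rw [← e1, c.eqv, c.base, k]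
  obtain ⟨s, hs, w, hw, e3, e4⟩ := h.gen_rep t c (h.gen_T' t c hp h.eU hz h.fU (by
    rw [← c.eqv, e2, h.ef]; exact one_ne_zero))
  have w0 : w = 0 := by_contra fun w0 => by
    obtain ⟨y, hy, e5⟩ := h.ndW w hw w0
    have := congrArg (B · y) (e2.symm.trans e3)
    simp [h.orth _ h.eU y hy, h.orth _ (h.SU s hs e h.eU) y hy, e5] at this
  rw [e2, w0, add_zero] at e3
  rw [e1, e4 f h.fU (by rw [← e3, h.ef]), w0, t.zr, one_smul, c.fS s hs e3.symm]

end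

variable (h : SpSetup B e f e₁ f₁ U U₁ W S S₁ G M)
include h

theorem mem_of_fix' (t : Fam B e U W S G M T) {C : Subgroup Γ} (hS : ∀ s ∈ S, s • e = e → s ∈ C)
    (hG : G ≤ C) (hT : ∀ v ∈ W, T e v ∈ C) {γ : Γ} (hγ : γ ∈ S ⊔ G ⊔ M) (k : γ • e = e) :
    γ ∈ C := by
  have key : ∀ g ∈ C, g • e = e → g • (((1 : Γ) : Γ ⧸ C), e) = (((1 : Γ) : Γ ⧸ C), e) :=
    fun g hg k => Prod.ext (QuotientGroup.eq.2 (by simpa using hg)) k
  have := h.cov_fix t (φ := Prod.snd) (p₀ := (((1 : Γ) : Γ ⧸ C), e)) ⟨fun _ _ => rfl, rfl,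
    fun v hv => key _ (hT v hv) (by rw [h.T_apply t h.eU h.eU hv, h.alt]; simp),
    fun s hs k => key s (hS s hs k) k, fun g hg => key g (hG hg) (h.GU g hg e h.eU)⟩ hγ k
  simpa using QuotientGroup.eq.1 (congrArg Prod.fst this)

theorem mem_of_fix {C : Subgroup Γ} (hS : ∀ s ∈ S, s • e = e → s ∈ C)
    (hG : G ≤ C) (hM : M ≤ C) {γ : Γ} (hγ : γ ∈ S ⊔ G ⊔ M) (k : γ • e = e) : γ ∈ C := by
  obtain ⟨T, t⟩ := h.exists_fam
  exact h.mem_of_fix' t hS hG (fun v hv => sup_le hG hM (t.mem v hv)) hγ k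

theorem faith (fG : Faith V G) (fS : ∀ s ∈ S, s • e = e → s • f = f → s = 1) :
    Faith V (S ⊔ G ⊔ M) := fun γ hγ k => by
  obtain ⟨T, t⟩ := h.exists_fam
  have mul : ∀ v ∈ W, ∀ s ∈ S, ∀ g ∈ G, s • e = e → s * g * T e v = T e (g • v) * (s * g) :=
    fun v hv s hs g hg k => by
      rw [mul_assoc, t.cjG g hg e h.eU v hv, ← mul_assoc, t.cjS s hs e h.eU _ (h.GW g hg v hv), k,
        mul_assoc]
  let C : Subgroup Γ :=
    { carrier := {x | ∃ v ∈ W, ∃ s ∈ S, ∃ g ∈ G, s • e = e ∧ x = T e v * (s * g)}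
      mul_mem' := by
        rintro _ _ ⟨v, hv, s, hs, g, hg, k, rfl⟩ ⟨v', hv', s', hs', g', hg', k', rfl⟩
        obtain ⟨x, hx, k1, k2⟩ := t.addr e h.eU v hv _ (h.GW g hg v' hv')
        refine ⟨_, add_mem hv (h.GW g hg v' hv'), x * s * s', mul_mem (mul_mem hx hs) hs', g * g',
          mul_mem hg hg', by rw [mul_smul, mul_smul, k', k, k1], ?_⟩
        rw [mul_assoc, ← mul_assoc (s * g), mul v' hv' s hs g hg k, mul_assoc, ← mul_assoc (T e v), k2,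
          mul_assoc (x * s), ← mul_assoc s', (h.comm s' hs' g hg).eq]
        group
      one_mem' := ⟨0, zero_mem _, 1, one_mem _, 1, one_mem _, one_smul _ _, by simp [t.zr]⟩
      inv_mem' := by
        rintro _ ⟨v, hv, s, hs, g, hg, k, rfl⟩
        obtain ⟨x, hx, k1, k2⟩ := t.addr e h.eU _ (neg_mem hv) v hv
        have k3 : (s⁻¹ * x⁻¹) • e = e := by
          rw [mul_smul, inv_smul_eq_iff.2 k1.symm, inv_smul_eq_iff.2 k.symm]
        refine ⟨_, h.GW _ (inv_mem hg) _ (neg_mem hv), s⁻¹ * x⁻¹, mul_mem (inv_mem hs) (inv_mem hx),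
          g⁻¹, inv_mem hg, k3, ?_⟩
        rw [← mul _ (neg_mem hv) _ (mul_mem (inv_mem hs) (inv_mem hx)) _ (inv_mem hg) k3,
          (h.comm _ (mul_mem (inv_mem hs) (inv_mem hx)) _ (inv_mem hg)).eq]
        rw [neg_add_cancel, t.zr, one_mul] at k2
        rw [← k2]
        group }
  obtain ⟨v, hv, s, hs, g, hg, k1, rfl⟩ := h.mem_of_fix' t (C := C)
    (fun s hs k => ⟨0, zero_mem _, s, hs, 1, one_mem _, k, by simp [t.zr]⟩)
    (fun g hg => ⟨0, zero_mem _, 1, one_mem _, g, hg, one_smul _ _, by simp [t.zr]⟩)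
    (fun v hv => ⟨v, hv, 1, one_mem _, 1, one_mem _, one_smul _ _, by simp⟩) hγ (k e)
  have sf := h.SU s hs f h.fU
  have k2 := k f
  have k3 : B (s • f) e = -1 := by rw [← k1, h.inv, skew h.alt, h.ef]
  rw [mul_smul, mul_smul, h.GU g hg f h.fU, h.T_apply t sf h.eU hv, k3] at k2
  have v0 : v = 0 := by_contra fun v0 => by
    obtain ⟨y, hy, e5⟩ := h.ndW v hv v0
    have := congrArg (B · y) k2
    simp [h.orth _ h.fU y hy, h.orth _ sf y hy, e5] at this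
  obtain rfl := fS s hs k1 (by simpa [v0] using k2)
  simp only [v0, t.zr, one_mul] at k ⊢
  exact fG g hg k

theorem exists_smul_eq {u w : V} (hu : u ∈ U) (hw : w ∈ W) (k : u + w ≠ 0) :
    ∃ γ ∈ S ⊔ G ⊔ M, γ • e = u + w := by
  obtain ⟨T, t⟩ := h.exists_fam
  have mT : ∀ v ∈ W, T e v ∈ S ⊔ G ⊔ M := fun v hv =>
    (sup_le (le_sup_right.trans le_sup_left) le_sup_right : G ⊔ M ≤ _) (t.mem v hv)
  have key : ∀ u ∈ U, ∀ w ∈ W, u ≠ 0 → ∃ γ ∈ S ⊔ G ⊔ M, γ • e = u + w := fun u hu w hw k => by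
    obtain ⟨s, hs, rfl⟩ := h.transS hu k
    obtain ⟨s', hs', e1⟩ := h.transS h.fU (fun c => by simpa [c] using h.ef)
    have hs'' := mem_sup_left (T := M) (mem_sup_left (T := G) hs')
    refine ⟨s * (s' * T e w * s'⁻¹), mul_mem (mem_sup_left (mem_sup_left hs))
      (mul_mem (mul_mem hs'' (mT w hw)) (inv_mem hs'')), ?_⟩
    rw [t.cjS s' hs' e h.eU w hw, mul_inv_cancel_right, e1, mul_smul, h.T_apply t h.eU h.fU hw,
      h.ef, one_smul, smul_add, h.SW s hs w hw]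
  by_cases u0 : u = 0
  · rw [u0, zero_add] at k ⊢
    obtain ⟨z, hz, e1⟩ := h.ndW w hw k
    obtain ⟨γ, hγ, e2⟩ := key _ (neg_mem h.eU) w hw (neg_ne_zero.2 h.e0)
    refine ⟨T e z * γ, mul_mem (mT z hz) hγ, ?_⟩
    rw [mul_smul, e2, t.act e h.eU z hz]
    simp [h.alt, h.orth' h.eU hw, h.orth _ h.eU z hz, e1]
  · exact key u hu w hw u0

theorem exists_smul_eq' {u w : V} (hu : u ∈ U) (hw : w ∈ W) (k : B e (u + w) = 1) :
    ∃ γ ∈ S ⊔ G ⊔ M, γ • e = e ∧ γ • f = u + w := by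
  obtain ⟨T, t⟩ := h.exists_fam
  rw [map_add, h.orth _ h.eU w hw, add_zero] at k
  obtain ⟨s, hs, e1, e2⟩ := h.XS.trans2 h.alt h.eU h.fU hu h.ef k
  refine ⟨T e (-w) * s, mul_mem ((sup_le (le_sup_right.trans le_sup_left) le_sup_right : G ⊔ M ≤ _)
    (t.mem _ (neg_mem hw))) (mem_sup_left (mem_sup_left hs)), ?_, ?_⟩
  · rw [mul_smul, e1, h.T_apply t h.eU h.eU (neg_mem hw), h.alt]
    simp
  · rw [mul_smul, e2, h.T_apply t hu h.eU (neg_mem hw), skew h.alt, k]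
    simp

end SpSetup

end CfsgH1
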