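import Mathlib
import Cfsg.Agent.H1.SpAmalg2
import Cfsg.Agent.H1.OPlus

/-!
The symplectic group as an amalgam.
-/

set_option autoImplicit false

namespace CfsgH1

open Matrix Subgroup Sum

variable {F : Type*} [Field F] {ι : Type} [Fintype ι] [DecidableEq ι]

variable (F ι) in
/-- the standard alternating form -/
noncomputable def BJ : LinearMap.BilinForm F (ι ⊕ ι → F) := Matrix.toBilin' (-J ι F)

theorem BJ_apply (u v : ι ⊕ ι → F) :
    BJ F ι u v = ∑ i, (u (inl i) * v (inr i) - u (inr i) * v (inl i)) := by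
  simp [BJ, toBilin'_apply', J, neg_mulVec, fromBlocks_mulVec, dotProduct, Fintype.sum_sum_type,
    sub_eq_add_neg, Finset.sum_add_distrib, add_comm]

theorem BJ_alt (u : ι ⊕ ι → F) : BJ F ι u u = 0 := by simp [BJ_apply, mul_comm]

theorem BJ_inl (u : ι ⊕ ι → F) (i : ι) : BJ F ι u (Pi.single (inl i) 1) = -u (inr i) := by
  simp [BJ_apply, Pi.single_apply]

theorem BJ_inr (u : ι ⊕ ι → F) (i : ι) : BJ F ι u (Pi.single (inr i) 1) = u (inl i) := by
  simp [BJ_apply, Pi.single_apply]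

theorem BJ_single (u : ι ⊕ ι → F) (c : ι ⊕ ι) : BJ F ι u (Pi.single c 1) = 0 ↔ u c.swap = 0 := by
  cases c <;> simp [BJ_inl, BJ_inr]

theorem mem_sp_iff {A : Matrix (ι ⊕ ι) (ι ⊕ ι) F} :
    A ∈ symplecticGroup ι F ↔ ∀ u v, BJ F ι (A *ᵥ u) (A *ᵥ v) = BJ F ι u v := by
  have : ∀ u v, BJ F ι (A *ᵥ u) (A *ᵥ v) = Matrix.toBilin' (-(Aᵀ * J ι F * A)) u v := fun u v => by
    simp [BJ, toBilin'_apply', neg_mulVec, dotProduct_mulVec, vecMul_mulVec, ← vecMul_vecMul]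
  simp only [this, SymplecticGroup.mem_iff']
  refine ⟨fun h u v => by rw [h, BJ], fun h => neg_injective (toBilin'.injective ?_)⟩
  exact LinearMap.ext fun u => LinearMap.ext (h u)

theorem sp_smul (g : symplecticGroup ι F) (v : ι ⊕ ι → F) : g • v = g.1 *ᵥ v := rfl

theorem BJ_smul (g : symplecticGroup ι F) (u v : ι ⊕ ι → F) :
    BJ F ι (g • u) (g • v) = BJ F ι u v := mem_sp_iff.1 g.2 u v

theorem sp_ext {g h : symplecticGroup ι F} (e : ∀ v : ι ⊕ ι → F, g • v = h • v) : g = h :=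
  Subtype.ext (Matrix.ext_iff_mulVec.2 e)

theorem exists_isX (a : ι ⊕ ι → F) (c : F) : ∃ g : symplecticGroup ι F, IsX (BJ F ι) g a c := by
  have : ∀ x, (1 + c • vecMulVec a (-J ι F *ᵥ a)) *ᵥ x = x + (c * BJ F ι x a) • a := fun x => by
    rw [add_mulVec, one_mulVec, smul_mulVec, vecMulVec_mulVec, BJ, toBilin'_apply', dotProduct_comm]
    simp [smul_smul]
  refine ⟨⟨_, mem_sp_iff.2 fun u v => ?_⟩, this⟩
  simp only [this, map_add, map_smul, LinearMap.add_apply, LinearMap.smul_apply, BJ_alt,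
    skew BJ_alt a v, smul_eq_mul]
  ring

theorem exists_isT {u v : ι ⊕ ι → F} (h : BJ F ι u v = 0) :
    ∃ g : symplecticGroup ι F, IsT (BJ F ι) g u v := by
  obtain ⟨a, ha⟩ := exists_isX (u + v) (1 : F)
  obtain ⟨b, hb⟩ := exists_isX u (-1 : F)
  obtain ⟨c, hc⟩ := exists_isX v (-1 : F)
  refine ⟨a * b * c, fun x => ?_⟩
  rw [mul_smul, mul_smul, ha, hb, hc]
  simp only [map_add, map_smul, LinearMap.add_apply, LinearMap.smul_apply, BJ_alt,
    skew BJ_alt v u, h, smul_eq_mul]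
  module

variable (F) in
/-- pointwise stabilizer of basis vectors -/
def FxS (T : Set (ι ⊕ ι)) : Subgroup (symplecticGroup ι F) :=
  ⨅ c ∈ T, MulAction.stabilizer (symplecticGroup ι F) (Pi.single c 1 : ι ⊕ ι → F)

theorem mem_FxS {T : Set (ι ⊕ ι)} {g : symplecticGroup ι F} :
    g ∈ FxS F T ↔ ∀ c ∈ T, g • (Pi.single c 1 : ι ⊕ ι → F) = Pi.single c 1 := by
  simp [FxS, mem_iInf]

variable (F) in
/-- vectors supported on a set of indices -/
def VA (A : Set ι) : Submodule F (ι ⊕ ι → F) where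
  carrier := {v | ∀ c, ix c ∉ A → v c = 0}
  add_mem' ha hb c hc := by simp [ha c hc, hb c hc]
  zero_mem' _ _ := rfl
  smul_mem' _ _ ha c hc := by simp [ha c hc]

theorem FxS_mono {T T' : Set (ι ⊕ ι)} (h : T ⊆ T') : FxS F T' ≤ FxS F T :=
  fun _ hg => mem_FxS.2 fun c hc => mem_FxS.1 hg c (h hc)

theorem smul_apply_eq {T : Set (ι ⊕ ι)} {g : symplecticGroup ι F} (hg : g ∈ FxS F T)
    (x : ι ⊕ ι → F) {c : ι ⊕ ι} (hc : c.swap ∈ T) : (g • x) c = x c := by
  have := BJ_smul g x (Pi.single c.swap 1)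
  rw [mem_FxS.1 hg _ hc, ← sub_eq_zero, ← LinearMap.sub_apply, ← map_sub, BJ_single,
    swap_swap] at this
  exact sub_eq_zero.1 this

theorem smul_eq_self {T : Set (ι ⊕ ι)} {g : symplecticGroup ι F} (hg : g ∈ FxS F T)
    {x : ι ⊕ ι → F} (hx : ∀ c, c ∉ T → x c = 0) : g • x = x := by
  rw [← Finset.univ_sum_single x, Finset.smul_sum]
  refine Finset.sum_congr rfl fun c _ => ?_
  by_cases hc : c ∈ T
  · rw [← mul_one (x c), ← smul_eq_mul, Pi.single_smul, smul_comm, mem_FxS.1 hg c hc]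
  · simp [hx c hc]

theorem commute_FxS {T T' : Set (ι ⊕ ι)} {g h : symplecticGroup ι F} (hg : g ∈ FxS F T)
    (hh : h ∈ FxS F T') (e : ∀ c, c ∈ T ∨ c.swap ∈ T') : Commute g h := sp_ext fun x => by
  have e1 := smul_eq_self hg (x := h • x - x) fun c hc => by
    rw [Pi.sub_apply, smul_apply_eq hh x ((e c).resolve_left hc), sub_self]
  have e2 := smul_eq_self hh (x := g • x - x) fun c hc => by
    rw [Pi.sub_apply, smul_apply_eq hg x ((e c.swap).resolve_right (by simpa)), sub_self]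
  rw [smul_sub, sub_eq_iff_eq_add] at e1 e2
  rw [mul_smul, mul_smul, e1, e2]
  abel

theorem IsX.mem_FxS {T : Set (ι ⊕ ι)} {g : symplecticGroup ι F} {a : ι ⊕ ι → F} {c : F}
    (h : IsX (BJ F ι) g a c) (ha : ∀ d ∈ T, a d.swap = 0) : g ∈ FxS F T :=
  CfsgH1.mem_FxS.2 fun d hd => by rw [h, skew BJ_alt, (BJ_single a d).2 (ha d hd)]; simp

theorem IsT.mem_FxS {T : Set (ι ⊕ ι)} {g : symplecticGroup ι F} {a b : ι ⊕ ι → F}
    (h : IsT (BJ F ι) g a b) (ha : ∀ d ∈ T, a d.swap = 0) (hb : ∀ d ∈ T, b d.swap = 0) :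
    g ∈ FxS F T := CfsgH1.mem_FxS.2 fun d hd => by
  rw [h, skew BJ_alt _ a, skew BJ_alt _ b, (BJ_single a d).2 (ha d hd), (BJ_single b d).2 (hb d hd)]
  simp

theorem ndOn_VA (A : Set ι) : NdOn (BJ F ι) (VA F A) := fun v hv h0 => by
  obtain ⟨c, hc⟩ := Function.ne_iff.1 h0
  have k : BJ F ι v (Pi.single c.swap 1) ≠ 0 := by rwa [Ne, BJ_single, swap_swap]
  refine ⟨(BJ F ι v (Pi.single c.swap 1))⁻¹ • Pi.single c.swap 1, Submodule.smul_mem _ _ fun d hd =>
    Pi.single_eq_of_ne (fun e => hc (hv c (by simpa [e] using hd))) _, by simp [k]⟩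

theorem orth_VA {A A' : Set ι} (h : ∀ i ∈ A, i ∉ A') {u v : ι ⊕ ι → F} (hu : u ∈ VA F A)
    (hv : v ∈ VA F A') : BJ F ι u v = 0 := by
  rw [BJ_apply]
  refine Finset.sum_eq_zero fun i _ => ?_
  by_cases e : i ∈ A
  · rw [hv (inl i) (h i e), hv (inr i) (h i e)]; simp
  · rw [hu (inl i) e, hu (inr i) e]; simp

theorem mem_VA_single (k : ι) (u : ι ⊕ ι → F) : u ∈ VA F {k} ↔
    ∃ a b : F, u = a • (Pi.single (inl k) 1 : ι ⊕ ι → F) + b • (Pi.single (inr k) 1 : ι ⊕ ι → F) := by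
  constructor
  · refine fun h => ⟨u (inl k), u (inr k), funext fun c => ?_⟩
    by_cases e : ix c = k
    · rcases (ix_eq_iff (b := inl k)).1 e with rfl | rfl <;> simp
    · rw [h c e]
      cases c <;> simp_all [ix, Pi.single_apply]
  · rintro ⟨a, b, rfl⟩ c hc
    cases c <;> simp_all [ix, Pi.single_apply]

theorem smul_mem_VA {A : Set ι} {g : symplecticGroup ι F} (hg : g ∈ FxS F {c | ix c ∉ A})
    {u : ι ⊕ ι → F} (hu : u ∈ VA F A) : g • u ∈ VA F A := fun c hc => by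
  rw [smul_apply_eq hg u (by simpa), hu c hc]

theorem smul_eq_of_VA {A A' : Set ι} (h : ∀ i ∈ A, i ∉ A') {g : symplecticGroup ι F}
    (hg : g ∈ FxS F {c | ix c ∉ A}) {u : ι ⊕ ι → F} (hu : u ∈ VA F A') : g • u = u :=
  smul_eq_self hg fun c hc => hu c (h _ (by simpa using hc))

theorem exists_decomp {A : Set ι} {k : ι} {v : ι ⊕ ι → F} (hv : v ∈ VA F (insert k A)) :
    ∃ u ∈ VA F {k}, ∃ w ∈ VA F A, u + w = v := by
  classical
  refine ⟨fun c => if ix c = k then v c else 0, fun c hc => if_neg hc,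
    fun c => if ix c = k then 0 else v c, fun c hc => ?_, funext fun c => ?_⟩
  · by_cases e : ix c = k
    · exact if_pos e
    · exact (if_neg e).trans (hv c (by simp [e, hc]))
  · by_cases e : ix c = k <;> simp [e]

end CfsgH1
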