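import Mathlib
import Cfsg.Agent.H1.QF2Real
import Cfsg.Agent.H1.Sp8Char
import Cfsg.Agent.H1.SpConc
import Cfsg.Agent.H2.SpCenter
import Cfsg.Prelude.Def_Classical

/-!
The element orders of `Sp₈(q)`, `GO₈⁻(q)` and `q⁸ : Ω₈⁻(q)` for even `q`.
-/

set_option autoImplicit false

namespace CfsgH1

open QuadraticMap Module Matrix Sum

universe u

theorem cop_of {a b : ℕ} (ha : Odd a) (c : ℕ) (h : b = c * a + 2 ∨ b + 2 = c * a) :
    b.Coprime a := by
  have h1 := Nat.gcd_dvd_left b a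
  have h2 := Nat.gcd_dvd_right b a
  have h3 : b.gcd a ∣ 2 := by
    rcases h with h | h
    · exact (Nat.dvd_add_right (h2.mul_left c)).1 (h ▸ h1)
    · exact (Nat.dvd_add_right h1).1 (h ▸ h2.mul_left c)
  exact ((Nat.dvd_prime Nat.prime_two).1 h3).resolve_right fun e =>
    ha.not_two_dvd_nat (e ▸ h2)

variable {F : Type u} [Field F] [Fintype F] [CharP F 2]

theorem rl_lam {ψ : AddChar F ℤ} (hψ : ψ ≠ 1) : ∀ t ∈ lam (Fintype.card F - 1),
    (∃ k, Rl ψ 8 (-1) (2 ^ t.1 * t.2) True k) ∧ Rl ψ 8 (-1) (2 ^ t.1 * t.2) False 0 := by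
  obtain ⟨s, hs, so⟩ : ∃ s, Fintype.card F = s + 1 ∧ Odd s := by
    have := CfsgH7.card_even_of_char_two (F := F)
    have := Fintype.card_pos (α := F)
    exact ⟨Fintype.card F - 1, by omega, Nat.odd_iff.2 (by omega)⟩
  have T := fun lin j [NeZero j] => rl_torus (lin := lin) hψ j
  simp only [hs] at T
  let P := fun d ε m => (∃ k, Rl ψ d ε m True k) ∧ Rl ψ d ε m False 0
  have p0 : ∀ {d ε m}, (∀ lin, Rl ψ d ε m lin 0) → P d ε (2 ^ 0 * m) := fun h => by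
    rw [pow_zero, one_mul]; exact ⟨⟨_, h _⟩, h _⟩
  have p1 : ∀ {d ε m d' ε'} e, P d ε (2 ^ e) → (∀ lin, Rl ψ d' ε' m lin 0) → Odd m →
      P (d + d') (ε * ε') (2 ^ e * m) := fun e h h' o =>
    have c := (Nat.coprime_two_left.2 o).pow_left e
    ⟨h.1.imp fun _ h => h.cop (h' _) c, h.2.cop (h' _) c⟩
  have U : ∀ ε : ℤ, ε = 1 ∨ ε = -1 → P 2 ε (2 ^ 1) ∧ P 4 ε (2 ^ 2) ∧ P 6 ε (2 ^ 3) := fun ε h => by
    obtain ⟨a, b, c, d⟩ := rl_unip hψ h
    have r := (rl_unip hψ (.inl rfl)).1 False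
    exact ⟨⟨⟨_, a _⟩, b⟩, ⟨c.ext hψ, by simpa [Rl, Re] using c.prod r fun _ h _ => h⟩,
      d.ext hψ, by simpa [Rl, Re] using d.prod r fun _ h _ => h⟩
  obtain ⟨u2, u4, u6⟩ := U 1 (.inl rfl)
  obtain ⟨w2, w4, w6⟩ := U (-1) (.inr rfl)
  have a1 : ∀ lin, Rl ψ 2 1 s lin 0 := fun l => by simpa using (T l 1).1
  have a2 : ∀ lin, Rl ψ 4 1 (s * (s + 2)) lin 0 := fun l => by
    convert (T l 2).1; exact Nat.eq_sub_of_add_eq (by ring)
  have a3 : ∀ lin, Rl ψ 6 1 (s * (s ^ 2 + 3 * s + 3)) lin 0 := fun l => by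
    convert (T l 3).1; exact Nat.eq_sub_of_add_eq (by ring)
  have b1 : ∀ lin, Rl ψ 2 (-1) (s + 2) lin 0 := fun l => by simpa using (T l 1).2
  have b2 : ∀ lin, Rl ψ 4 (-1) ((s + 1) ^ 2 + 1) lin 0 := fun l => (T l 2).2
  have b3 : ∀ lin, Rl ψ 6 (-1) ((s + 2) * (s ^ 2 + s + 1)) lin 0 := fun l => by
    convert (T l 3).2 using 1; ring
  have o1 : Odd (s + 2) := by grind
  have o2 : Odd ((s + 1) ^ 2 + 1) := by grind
  have o3 : Odd (s ^ 2 + 3 * s + 3) := by grind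
  have o4 : Odd (s ^ 2 + s + 1) := by grind
  simp only [hs, Nat.add_sub_cancel, lam, List.forall_mem_cons]
  exact ⟨p0 fun l => (T l 4).2,
    p0 fun l => (a2 l).cop (b2 l) (cop_of (so.mul o1) 1 (.inl (by ring))).symm,
    p0 fun l => (a3 l).cop (b1 l) (cop_of o1 (s ^ 2 + s + 1) (.inr (by ring))),
    p0 fun l => (b3 l).cop (a1 l) (cop_of so (s ^ 2 + 3 * s + 3) (.inl (by ring))),
    p1 1 u2 b3 (o1.mul o4), p1 1 w2 a3 (so.mul o3),
    p1 1 w2 (fun l => (b2 l).cop (b1 l) (cop_of o1 s (.inl (by ring)))) (o2.mul o1),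
    p1 1 u2 (fun l => (b2 l).cop (a1 l) (cop_of so (s + 2) (.inl (by ring)))) (o2.mul so),
    p1 2 u4 b2 o2, p1 2 w4 a2 (so.mul o1), p1 3 u6 b1 o1, p1 3 w6 a1 so, by simp⟩

theorem spec_of_lam {G : Type*} [Group G] [Finite G] {L : List (ℕ × ℕ)}
    (up : ∀ g : G, ∃ t ∈ L, g ^ (2 ^ t.1 * t.2) = 1)
    (low : ∀ t ∈ L, ∃ g : G, ∀ n, g ^ n = 1 → 2 ^ t.1 * t.2 ∣ n) :
    Set.range (orderOf : G → ℕ) = {d | ∃ t ∈ L, d ∣ 2 ^ t.1 * t.2} :=
  Set.ext fun _ => ⟨fun ⟨g, e⟩ => (up g).imp fun _ h => ⟨h.1, e ▸ orderOf_dvd_of_pow_eq_one h.2⟩,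
    fun ⟨t, h1, h2⟩ => (low t h1).elim fun g hg =>
      CfsgH7.exists_orderOf_of_dvd' g (h2.trans (hg _ (pow_orderOf_eq_one g)))⟩

section
variable {V : Type*} [AddCommGroup V] [Module F V] [Finite V] {Q : QuadraticForm F V}
  {ψ : AddChar F ℤ} (hψ : ψ ≠ 1) (hV : finrank F V = 8) (hQ : Nd Q) (hn : gs ψ Q < 0)
include hψ hV hQ hn

theorem Rl.re {m k : ℕ} {lin : Prop} (h : Rl ψ 8 (-1) m lin k) : Re Q m lin k := by
  obtain ⟨V', _, _, _, Q', h1, h2, h3, h4⟩ := h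
  exact h4.of_equiv (equiv_of_neg hψ 8 _ _ _ _ h2 hV h1 hQ (by omega) hn)

theorem spec_lin {G : Type*} [Group G] (ρ : G →* End F V) (inj : Function.Injective ρ)
    (h1 : ∀ g x y, polar Q (ρ g x) (ρ g y) = polar Q x y) (h2 : ∀ g ∈ Og Q, ∃ a, ρ a = g) :
    Set.range (orderOf : G → ℕ) = {d | ∃ t ∈ lam (Fintype.card F - 1), d ∣ 2 ^ t.1 * t.2} := by
  haveI : Finite G := .of_injective _ (DFunLike.coe_injective.comp inj)
  refine spec_of_lam (fun g => (charpoly_dvd_lam hV hQ.nondegenerate (h1 g)).imp fun t h =>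
    ⟨h.1, inj (by rw [map_pow, pow_eq_one_of_charpoly_dvd h.2, map_one])⟩) fun t ht => ?_
  obtain ⟨k, h⟩ := (rl_lam hψ t ht).1
  obtain ⟨g, a, v, b, c, -⟩ := h.re hψ hV hQ hn
  obtain ⟨x, hx⟩ := h2 g a
  refine ⟨x, fun n e => b n ?_⟩
  have := congrArg (fun y => ⇑(ρ y)) e
  simpa [hx, c, End.coe_pow] using! this

theorem spec_aff : Set.range (orderOf : CfsgH7.Aff (Kg hQ (by omega)) V → ℕ) =
    {d | ∃ t ∈ lam (Fintype.card F - 1), d ∣ 2 ^ t.1 * t.2} := by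
  haveI : Finite (V ≃ₗ[F] V) := .of_injective _ DFunLike.coe_injective
  refine spec_of_lam (fun x => (charpoly_dvd_lam hV hQ.nondegenerate
    (g := x.right.1.toLinearMap) (Og.polar x.right.2.1)).imp fun t h => ⟨h.1, ?_⟩) fun t ht => ?_
  · have e : ∀ i, ((x.right ^ i).1 : V →ₗ[F] V) = x.right.1.toLinearMap ^ i := fun i =>
      map_pow LinearEquiv.automorphismGroup.toLinearMapMonoidHom _ i
    refine CfsgH7.aff_pow_eq_one_of_norm _ _ (Subtype.ext (LinearEquiv.toLinearMap_injective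
      ((e _).trans (pow_eq_one_of_charpoly_dvd h.2)))) ?_
    have := LinearMap.congr_fun (sum_pow_eq_zero h.2 fun c => by
      have := x.right.2.2
      rw [c, hV] at this
      omega) x.left.toAdd
    simpa [← e] using! this
  · obtain ⟨g, a, v, b, -, c⟩ := (rl_lam hψ t ht).2.re hψ hV hQ hn
    let x : CfsgH7.Aff (Kg hQ (by omega)) V := ⟨.ofAdd v, g, a, by rw [c, hV]⟩
    have : ∀ n y, (fun y => g y + v)^[n] y = (x ^ n).right • y + (x ^ n).left.toAdd := fun n y => by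
      induction n with
      | zero => simp
      | succ n ih =>
        rw [Function.iterate_succ_apply', ih, pow_succ', map_add, add_assoc, add_comm _ v]
        rfl
    exact ⟨x, fun n e => b n (funext fun y => by simp [this, e])⟩

end

theorem exists_minus {ψ : AddChar F ℤ} (hψ : ψ ≠ 1) {ι : Type} [Fintype ι]
    (hι : Fintype.card ι = 8) (c : Fin 8 → ι) (hc : Function.Surjective c) {a b : F}
    (h : ∀ z₁ z₂ : F, z₁ ^ 2 + a * z₁ * z₂ + b * z₂ ^ 2 = 0 → z₁ = 0 ∧ z₂ = 0) :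
    ∃ Q : QuadraticForm F (ι → F), Nd Q ∧ gs ψ Q < 0 ∧ ∀ x, Q x = x (c 0) * x (c 1) +
      x (c 2) * x (c 3) + x (c 4) * x (c 5) +
        (x (c 6) ^ 2 + a * x (c 6) * x (c 7) + b * x (c 7) ^ 2) := by
  let p : Fin 8 → Fin 8 → (ι → F) →ₗ[F] F × F := fun i j => (LinearMap.proj (c i)).prod (.proj (c j))
  let e := (((p 0 1).prod (p 2 3)).prod (p 4 5)).prod (p 6 7) |>.linearEquivOfInjective
    ((injective_iff_map_eq_zero _).2 fun x hx => funext fun i => by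
      obtain ⟨i, rfl⟩ := hc i
      simp [p, Prod.ext_iff] at hx
      fin_cases i <;> simp [hx]) (by simp [hι])
  have a0 : a ≠ 0 := fun a0 => by
    obtain ⟨r, hr⟩ := (frobeniusEquiv F 2).surjective b
    exact one_ne_zero (h r 1 (by simp [a0, ← hr, frobenius_def, CharTwo.add_self_eq_zero])).2
  have n := nd_qbin (0 : F) one_ne_zero 0
  have i := (((qbin 0 1 0).prod (qbin 0 1 0)).prod (qbin 0 1 0)).prod
    (qbin 1 a b) |>.isometryEquivOfCompLinearEquiv e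
  refine ⟨_, Nd.of_equiv ⟨i⟩ (nd_prod_iff.2 ⟨nd_prod_iff.2 ⟨nd_prod_iff.2 ⟨n, n⟩, n⟩,
    nd_qbin _ a0 _⟩), ?_, fun x => by simp [e, p]⟩
  rw [← gs_of_equiv ψ ⟨i⟩, gs_prod, gs_prod, gs_prod, gs_hyp hψ]
  refine mul_neg_of_pos_of_neg (by positivity) (gs_neg hψ (fun c v => by simp; ring)
    (fun v hv => ?_) (by simp [Fintype.one_lt_card]))
  exact Prod.ext_iff.2 (h _ _ (by simpa using hv))

theorem spec_psp8 : Set.range (orderOf : Cfsg.PSp 4 F → ℕ) =
    {d | ∃ t ∈ lam (Fintype.card F - 1), d ∣ 2 ^ t.1 * t.2} := by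
  obtain ⟨ψ, hψ⟩ := exists_addChar F
  obtain ⟨c, hc⟩ := exists_not_root F
  obtain ⟨Q, h1, h2, h3⟩ := exists_minus hψ (ι := Fin 4 ⊕ Fin 4) (by simp)
    ![inl 0, inr 0, inl 1, inr 1, inl 2, inr 2, inl 3, inr 3] (by decide) (a := 1) (b := c)
    fun x y e => by
      have h : y = 0 := by_contra fun h => hc (x / y) (by
        field_simp
        linear_combination e - y ^ 2 * c * CharTwo.two_eq_zero (R := F))
      exact ⟨by simpa [h] using e, h⟩
  have h4 : ∀ x y, polar Q x y = BJ F _ x y := fun x y => by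
    simp [polar, h3, BJ_apply, Fin.sum_univ_four]
    grind
  have z : Subgroup.center (symplecticGroup (Fin 4) F) = ⊥ := eq_bot_iff.2 fun g hg =>
    Subtype.ext ((CfsgH2.mem_center_symplectic_iff.1 hg).elim id fun e =>
      e.trans (Matrix.ext fun _ _ => CharTwo.neg_eq _))
  rw [CfsgH7.spec_congr ((QuotientGroup.quotientMulEquivOfEq z).trans QuotientGroup.quotientBot)]
  refine spec_lin hψ (by simp) h1 h2 (toLinAlgEquiv'.toMonoidHom.comp (Submonoid.subtype _))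
    (toLinAlgEquiv'.injective.comp Subtype.val_injective) (fun g x y => ?_) fun g hg =>
      ⟨⟨LinearMap.toMatrix' g, mem_sp_iff.2 fun u v => ?_⟩, toLin'_toMatrix' _⟩
  · rw [h4, h4]
    exact BJ_smul g x y
  · simpa [← h4] using Og.polar hg u v

theorem spec_go8 {a b : F}
    (h : ∀ z₁ z₂ : F, z₁ ^ 2 + a * z₁ * z₂ + b * z₂ ^ 2 = 0 → z₁ = 0 ∧ z₂ = 0) :
    Set.range (orderOf : Cfsg.isometryGroup F (Cfsg.quadFormMinus 3 F a b) → ℕ) =
      {d | ∃ t ∈ lam (Fintype.card F - 1), d ∣ 2 ^ t.1 * t.2} := by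
  obtain ⟨ψ, hψ⟩ := exists_addChar F
  obtain ⟨Q, h1, h2, h3⟩ := exists_minus hψ (ι := (Fin 3 ⊕ Fin 3) ⊕ Fin 2) (by simp)
    ![inl (inl 0), inl (inr 0), inl (inl 1), inl (inr 1), inl (inl 2), inl (inr 2), inr 0, inr 1]
    (by decide) h
  have h4 : Cfsg.quadFormMinus 3 F a b = Q := funext fun x => by
    simp [h3, Cfsg.quadFormMinus, Fin.sum_univ_three]
  rw [h4]
  refine spec_lin hψ (by simp) h1 h2
    (toLinAlgEquiv'.toMonoidHom.comp ((Units.coeHom _).comp (Subgroup.subtype _)))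
    (toLinAlgEquiv'.injective.comp (Units.val_injective.comp Subtype.val_injective))
    (fun g => polar_iso (map_add _) fun x => by exact g.2 x x) fun g hg =>
      ⟨⟨GeneralLinearGroup.toLin.symm (.ofLinearEquiv g), fun u _ => ?_⟩, toLin'_toMatrix' _⟩
  exact (congrArg Q (LinearMap.toMatrix'_mulVec _ _)).trans (hg u)

theorem exists_large_psp8 (N : ℕ) : ∃ (H : Type) (_ : Group H) (_ : Fintype H),
    N < Fintype.card H ∧ Set.range (orderOf : H → ℕ) = Set.range (orderOf : Cfsg.PSp 4 F → ℕ) := by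
  obtain ⟨ψ, hψ⟩ := exists_addChar F
  obtain ⟨c, hc⟩ := exists_not_root F
  obtain ⟨Q, h1, h2, -⟩ := exists_minus hψ (ι := Fin 8) (by simp) id Function.surjective_id
    (a := 1) (b := c) fun x y e => by
      have h : y = 0 := by_contra fun h => hc (x / y) (by
        field_simp
        linear_combination e - y ^ 2 * c * CharTwo.two_eq_zero (R := F))
      exact ⟨by simpa [h] using e, h⟩
  haveI : Finite ((Fin 8 → F) ≃ₗ[F] Fin 8 → F) := .of_injective _ DFunLike.coe_injective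
  rw [spec_psp8, ← spec_aff hψ (by simp) h1 h2]
  exact CfsgH7.exists_large_isospectral_aff N

end CfsgH1
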