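import Cfsg.Agent.H1.U3Ca

/-! The two-point stabiliser is cyclic (S3645, C7 and C9). -/

set_option autoImplicit false

namespace CfsgU3

open CfsgH5 CfsgH6 CfsgFT CfsgU3C Subgroup MulAction

universe u

variable {G Ω : Type u} [Group G] [Finite G] [MulAction G Ω] {q r : ℕ} {i o : Ω}
  {Q Z H : Subgroup G} {j : G}

theorem c_ord_cj (g x : G) : orderOf (g * x * g⁻¹) = orderOf x :=
  (MulAut.conj g).orderOf_eq x

namespace U3B

variable (h : U3B G Ω q r i o Q Z H j)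
include h

theorem c_jj : j * j = 1 := by rw [← pow_two, ← h.j2, pow_orderOf_eq_one]

theorem c_inv {t : G} (ht : t ∈ H) (h2 : orderOf t = 2) : t = j := by
  refine (h.juniq t ht (by rw [← pow_two, ← h2, pow_orderOf_eq_one])).resolve_left fun e => ?_
  rw [e, orderOf_one] at h2
  exact absurd h2 (by norm_num)

theorem c_cj {g : G} (hg : g * j * g⁻¹ ∈ H) : g * j = j * g := by
  have := h.c_inv hg (by rw [c_ord_cj, h.j2])
  rwa [mul_inv_eq_iff_eq_mul] at this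

theorem c_jc {g : G} (hg : g ∈ H) : g * j = j * g :=
  h.c_cj (mul_mem (mul_mem hg h.jH) (inv_mem hg))

theorem c_sq {k : G} (hk : k ∈ H) (h4 : orderOf k = 4) : k * k = j :=
  h.c_inv (mul_mem hk hk) (by rw [← pow_two, orderOf_pow_of_dvd (by norm_num) (by rw [h4]; norm_num), h4])

theorem c_Hn {g : G} (hg : g ∈ H) {x : G} (hx : x ∈ Q) : g * x * g⁻¹ ∈ Q :=
  h.nrm g ((h.memH g).mp hg).1 x hx

theorem c_two {a b : Ω} (hab : b ≠ a) : ∃ g : G, g • i = a ∧ g • o = b := by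
  obtain ⟨g, hg⟩ : ∃ g : G, g • i = a := by
    by_cases e : a = i
    · exact ⟨1, by rw [one_smul, e]⟩
    obtain ⟨x, -, hx⟩ := h.tr a e
    obtain ⟨g, hg⟩ := h.trans
    exact ⟨x * g, by rw [mul_smul, hg, hx]⟩
  obtain ⟨x, hx, e⟩ := h.tr (g⁻¹ • b) (fun e => hab (by rw [← hg, ← e, smul_inv_smul]))
  exact ⟨g * x, by rw [mul_smul, h.fix x hx, hg], by rw [mul_smul, e, smul_inv_smul]⟩

theorem c_fix_iff {a b : Ω} {g : G} (hi : g • i = a) (ho : g • o = b) {s : G}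
    (hs : orderOf s = 2) : (s • a = a ∧ s • b = b) ↔ s = g * j * g⁻¹ := by
  constructor
  · rintro ⟨h1, h2⟩
    have : g⁻¹ * s * g⁻¹⁻¹ = j := h.c_inv ((h.memH _).mpr
      ⟨by rw [inv_inv, mul_smul, mul_smul, hi, h1, ← hi, inv_smul_smul],
       by rw [inv_inv, mul_smul, mul_smul, ho, h2, ← ho, inv_smul_smul]⟩)
      (by rw [c_ord_cj, hs])
    rw [← this]; group
  · rintro rfl
    have := (h.memH j).mp h.jH
    exact ⟨by rw [← hi, mul_smul, mul_smul, inv_smul_smul, this.1],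
      by rw [← ho, mul_smul, mul_smul, inv_smul_smul, this.2]⟩

theorem c_fin : Finite Ω := Nat.finite_of_card_ne_zero (by rw [h.cardΩ]; omega)

theorem c_card_inv : {s : G | orderOf s = 2}.ncard * ((q + 1) * (q + 1) - (q + 1)) =
    (q ^ 3 + 1) * (q ^ 3 + 1) - (q ^ 3 + 1) := by
  classical
  haveI := h.c_fin
  haveI := Fintype.ofFinite Ω
  haveI := Fintype.ofFinite G
  have := Finset.card_mul_eq_card_mul (s := Finset.univ.filter fun s : G => orderOf s = 2)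
    (t := (Finset.univ : Finset Ω).offDiag) (fun s p => s • p.1 = p.1 ∧ s • p.2 = p.2)
    (m := (q + 1) * (q + 1) - (q + 1)) (n := 1) (fun s hs => ?_) (fun p hp => ?_)
  · rw [Finset.offDiag_card, Finset.card_univ, ← Nat.card_eq_fintype_card, h.cardΩ,
      mul_one] at this
    rw [← this, Set.ncard_eq_toFinset_card']
    simp
  · have e : ((Finset.univ : Finset Ω).offDiag.bipartiteAbove
        (fun (s : G) (p : Ω × Ω) => s • p.1 = p.1 ∧ s • p.2 = p.2) s) =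
        (Finset.univ.filter fun w : Ω => s • w = w).offDiag := by
      ext p; simp [Finset.mem_bipartiteAbove, Finset.mem_offDiag]; tauto
    have e2 : (Finset.univ.filter fun w : Ω => s • w = w).card = q + 1 := by
      rw [← h.fixn s (by simpa using hs), Set.ncard_eq_toFinset_card']
      simp
    rw [e, Finset.offDiag_card, e2]
  · obtain ⟨g, h1, h2⟩ := h.c_two (a := p.1) (b := p.2) (Finset.mem_offDiag.mp hp).2.2.symm
    refine Finset.card_eq_one.mpr ⟨g * j * g⁻¹, ?_⟩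
    ext s
    simp only [Finset.mem_bipartiteBelow, Finset.mem_filter, Finset.mem_univ, true_and,
      Finset.mem_singleton]
    constructor
    · rintro ⟨hs, hf⟩; exact (h.c_fix_iff h1 h2 hs).mp hf
    · intro e
      have hs : orderOf s = 2 := by rw [e, c_ord_cj, h.j2]
      exact ⟨hs, (h.c_fix_iff h1 h2 hs).mpr e⟩

theorem c_fix_o {g : G} (hg : g ∈ H) {x : G} (hx : x ∈ Q) :
    g • x • o = x • o ↔ g * x = x * g := by
  have ho := ((h.memH g).mp hg).2
  have ho' : g⁻¹ • o = o := by rw [inv_smul_eq_iff, ho]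
  constructor
  · intro e
    have := h.reg (x⁻¹ * (g * x * g⁻¹)) (mul_mem (inv_mem hx) (h.c_Hn hg hx))
      (by rw [mul_smul, mul_smul, mul_smul, ho', e, inv_smul_smul])
    rw [inv_mul_eq_one, eq_comm, mul_inv_eq_iff_eq_mul] at this
    exact this
  · intro e
    rw [← mul_smul, e, mul_smul, ho]

theorem c_reg {x : G} (hx : x ∈ Q) {a : Ω} (ha : a ≠ i) (e : x • a = a) : x = 1 := by
  obtain ⟨y, hy, rfl⟩ := h.tr a ha
  have := h.reg (y⁻¹ * x * y) (mul_mem (mul_mem (inv_mem hy) hx) hy)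
    (by rw [mul_smul, mul_smul, e, inv_smul_smul])
  calc x = y * (y⁻¹ * x * y) * y⁻¹ := by group
    _ = 1 := by rw [this]; group

theorem c_trZ {a b : Ω} (ha : a ≠ i) (hb : b ≠ i) (ja : j • a = a) (jb : j • b = b) :
    ∃ z ∈ Z, z • a = b := by
  obtain ⟨x, hx, rfl⟩ := h.tr a ha
  obtain ⟨y, hy, rfl⟩ := h.tr b hb
  exact ⟨y * x⁻¹, mul_mem ((h.jZ y hy).mp ((h.c_fix_o h.jH hy).mp jb))
    (inv_mem ((h.jZ x hx).mp ((h.c_fix_o h.jH hx).mp ja))), by rw [mul_smul, inv_smul_smul]⟩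

theorem c_H0 {g z : G} (hg : g ∈ H) (hz : z ∈ Z) (h1 : z ≠ 1) (e : g * z = z * g) :
    orderOf g ∣ q + 1 := by
  rw [← h.H0 z hz h1]
  exact Subgroup.orderOf_dvd_natCard _ (mem_inf.mpr ⟨hg, mem_C1.mpr e⟩)

theorem c_exZ : ∃ z ∈ Z, z ≠ 1 := by
  by_contra hc
  push Not at hc
  have : Z = ⊥ := eq_bot_iff.mpr fun z hz => mem_bot.mpr (hc z hz)
  have h1 := h.cardZ
  have h2 := h.par
  rw [this, card_bot] at h1
  simp at h2
  omega

end U3B

/-- `q = 7`: an element of order four of `H` centralises `Z` -/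
theorem U3B.c7_four (h : U3B G Ω 7 r i o Q Z H j) {k : G} (hk : k ∈ H) (h4 : orderOf k = 4)
    {z : G} (hz : z ∈ Z) : k * z = z * k := by
  obtain ⟨x, hx, y, hy, hxy⟩ := h.nab
  have hkk := h.c_sq hk h4
  set a := k * x * k⁻¹ with ha
  have haQ : a ∈ Q := h.c_Hn hk hx
  obtain ⟨z0, hz0, e0⟩ : ∃ z0 ∈ Z, k * a * k⁻¹ = x⁻¹ * z0 :=
    ⟨_, h.jinv x hx, by rw [ha, ← hkk]; group⟩
  by_cases hc : x * a = a * x
  · exfalso
    have hZR : Z ≤ Q ⊓ C1 x ⊓ C1 a := fun w hw =>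
      ⟨⟨h.Z_le hw, mem_C1.mpr (h.Zc w hw x hx).symm⟩, mem_C1.mpr (h.Zc w hw a haQ).symm⟩
    have hxZ : x ∉ Z := fun hh => hxy (h.Zc x hh y hy).symm
    have hxR : x ∈ Q ⊓ C1 x ⊓ C1 a := ⟨⟨hx, mem_C1.mpr rfl⟩, mem_C1.mpr hc⟩
    have hlt : Q ⊓ C1 x ⊓ C1 a < Q := lt_of_le_of_ne (inf_le_left.trans inf_le_left) fun e =>
      hxy (mem_C1.mp (e.ge hy).1.2).symm
    have hlt' : Z < Q ⊓ C1 x ⊓ C1 a := lt_of_le_of_ne hZR fun e => hxZ (e.ge hxR)
    have c1 := card_dvd_of_le hlt.le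
    have c2 := card_lt_of_lt hlt
    have c3 := card_lt_of_lt hlt'
    rw [h.cardQ] at c1 c2
    rw [h.cardZ] at c3
    obtain ⟨n, hn, e⟩ := (Nat.dvd_prime_pow (by norm_num : Nat.Prime 7)).mp c1
    have c4 : Nat.card ↥(Q ⊓ C1 x ⊓ C1 a) = 49 := by
      rw [e] at c2 c3 ⊢
      interval_cases n <;> simp_all
    have hkR : k ∈ N (Q ⊓ C1 x ⊓ C1 a) := by
      refine mem_N_of_conj fun w hw => ⟨⟨h.c_Hn hk hw.1.1, mem_C1.mpr ?_⟩, mem_C1.mpr ?_⟩
      · have h1 : k * w * k⁻¹ * (k * a * k⁻¹) = k * a * k⁻¹ * (k * w * k⁻¹) := by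
          calc _ = k * (w * a) * k⁻¹ := by group
            _ = _ := by rw [mem_C1.mp hw.2]; group
        have h2 := h.Zc z0 hz0 _ (h.c_Hn hk hw.1.1)
        rw [e0, ← mul_assoc, mul_assoc x⁻¹ z0, ← h2, ← mul_assoc, mul_left_inj] at h1
        calc _ = x * (x⁻¹ * (k * w * k⁻¹)) * x := by group
          _ = _ := by rw [← h1]; group
      · calc _ = k * (w * x) * k⁻¹ := by rw [ha]; group
          _ = _ := by rw [mem_C1.mp hw.1.2, ha]; group
    have hle : zpowers k ≤ N (Q ⊓ C1 x ⊓ C1 a) := zpowers_le.mpr hkR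
    have hle' : zpowers k ≤ H := zpowers_le.mpr hk
    have := card_dvd_ncard_of_free (E := zpowers k)
      (A := ((Q ⊓ C1 x ⊓ C1 a : Subgroup G) : Set G) \ Z) (fun e he w hw =>
        ⟨(mem_normalizer_iff.mp (hle he) w).mp hw.1, fun hh => hw.2 (by
          have := h.Zn e⁻¹ (inv_mem (hle' he)) _ hh
          simpa [mul_assoc] using this)⟩)
      (fun e he w hw e' => h.free e (hle' he) w hw.1.1.1 hw.2 (by
        rw [e', mul_inv_cancel]; exact one_mem _))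
    rw [Set.ncard_diff hZR, Nat.card_zpowers, h4, ← Nat.card_coe_set_eq, ← Nat.card_coe_set_eq,
      SetLike.coe_sort_coe, SetLike.coe_sort_coe, c4, h.cardZ] at this
    norm_num at this
  · have hcZ : x * a * x⁻¹ * a⁻¹ ∈ Z := h.comm x hx a haQ
    have hc1 : x * a * x⁻¹ * a⁻¹ ≠ 1 := fun e => hc (by
      rw [mul_inv_eq_one, mul_inv_eq_iff_eq_mul] at e; exact e)
    have hkc : k * (x * a * x⁻¹ * a⁻¹) * k⁻¹ = x * a * x⁻¹ * a⁻¹ := by
      have h1 := h.Zc z0 hz0 _ (inv_mem haQ)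
      have h2 := h.Zc _ hcZ _ (inv_mem hx)
      calc _ = a * (k * a * k⁻¹) * a⁻¹ * (k * a * k⁻¹)⁻¹ := by rw [ha]; group
        _ = a * x⁻¹ * (z0 * a⁻¹) * z0⁻¹ * x := by rw [e0]; group
        _ = x⁻¹ * (x * a * x⁻¹ * a⁻¹) * x := by rw [← h1]; group
        _ = _ := by rw [h2]; group
    have hzp : zpowers (x * a * x⁻¹ * a⁻¹) = Z := by
      haveI := Fact.mk (by norm_num : Nat.Prime 7)
      refine Subgroup.eq_of_le_of_card_ge (zpowers_le.mpr hcZ) ?_
      have := Subgroup.orderOf_dvd_natCard _ hcZ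
      rw [h.cardZ] at this
      rw [Nat.card_zpowers, h.cardZ, ((Nat.dvd_prime (by norm_num)).mp this).resolve_left
        fun e => hc1 (orderOf_eq_one_iff.mp e)]
    rw [← hzp] at hz
    exact mem_C1.mp (C1_le_C1_of_mem_zpowers hz (mem_C1_iff_conj.mpr hkc))

theorem U3B.cyc7 (h : U3B G Ω 7 r i o Q Z H j) : IsCyclic H := by
  obtain ⟨z, hz, hz1⟩ := h.c_exZ
  rcases str16 (p := 3) Nat.prime_three (by norm_num) (h.cardH.trans (by norm_num)) h.juniq with
    e | ⟨x, hx, y, hy, h1, h2, h3, h4⟩ | ⟨a, ha, t, ht, h1, h2, h3, h4, -, -⟩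
  · exact e
  · exfalso
    have hy0 : y ∈ H ⊓ C1 z := ⟨hy, mem_C1.mpr (h.c7_four hy h2 hz)⟩
    have hx0 : x ∈ H ⊓ C1 z := by
      have : x * y ∈ H ⊓ C1 z := ⟨mul_mem hx hy, mem_C1.mpr (h.c7_four (mul_mem hx hy) h3 hz)⟩
      simpa using mul_mem this (inv_mem hy0)
    have : zpowers x = H ⊓ C1 z := Subgroup.eq_of_le_of_card_ge (zpowers_le.mpr hx0)
      (by rw [Nat.card_zpowers, h1, h.H0 z hz hz1])
    rw [← this] at hy0
    exact h4 (mem_C1.mp (C1_le_C1_of_mem_zpowers hy0 (self_mem_C1 x)))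
  · exfalso
    have hzp : zpowers z = Z := by
      refine Subgroup.eq_of_le_of_card_ge (zpowers_le.mpr hz) ?_
      have := Subgroup.orderOf_dvd_natCard _ hz
      rw [h.cardZ] at this
      rw [Nat.card_zpowers, h.cardZ, ((Nat.dvd_prime (by norm_num)).mp this).resolve_left
        fun e => hz1 (orderOf_eq_one_iff.mp e)]
    obtain ⟨m, hm⟩ := hzp.ge (h.Zn a ha z hz)
    obtain ⟨n, hn⟩ := hzp.ge (h.Zn t ht z hz)
    simp only at hm hn
    have e1 : a * t * z * (a * t)⁻¹ = t * a * z * (t * a)⁻¹ := by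
      calc _ = a * (t * z * t⁻¹) * a⁻¹ := by group
        _ = (a * z * a⁻¹) ^ n := by rw [← hn, conj_zpow]
        _ = (t * z * t⁻¹) ^ m := by rw [← hm, ← hn, ← zpow_mul, ← zpow_mul, mul_comm]
        _ = t * (a * z * a⁻¹) * t⁻¹ := by rw [← hm, conj_zpow]
        _ = _ := by group
    have d1 : orderOf ((t * a)⁻¹ * (a * t)) ∣ 7 + 1 :=
      h.c_H0 (mul_mem (inv_mem (mul_mem ht ha)) (mul_mem ha ht)) hz hz1 (by
        calc _ = (t * a)⁻¹ * (a * t * z * (a * t)⁻¹) * (a * t) := by group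
          _ = _ := by rw [e1]; group)
    have d2 : orderOf ((t * a)⁻¹ * (a * t)) ∣ 3 := by
      rw [← h2]
      refine orderOf_dvd_of_mem_zpowers ?_
      have := mul_mem (inv_mem (h4 a⁻¹ (inv_mem ha))) (mem_zpowers t)
      convert this using 1
      group
    have := orderOf_eq_one_iff.mp (Nat.eq_one_of_dvd_coprimes (by norm_num) d1 d2)
    exact h3 (inv_mul_eq_one.mp this).symm

/-- `q = 9`: an element of order four of `H` inverts `Z` -/
theorem U3B.c9_four (h : U3B G Ω 9 r i o Q Z H j) {k : G} (hk : k ∈ H) (h4 : orderOf k = 4)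
    {z : G} (hz : z ∈ Z) : k * z * k⁻¹ = z⁻¹ := by
  have hz' := h.Zn k hk z hz
  by_contra hne
  have h1 : z * (k * z * k⁻¹) ≠ 1 := fun e => hne (eq_inv_of_mul_eq_one_right e)
  have := h.c_H0 hk (mul_mem hz hz') h1 (by
    have e1 : k * k * z = z * (k * k) := by
      rw [h.c_sq hk h4]; exact (h.jZ z (h.Z_le hz)).mpr hz
    have e2 := h.Zc z hz _ (h.Z_le hz')
    calc _ = k * z * k⁻¹ * (k * k * z) * k⁻¹ := by group
      _ = k * z * k⁻¹ * z * k := by rw [e1]; group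
      _ = _ := by rw [e2])
  rw [h4] at this
  norm_num at this

theorem U3B.cyc9 (h : U3B G Ω 9 r i o Q Z H j) : IsCyclic H := by
  obtain ⟨z, hz, hz1⟩ := h.c_exZ
  rcases str16 (p := 5) Nat.prime_five (by norm_num) (h.cardH.trans (by norm_num)) h.juniq with
    e | ⟨x, hx, y, hy, h1, h2, h3, h4⟩ | ⟨a, ha, t, ht, h1, h2, h3, -, h5, h6⟩
  · exact e
  · exfalso
    have e1 := h.c9_four hy h2 hz
    have e2 := h.c9_four (mul_mem hx hy) h3 hz
    have := h.c_H0 hx (inv_mem hz) (inv_ne_one.mpr hz1) (by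
      calc x * z⁻¹ = x * y * z * (x * y)⁻¹ * x := by rw [← e1]; group
        _ = _ := by rw [e2])
    rw [h1] at this
    norm_num at this
  exfalso
  haveI := h.c_fin
  haveI := Fact.mk Nat.prime_five
  have ht1 : t ≠ 1 := fun e => by rw [e, orderOf_one] at h2; norm_num at h2
  have gen : ∀ u ∈ zpowers t, u ≠ 1 → t ∈ zpowers u := fun u hu hu1 => by
    refine (Subgroup.eq_of_le_of_card_ge (zpowers_le.mpr hu) ?_).ge (mem_zpowers t)
    have := orderOf_dvd_of_mem_zpowers hu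
    rw [h2] at this
    rw [Nat.card_zpowers, Nat.card_zpowers, h2, ((Nat.dvd_prime Nat.prime_five).mp
      this).resolve_left fun e => hu1 (orderOf_eq_one_iff.mp e)]
  -- `t` centralises `Z`
  have tZ : ∀ w ∈ Z, t * w = w * t := fun w hw => by
    by_cases hw1 : w = 1
    · simp [hw1]
    obtain ⟨u, hu⟩ := exists_prime_orderOf_dvd_card' (G := ↥(H ⊓ C1 w)) 5
      (by rw [h.H0 w hw hw1]; norm_num)
    have hu' : orderOf u.1 = 5 := by rw [orderOf_coe, hu]
    exact mem_C1.mp (zpowers_le.mpr u.2.2 (gen _ (h5 _ u.2.1 hu') fun e => by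
      rw [e, orderOf_one] at hu'; norm_num at hu'))
  have tj : ∀ w : Ω, t • w = w ↔ j • w = w := fun w => by
    by_cases e : w = i
    · simp [e, ((h.memH t).mp ht).1, ((h.memH j).mp h.jH).1]
    obtain ⟨x, hx, rfl⟩ := h.tr w e
    rw [h.c_fix_o ht hx, h.c_fix_o h.jH hx, h.jZ x hx]
    refine ⟨fun e' => by_contra fun hh => ht1 (h.free t ht x hx hh ?_), tZ x⟩
    rw [e']; simp
  -- an involution `s ≠ j` centralising `t`
  obtain ⟨s, hs, hsj, hst⟩ : ∃ s : G, orderOf s = 2 ∧ s ≠ j ∧ t * s = s * t := by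
    by_contra hc
    push Not at hc
    have hle : zpowers t ≤ H := zpowers_le.mpr ht
    have := card_dvd_ncard_of_free (E := zpowers t) (A := {s : G | orderOf s = 2} \ {j})
      (fun e he s hs => ⟨by rw [Set.mem_setOf_eq, c_ord_cj]; exact hs.1, fun e' => hs.2 (by
        have e'' : e * s * e⁻¹ = j := e'
        change s = j
        calc s = e⁻¹ * (e * s * e⁻¹) * e := by group
          _ = e⁻¹ * (e * j) := by rw [e'', h.c_jc (hle he)]; group
          _ = j := by group)⟩)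
      (fun e he s hs e' => by_contra fun e1 => hc s hs.1 hs.2
        (mem_C1.mp (zpowers_le.mpr (mem_C1_iff_conj.mpr e') (gen e he e1))))
    have c := h.c_card_inv
    rw [Set.ncard_diff_singleton_of_mem (by exact h.j2), Nat.card_zpowers, h2] at this
    norm_num at c
    omega
  have hss : s * s = 1 := by rw [← pow_two, ← hs, pow_orderOf_eq_one]
  have ss : ∀ w : Ω, s • s • w = w := fun w => by rw [← mul_smul, hss, one_smul]
  have sfix : ∀ w : Ω, j • w = w → j • s • w = s • w := fun w hw => by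
    rw [← tj, ← mul_smul, hst, mul_smul, (tj w).mpr hw]
  have ji := ((h.memH j).mp h.jH).1
  have jo := ((h.memH j).mp h.jH).2
  have hsC : s ∈ C1 j := mem_C1.mpr (h.c_cj ((h.memH _).mpr (by
    rw [inv_eq_of_mul_eq_one_right hss]
    exact ⟨by rw [mul_smul, mul_smul, sfix i ji, ss], by rw [mul_smul, mul_smul, sfix o jo, ss]⟩)))
  have h10 := h.fixn j h.j2
  obtain ⟨φ, hφ⟩ := exists_sign (Ω := Ω) j (by rw [h10]; norm_num)
  obtain ⟨nf, hφs⟩ := hφ ⟨s, hsC⟩ (Subtype.ext hss) (fun a b ja jb sa sb => by_contra fun e => by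
    obtain ⟨g, g1, g2⟩ := h.c_two (a := b) (b := a) e
    exact hsj (((h.c_fix_iff g1 g2 hs).mp ⟨sb, sa⟩).trans
      ((h.c_fix_iff g1 g2 h.j2).mp ⟨jb, ja⟩).symm))
  rw [h10] at hφs
  have odd : ∀ (g : C1 j) (n : ℕ), Odd n → g.1 ^ n = 1 → φ g = 1 := fun g n hn e => by
    have e' : g ^ n = 1 := Subtype.ext e
    have := congrArg φ e'
    rwa [map_pow, map_one, Int.units_pow_eq_pow_mod_two, Nat.odd_iff.mp hn, pow_one] at this
  have HC : H ≤ C1 j := fun g hg => mem_C1.mpr (h.c_jc hg)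
  have ZC : Z ≤ C1 j := fun w hw => mem_C1.mpr ((h.jZ w (h.Z_le hw)).mpr hw).symm
  have φZ : ∀ w (hw : w ∈ Z), φ ⟨w, ZC hw⟩ = 1 := fun w hw => odd _ 9 (by decide) (by
    rw [← h.cardZ]; exact orderOf_dvd_iff_pow_eq_one.mp (Subgroup.orderOf_dvd_natCard _ hw))
  have φH : ∀ c (hc : c ∈ H), c ∈ C1 t → φ ⟨c, HC hc⟩ = 1 := fun c hc hct => by
    obtain ⟨m, n, e⟩ := h6 c hc
    have e' : (⟨c, HC hc⟩ : C1 j) = ⟨t, HC ht⟩ ^ m * ⟨a, HC ha⟩ ^ n := Subtype.ext e
    have hn : Even n := by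
      by_contra hn
      have h7 : a ^ n ∈ C1 t := by
        have := mul_mem (inv_mem (pow_mem (self_mem_C1 t) m)) hct
        rwa [e, inv_mul_cancel_left] at this
      refine h3 (mem_C1.mp (zpowers_le.mpr h7 (mem_zpowers_pow_iff.mpr ?_)))
      rw [h1, show (16 : ℕ) = 2 ^ 4 by norm_num]
      exact (Nat.coprime_two_right.mpr (Nat.not_even_iff_odd.mp hn)).pow_right 4
    rw [e', map_mul, map_pow, map_pow, odd ⟨t, HC ht⟩ 5 (by decide)
      (by rw [← h2]; exact pow_orderOf_eq_one t), one_pow, one_mul,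
      Int.units_pow_eq_pow_mod_two, Nat.even_iff.mp hn, pow_zero]
  have pi : s • i ≠ i := nf i ji
  have Zi : ∀ w ∈ Z, ∀ b : Ω, w • b = i → b = i := fun w hw b e => by
    rw [← inv_smul_smul w b, e, h.fix _ (inv_mem (h.Z_le hw))]
  have jC : ∀ g ∈ C1 j, ∀ b : Ω, j • b = b → j • g • b = g • b := fun g hg b e => by
    rw [← mul_smul, ← mem_C1.mp hg, mul_smul, e]
  obtain ⟨z2, hz2, e2⟩ := h.c_trZ (a := s • z • s • i) (b := s • i) (fun e => hz1
    (h.c_reg (h.Z_le hz) pi (by rw [← ss (z • s • i), e]))) pi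
    (sfix _ (jC _ (ZC hz) _ (sfix i ji))) (sfix i ji)
  have gi : (s * z2 * s * z * s) • i = i := by
    simp only [mul_smul]; rw [e2, ss]
  have gC : s * z2 * s * z * s ∈ C1 j :=
    mul_mem (mul_mem (mul_mem (mul_mem hsC (ZC hz2)) hsC) (ZC hz)) hsC
  obtain ⟨z3, hz3, e3⟩ := h.c_trZ (a := (s * z2 * s * z * s) • o) (b := o) (fun e => h.ne
    (smul_left_cancel _ (e.trans gi.symm))) h.ne (jC _ gC _ jo) jo
  have cH : z3 * (s * z2 * s * z * s) ∈ H := (h.memH _).mpr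
    ⟨by rw [mul_smul, gi, h.fix _ (h.Z_le hz3)], by rw [mul_smul, e3]⟩
  have ZT : Z ≤ C1 t := fun w hw => mem_C1.mpr (tZ w hw).symm
  have sT : s ∈ C1 t := mem_C1.mpr hst.symm
  have := φH _ cH (mul_mem (ZT hz3)
    (mul_mem (mul_mem (mul_mem (mul_mem sT (ZT hz2)) sT) (ZT hz)) sT))
  have e' : (⟨_, HC cH⟩ : C1 j) = ⟨z3, ZC hz3⟩ * (⟨s, hsC⟩ * ⟨z2, ZC hz2⟩ * ⟨s, hsC⟩ *
    ⟨z, ZC hz⟩ * ⟨s, hsC⟩) := rfl
  rw [e'] at this
  simp only [map_mul] at this
  rw [φZ _ hz3, φZ _ hz2, φZ _ hz, hφs] at this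
  revert this
  decide

theorem U3B.cyc (h : U3B G Ω q r i o Q Z H j) : IsCyclic H := by
  have := h.par
  simp only [List.mem_cons, Prod.mk.injEq, List.not_mem_nil, or_false] at this
  rcases this with ⟨rfl, -⟩ | ⟨rfl, -⟩
  · exact h.cyc7
  · exact h.cyc9

end CfsgU3
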