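import Cfsg.Agent.H3.U3Def
import Cfsg.Agent.H8.PGroupMaxClass

/-! Group-theoretic lemmas for the cyclicity of the two-point stabiliser (S3645, C7 and C9). -/

set_option autoImplicit false

namespace CfsgU3C

open CfsgH5 CfsgH6 CfsgFT Subgroup MulAction

universe u

theorem cyc16 {S : Type*} [Group S] [Finite S] (hc : Nat.card S = 16)
    (hno : ∀ z a : S, orderOf z = 2 → a ^ 2 = 1 → a ∈ zpowers z) :
    IsCyclic S ∨ ∃ x y : S, orderOf x = 8 ∧ orderOf y = 4 ∧ orderOf (x * y) = 4 ∧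
      x * y ≠ y * x := by
  haveI := Fact.mk Nat.prime_two
  have hp : IsPGroup 2 S := IsPGroup.of_card (n := 4) (by rw [hc]; norm_num)
  rcases CfsgH8.cyclic_or_quaternion_of_no_pp hp (fun z a h1 h2 _ => hno z a h1 h2) with
    h | ⟨-, n, hn, ⟨e⟩⟩
  · exact Or.inl h
  right
  have h4 : Nat.card S = 4 * 2 ^ n := by
    rw [Nat.card_congr e.toEquiv, Nat.card_eq_fintype_card, QuaternionGroup.card]
  have hn2 : n = 2 := by
    have : 2 ^ n = 2 ^ 2 := by omega
    exact Nat.pow_right_injective le_rfl this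
  subst hn2
  refine ⟨e.symm (QuaternionGroup.a 1), e.symm (QuaternionGroup.xa 0), ?_, ?_, ?_, ?_⟩
  · rw [MulEquiv.orderOf_eq, QuaternionGroup.orderOf_a_one]; norm_num
  · rw [MulEquiv.orderOf_eq, QuaternionGroup.orderOf_xa]
  · rw [← map_mul, MulEquiv.orderOf_eq, QuaternionGroup.a_mul_xa, QuaternionGroup.orderOf_xa]
  · rw [← map_mul, ← map_mul]
    intro h
    exact absurd (e.symm.injective h) (by decide)

variable {G : Type u} [Group G] [Finite G]

theorem str16 {H : Subgroup G} {p : ℕ} (hp : p.Prime) (hp2 : p ≠ 2) (hc : Nat.card H = 16 * p)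
    {j : G} (hj : ∀ t ∈ H, t * t = 1 → t = 1 ∨ t = j) :
    IsCyclic H ∨ (∃ x ∈ H, ∃ y ∈ H, orderOf x = 8 ∧ orderOf y = 4 ∧ orderOf (x * y) = 4 ∧
      x * y ≠ y * x) ∨ ∃ a ∈ H, ∃ t ∈ H, orderOf a = 16 ∧ orderOf t = p ∧ a * t ≠ t * a ∧
      (∀ g ∈ H, g * t * g⁻¹ ∈ zpowers t) ∧ (∀ g ∈ H, orderOf g = p → g ∈ zpowers t) ∧
      ∀ g ∈ H, ∃ m n : ℕ, g = t ^ m * a ^ n := by
  haveI := Fact.mk Nat.prime_two
  obtain ⟨S⟩ : Nonempty (Sylow 2 H) := inferInstance
  have ho : Odd p := hp.odd_of_ne_two hp2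
  have hS : Nat.card S = 16 := by
    rw [S.card_eq_multiplicity, hc, Nat.factorization_mul (by norm_num) hp.ne_zero]
    have h1 : (16 : ℕ).factorization 2 = 4 := by
      rw [show (16 : ℕ) = 2 ^ 4 by norm_num, Nat.prime_two.factorization_pow]; simp
    have h2 : p.factorization 2 = 0 :=
      Nat.factorization_eq_zero_of_not_dvd (by
        intro h; exact (Nat.not_even_iff_odd.mpr ho) (even_iff_two_dvd.mpr h))
    simp [h1, h2]
  have hno : ∀ z a : S, orderOf z = 2 → a ^ 2 = 1 → a ∈ zpowers z := fun z a h1 h2 => by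
    have hz : (z.1 : G) = j := by
      refine (hj _ z.1.2 ?_).resolve_left fun h => ?_
      · have := pow_orderOf_eq_one z
        rw [h1, pow_two] at this
        exact congrArg (fun w : S => (w.1 : G)) this
      · have : z = 1 := Subtype.ext (Subtype.ext h)
        rw [this, orderOf_one] at h1
        exact absurd h1 (by norm_num)
    rw [pow_two] at h2
    rcases hj _ a.1.2 (congrArg (fun w : S => (w.1 : G)) h2) with h | h
    · have : a = 1 := Subtype.ext (Subtype.ext h)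
      rw [this]; exact one_mem _
    · have : a = z := Subtype.ext (Subtype.ext (h.trans hz.symm))
      rw [this]; exact mem_zpowers _
  rcases cyc16 hS hno with h | ⟨x, y, h1, h2, h3, h4⟩
  rotate_left
  · refine Or.inr (Or.inl ⟨x.1, x.1.2, y.1, y.1.2, ?_, ?_, ?_, fun h => h4 ?_⟩)
    · rwa [orderOf_coe, orderOf_coe]
    · rwa [orderOf_coe, orderOf_coe]
    · rwa [← Subgroup.coe_mul, ← Subgroup.coe_mul, orderOf_coe, orderOf_coe]
    · exact Subtype.ext (Subtype.ext h)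
  have hm : (Nat.card H).minFac = 2 := by
    rw [hc, Nat.minFac_eq_two_iff]; exact Dvd.dvd.mul_right (by norm_num) _
  obtain ⟨T, hTn, hT⟩ : ∃ T : Subgroup H, T.Normal ∧ T.IsComplement' S :=
    ⟨_, MonoidHom.normal_ker _, IsCyclic.isComplement' hm h⟩
  have hTc : Nat.card T = p := by
    have := hT.card_mul
    rw [hS, hc] at this
    omega
  haveI := Fact.mk hp
  obtain ⟨a, ha⟩ := IsCyclic.exists_ofOrder_eq_natCard (α := S)
  obtain ⟨t, ht⟩ := exists_prime_orderOf_dvd_card' (G := T) p (hTc ▸ dvd_rfl)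
  have htT : zpowers t.1 = T := by
    refine Subgroup.eq_of_le_of_card_ge (zpowers_le.mpr t.2) ?_
    rw [Nat.card_zpowers, orderOf_coe, ht, hTc]
  have haS : zpowers a.1 = S := by
    refine Subgroup.eq_of_le_of_card_ge (zpowers_le.mpr a.2) ?_
    rw [Nat.card_zpowers, orderOf_coe, ha]
  have key : ∀ g : H, g ∈ T → (g : G) ∈ zpowers (t.1 : G) := fun g hg => by
    rw [← htT] at hg
    obtain ⟨k, rfl⟩ := hg
    exact ⟨k, by simp⟩
  by_cases hat : a.1 * t.1 = t.1 * a.1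
  · left
    have hcm : Commute a.1 t.1 := hat
    refine isCyclic_of_orderOf_eq_card (a.1 * t.1) ?_
    rw [hcm.orderOf_mul_eq_mul_orderOf_of_coprime, orderOf_coe, orderOf_coe, ha, ht, hS, hc]
    rw [orderOf_coe, orderOf_coe, ha, ht, hS, show (16 : ℕ) = 2 ^ 4 by norm_num]
    exact ((Nat.coprime_primes Nat.prime_two hp).mpr hp2.symm).pow_left _
  refine Or.inr (Or.inr ⟨a.1, a.1.2, t.1, t.1.2, ?_, ?_, fun h => hat (Subtype.ext h),
    fun g hg => ?_, fun g hg hgp => ?_, fun g hg => ?_⟩)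
  · rw [orderOf_coe, orderOf_coe, ha, hS]
  · rw [orderOf_coe, orderOf_coe, ht]
  · exact key (⟨g, hg⟩ * t.1 * ⟨g, hg⟩⁻¹) (Normal.conj_mem inferInstance _ t.2 _)
  · refine key ⟨g, hg⟩ ?_
    have h1 : orderOf (QuotientGroup.mk' T ⟨g, hg⟩) ∣ p := by
      rw [← hgp, ← orderOf_mk g hg]; exact orderOf_map_dvd _ _
    have h2 : orderOf (QuotientGroup.mk' T ⟨g, hg⟩) ∣ 2 ^ 4 := by
      rw [show (2 : ℕ) ^ 4 = 16 by norm_num, ← hS, ← hT.symm.index_eq_card]
      exact orderOf_dvd_natCard _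
    exact (QuotientGroup.eq_one_iff _).mp (orderOf_eq_one_iff.mp (Nat.eq_one_of_dvd_coprimes
      (((Nat.coprime_primes hp Nat.prime_two).mpr hp2).pow_right 4) h1 h2))
  · obtain ⟨⟨⟨u, hu⟩, ⟨v, hv⟩⟩, huv⟩ := hT.2 ⟨g, hg⟩
    have hu' : u ∈ zpowers t.1 := by rw [htT]; exact hu
    have hv' : v ∈ zpowers a.1 := by rw [haS]; exact hv
    obtain ⟨m, rfl⟩ := (mem_powers_iff_mem_zpowers.mpr hu' : u ∈ Submonoid.powers t.1)
    obtain ⟨n, rfl⟩ := (mem_powers_iff_mem_zpowers.mpr hv' : v ∈ Submonoid.powers a.1)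
    exact ⟨m, n, by simpa using (congrArg Subtype.val huv).symm⟩

/-- the sign of the action of the centraliser of `j` on its fixed points -/
theorem exists_sign {Ω : Type u} [MulAction G Ω] [Finite Ω] (j : G)
    (he : Even {w : Ω | j • w = w}.ncard) :
    ∃ φ : C1 j →* ℤˣ, ∀ s : C1 j, s * s = 1 →
      (∀ a b : Ω, j • a = a → j • b = b → s.1 • a = a → s.1 • b = b → a = b) →
      (∀ w : Ω, j • w = w → s.1 • w ≠ w) ∧ φ s = (-1) ^ ({w : Ω | j • w = w}.ncard / 2) := by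
  classical
  letI : MulAction (C1 j) {w : Ω | j • w = w} :=
    { smul := fun g w => ⟨g.1 • w.1, by
        have h1 : j • w.1 = w.1 := w.2
        change j • g.1 • w.1 = g.1 • w.1
        rw [← mul_smul, ← mem_C1.mp g.2, mul_smul, h1]⟩
      one_smul := fun w => Subtype.ext (one_smul G w.1)
      mul_smul := fun g g' w => Subtype.ext (mul_smul g.1 g'.1 w.1) }
  haveI := Fintype.ofFinite {w : Ω | j • w = w}
  have hcard : Fintype.card {w : Ω | j • w = w} = {w : Ω | j • w = w}.ncard := by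
    rw [← Nat.card_eq_fintype_card, Nat.card_coe_set_eq]
  refine ⟨Equiv.Perm.sign.comp (toPermHom (C1 j) {w : Ω | j • w = w}), fun s hs hu => ?_⟩
  have h2 : toPermHom (C1 j) {w : Ω | j • w = w} s ^ 2 = 1 := by
    rw [← map_pow, pow_two, hs, map_one]
  have hf : ∀ w : {w : Ω | j • w = w}, toPermHom (C1 j) {w : Ω | j • w = w} s w ≠ w := by
    intro w hw
    haveI := Fact.mk Nat.prime_two
    obtain ⟨b, hb, hbw⟩ := Equiv.Perm.exists_fixed_point_of_prime' (p := 2) (n := 1)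
      (by rw [hcard]; exact even_iff_two_dvd.mp he) (by simpa using h2) hw
    exact hbw (Subtype.ext (hu _ _ b.2 w.2 (congrArg Subtype.val hb) (congrArg Subtype.val hw)))
  refine ⟨fun w hw h => hf ⟨w, hw⟩ (Subtype.ext h), ?_⟩
  rw [MonoidHom.comp_apply, Equiv.Perm.sign_of_pow_two_eq_one h2, hcard]
  have : Fintype.card (Function.fixedPoints (toPermHom (C1 j) {w : Ω | j • w = w} s)) = 0 :=
    Fintype.card_eq_zero_iff.mpr ⟨fun w => hf w.1 w.2⟩
  rw [this, Nat.sub_zero]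

end CfsgU3C
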