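import Cfsg.Agent.H1.V3Ca

/-! S3424, piece (C): the two-point stabiliser is cyclic. -/

set_option autoImplicit false
set_option linter.unusedSectionVars false

namespace CfsgV3

open CfsgH5 CfsgH6 CfsgFT CfsgU3 CfsgU3C Subgroup MulAction

universe u

variable {G Ω : Type u} [Group G] [Finite G] [MulAction G Ω] {q r d m : ℕ} {i o : Ω}
  {Q Z H : Subgroup G} {j : G}

theorem c_dvd_of_period [Finite Ω] {g : G} (k : ℕ) (S : Set Ω) (hS : ∀ x ∈ S, g • x ∈ S)
    (h : ∀ x ∈ S, ∀ n : ℕ, g ^ n • x = x → k ∣ n) : k ∣ S.ncard := by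
  refine dvd_ncard_of_dvd_index_stabilizer (G := zpowers g) k S (fun u x hx => ?_) fun x hx =>
    h x hx _ ((stabilizer (zpowers g) x).pow_index_mem ⟨g, mem_zpowers g⟩)
  obtain ⟨u, hu⟩ := u
  obtain ⟨n, rfl⟩ := (mem_powers_iff_mem_zpowers.mpr hu : u ∈ Submonoid.powers g)
  change g ^ n • x ∈ S
  clear hu
  induction n with
  | zero => simpa using hx
  | succ n ih => rw [pow_succ', mul_smul]; exact hS _ ih

namespace UB

variable (h : UB G Ω q r d m i o Q Z H j)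
include h

theorem c_period {g : G} (hg : d * orderOf g = q ^ 2 - 1) (h1 : g • i = o) (h2 : g • o ≠ i)
    (h3 : j • g • o = g • o) (n : ℕ) (hn : g ^ n • i = i) : q - 1 ∣ n := by
  have cm : ∀ p : Ω, g ^ n • g • p = g • g ^ n • p := fun p => by
    rw [← mul_smul, ← mul_smul, ← pow_succ, pow_succ']
  have ho : g ^ n • o = o := by rw [← h1, cm, hn]
  obtain ⟨z, hz, e⟩ := h.c_trZ h.ne h2 ((h.memH j).mp h.jH).2 h3
  have z1 : z ≠ 1 := fun e1 => h.ne (smul_left_cancel g (by rw [← e, e1, one_smul, h1]))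
  have hH : g ^ n ∈ H := (h.memH _).mpr ⟨hn, ho⟩
  have d1 := h.c_H0 hH hz z1 ((h.c_fix_o hH (h.Z_le hz)).mp (by rw [e, cm, ho]))
  have d2 : orderOf g ∣ n * orderOf (g ^ n) :=
    orderOf_dvd_of_pow_eq_one (by rw [pow_mul, pow_orderOf_eq_one])
  have d3 : d * orderOf g ∣ n * (q + 1) :=
    (Nat.mul_dvd_mul_left d d2).trans (by rw [mul_left_comm]; exact Nat.mul_dvd_mul_left n d1)
  rw [hg, show q ^ 2 - 1 = (q + 1) * (q - 1) from Nat.sq_sub_sq q 1, mul_comm n] at d3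
  exact Nat.dvd_of_mul_dvd_mul_left (by omega) d3

theorem c_four_dvd {N : ℕ} (hN : d * N = q ^ 2 - 1) : 4 ∣ N := by
  obtain ⟨t, rfl⟩ := h.par.odd h.odd
  have e : (2 * t + 1) ^ 2 - 1 = 4 * (t * t + t) := Nat.sub_eq_of_eq_add (by ring)
  rcases h.par.d_cases with ⟨rfl, -⟩ | ⟨rfl, -⟩ <;> omega

theorem c_swap (q5 : 5 ≤ q) {g : G} (hg : d * orderOf g = q ^ 2 - 1) :
    IsCyclic H ∨ ∃ g : G, d * orderOf g = q ^ 2 - 1 ∧ g • i = o ∧ g • o = i := by
  haveI := h.c_fin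
  obtain ⟨n, hn⟩ := (show 2 ∣ 4 by norm_num).trans (h.c_four_dvd hg)
  have n0 : n ≠ 0 := fun e => (orderOf_pos g).ne' (by omega)
  have ht : orderOf (g ^ n) = 2 := by
    rw [orderOf_pow_of_dvd n0 (hn ▸ dvd_mul_left _ _), hn, Nat.mul_div_cancel _ (by omega)]
  have cm : ∀ p : Ω, g ^ n • g • p = g • g ^ n • p := fun p => by
    rw [← mul_smul, ← mul_smul, ← pow_succ, pow_succ']
  have oc : ∀ c : G, d * orderOf (c⁻¹ * g * c) = q ^ 2 - 1 := fun c => by
    rw [← hg, ← c_ord_cj c⁻¹ g, inv_inv]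
  by_cases hs : ∃ p : Ω, g • p ≠ p ∧ g • g • p = p
  · obtain ⟨p, h1, h2⟩ := hs
    obtain ⟨c, c1, c2⟩ := h.c_two h1
    exact Or.inr ⟨_, oc c, by rw [mul_smul, mul_smul, c1, ← c2, inv_smul_smul],
      by rw [mul_smul, mul_smul, c2, h2, ← c1, inv_smul_smul]⟩
  push Not at hs
  left
  have dv := c_dvd_of_period (g := g) (q - 1) ({p : Ω | g ^ n • p = p} \ {p | g • p = p})
    (fun p hp => ⟨show _ = _ by rw [cm, show g ^ n • p = p from hp.1],
      fun e => hp.2 (smul_left_cancel g e)⟩) fun p hp k hk => by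
    obtain ⟨c, c1, c2⟩ := h.c_two (a := p) (b := g • p) hp.2
    have e1 : g ^ n • p = p := hp.1
    have ej := (h.c_fix_iff c1 c2 ht).mp ⟨e1, by rw [cm, e1]⟩
    refine h.c_period (oc c) (by rw [mul_smul, mul_smul, c1, ← c2, inv_smul_smul]) ?_ ?_ k ?_
    · rw [mul_smul, mul_smul, c2, Ne, inv_smul_eq_iff, c1]
      exact hs p hp.2
    · rw [mul_smul, mul_smul, c2, eq_inv_smul_iff, ← mul_smul c⁻¹, ← mul_smul j, ← mul_smul c,
        ← mul_assoc, ← mul_assoc, ← ej, mul_smul, cm, cm, e1]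
    · rw [show (c⁻¹ * g * c) ^ k = c⁻¹ * g ^ k * c by simpa using conj_pow (a := c⁻¹) (b := g) (i := k),
        mul_smul, mul_smul, c1, hk, ← c1, inv_smul_smul]
  have e := Set.ncard_inter_add_ncard_diff_eq_ncard {p : Ω | g ^ n • p = p} {p | g • p = p}
  rw [h.fixn _ ht] at e
  have two : 1 < ({p : Ω | g ^ n • p = p} ∩ {p | g • p = p}).ncard := by
    by_contra hc
    obtain ⟨t, ht⟩ := dv
    obtain ⟨p, rfl⟩ : ∃ p, q = p + 1 := ⟨q - 1, by omega⟩
    rw [Nat.add_sub_cancel] at ht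
    rcases t with _ | _ | t
    · omega
    · omega
    · nlinarith
  obtain ⟨a, b, ha, hb, hab⟩ := (Set.one_lt_ncard_iff (Set.toFinite _)).mp two
  obtain ⟨c, c1, c2⟩ := h.c_two hab
  have hH : c⁻¹ * g * c ∈ H := (h.memH _).mpr
    ⟨by rw [mul_smul, mul_smul, c1, show g • b = b from hb.2, ← c1, inv_smul_smul],
     by rw [mul_smul, mul_smul, c2, show g • a = a from ha.2, ← c2, inv_smul_smul]⟩
  exact isCyclic_of_orderOf_eq_card (⟨_, hH⟩ : H) (Nat.eq_of_mul_eq_mul_left h.par.d_pos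
    (by rw [orderOf_mk, oc, h.cardH]))

theorem c_not_swap (q7 : 7 ≤ q) {g : G} (hg : d * orderOf g = q ^ 2 - 1) (gi : g • i = o)
    (go : g • o = i) : False := by
  obtain ⟨n, hn⟩ := h.c_four_dvd hg
  have n0 : n ≠ 0 := fun e => (orderOf_pos g).ne' (by omega)
  have c1 : Nat.card (zpowers (g ^ 2)) = 2 * n := by
    rw [Nat.card_zpowers, orderOf_pow_of_dvd two_ne_zero (hn ▸ Dvd.intro (2 * n) (by ring)), hn]
    omega
  have le1 : zpowers (g ^ 2) ≤ H := zpowers_le.mpr ((h.memH _).mpr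
    ⟨by rw [pow_two, mul_smul, gi, go], by rw [pow_two, mul_smul, go, gi]⟩)
  have le2 : zpowers (g ^ 2) ≤ zpowers g := zpowers_le.mpr (pow_mem (mem_zpowers g) 2)
  have cH : Nat.card H = 4 * n := Nat.eq_of_mul_eq_mul_left h.par.d_pos (by rw [h.cardH, ← hg, hn])
  have ix : ((zpowers (g ^ 2)).subgroupOf H).index = 2 := by
    have := ((zpowers (g ^ 2)).subgroupOf H).card_mul_index
    rw [Nat.card_congr (subgroupOfEquivOfLe le1).toEquiv, c1, cH] at this
    exact Nat.eq_of_mul_eq_mul_left (show 0 < 2 * n by omega) (by rw [this]; ring)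
  have gc : ∀ a ∈ zpowers (g ^ 2), g * a = a * g := fun a ha =>
    mem_C1.mp (C1_le_C1_of_mem_zpowers (le2 ha) (self_mem_C1 g))
  have ab : ∀ a ∈ zpowers (g ^ 2), ∀ b ∈ zpowers (g ^ 2), a * b = b * a := fun a ha b hb =>
    mem_C1.mp (C1_le_C1_of_mem_zpowers (le2 hb) (mem_C1.mpr (gc a ha).symm))
  have W1 : ∀ w : G, orderOf w = 2 → w • i = o →
      w * w = 1 ∧ w • o = i ∧ w * g ∈ H ∧ w * g ∉ zpowers (g ^ 2) := fun w w2 wi => by
    have ww : w * w = 1 := by rw [← pow_two, ← w2, pow_orderOf_eq_one]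
    have wo : w • o = i := by rw [← wi, ← mul_smul, ww, one_smul]
    refine ⟨ww, wo, (h.memH _).mpr ⟨by rw [mul_smul, gi, wo], by rw [mul_smul, go, wi]⟩,
      fun e => h.ne ?_⟩
    have : w ∈ zpowers (g ^ 2) := mem_of_isCyclic_of_pow (X := zpowers g) inferInstance le2
      (by simpa using mul_mem (le2 e) (inv_mem (mem_zpowers g)))
      (by rw [c1, pow_mul, pow_two, ww, one_pow])
    rw [← wi, ((h.memH w).mp (le1 this)).1]
  have cW := h.c_card_W
  obtain ⟨w, w2, wi⟩ : ({s : G | orderOf s = 2 ∧ s • i = o}).Nonempty :=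
    Set.nonempty_of_ncard_ne_zero (by omega)
  obtain ⟨ww, wo, kH, k1⟩ := W1 w w2 wi
  have wi' : w⁻¹ = w := inv_eq_of_mul_eq_one_right ww
  have kw : ∀ a ∈ zpowers (g ^ 2), w * g * a * (w * g)⁻¹ = w * a * w := fun a ha => by
    rw [mul_assoc w g, gc a ha, mul_inv_rev, wi']; group
  let I : Subgroup G :=
    { carrier := {a | a ∈ zpowers (g ^ 2) ∧ w * a * w = a⁻¹}
      mul_mem' := fun {a b} ha hb => ⟨mul_mem ha.1 hb.1, by
        rw [ab a ha.1 b hb.1, mul_inv_rev, ← ha.2, ← hb.2, ← ab a ha.1 b hb.1]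
        calc _ = w * a * (w * w) * b * w := by rw [ww]; group
          _ = _ := by group⟩
      one_mem' := ⟨one_mem _, by simpa using ww⟩
      inv_mem' := fun {a} ha => ⟨inv_mem ha.1, by
        rw [← ha.2, mul_inv_rev, mul_inv_rev, wi', ← mul_assoc, ← mul_assoc, ww, one_mul, mul_assoc,
          ww, mul_one, ← mul_assoc, ← ha.2]
        calc a = (w * w) * a * (w * w) := by rw [ww]; group
          _ = _ := by group⟩ }
  have cI : Nat.card I = q - 1 := by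
    rw [← cW, ← Set.ncard_image_of_injective _ (mul_left_injective w)]
    refine congrArg Set.ncard (Set.ext fun a => ⟨fun ha => ⟨a * w, ⟨?_, ?_⟩, ?_⟩, ?_⟩)
    · haveI := Fact.mk Nat.prime_two
      refine orderOf_eq_prime ?_ fun e => h.ne ?_
      · rw [pow_two, mul_assoc, ← mul_assoc w, ha.2, mul_inv_cancel]
      · rw [← ((h.memH a).mp (le1 ha.1)).2, ← wi, ← mul_smul, e, one_smul]
    · rw [mul_smul, wi, ((h.memH a).mp (le1 ha.1)).2]
    · simp only [mul_assoc, ww, mul_one]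
    · rintro ⟨s, ⟨s2, si⟩, rfl⟩
      obtain ⟨ss, -, sH, s1⟩ := W1 s s2 si
      refine ⟨?_, ?_⟩
      · have := (mul_mem_iff_of_index_two ix (a := ⟨_, sH⟩) (b := ⟨_, inv_mem kH⟩)).mpr
          (iff_of_false s1 fun e => k1 (inv_mem_iff.mp e))
        simpa [mem_subgroupOf, wi'] using this
      · simp only [mul_inv_rev, wi', inv_eq_of_mul_eq_one_right ss, mul_assoc, ww, mul_one]
  obtain ⟨E, _, _, x, M, η, hq, r1, inj, xm, x0, xs, xη⟩ := h.exists_x le1 inferInstance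
    (h.par.irr h.odd (c := 2) (.inr ⟨rfl, by omega⟩) (by rw [c1, ← hg, hn]; ring))
  obtain ⟨σ, hσ⟩ := exists_sig hq
  have cY : Nat.card ((I.comap η).map M.subtype) = q - 1 := by
    rw [card_map_of_injective M.subtype_injective, ← card_map_of_injective inj, map_comap_eq, r1,
      inf_eq_right.mpr fun a ha => ha.1, cI]
  obtain ⟨a, ha, xa⟩ := xs 1
  have kQ : ∀ b ∈ Q, w * g * b * (w * g)⁻¹ ∈ Q := fun b hb => h.c_Hn kH hb
  have mH : ∀ μ, η μ ∈ H := fun μ => le1 (r1 ▸ ⟨μ, rfl⟩)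
  have key : ∀ μ : M, η μ ∈ I → (μ.1 : E) * x (w * g * (η μ * a * (η μ)⁻¹) * (w * g)⁻¹) =
      x (w * g * a * (w * g)⁻¹) := fun μ hμ => by
    rw [← xη μ _ (kQ _ (h.c_Hn (mH μ) ha))]
    congr 1
    have e := (kw _ hμ.1).trans hμ.2
    calc _ = η μ * (w * g * η μ * (w * g)⁻¹) * (w * g * a * (w * g)⁻¹) *
          (η μ * (w * g * η μ * (w * g)⁻¹))⁻¹ := by group
      _ = _ := by rw [e]; group
  have wd : ∀ b ∈ Q, ∀ c ∈ Q, x b = x c →
      x (w * g * b * (w * g)⁻¹) = x (w * g * c * (w * g)⁻¹) := fun b hb c hc e => by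
    have m1 := mul_mem (inv_mem hb) hc
    have e1 := xm b hb _ m1
    rw [mul_inv_cancel_left, e, left_eq_add] at e1
    have e2 := (x0 _ (kQ _ m1)).mpr (h.Zn _ kH _ ((x0 _ m1).mp e1))
    have e3 := xm _ (kQ _ hb) _ (kQ _ m1)
    rw [e2, add_zero] at e3
    rw [← e3]
    congr 1
    group
  have c0 : x (w * g * a * (w * g)⁻¹) ≠ 0 := fun e => by
    have := h.Zn _ (inv_mem kH) _ ((x0 _ (kQ a ha)).mp e)
    rw [show (w * g)⁻¹ * (w * g * a * (w * g)⁻¹) * (w * g)⁻¹⁻¹ = a by group, ← x0 a ha, xa] at this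
    exact one_ne_zero this
  obtain ⟨l', lo⟩ := IsCyclic.exists_ofOrder_eq_natCard (α := (I.comap η).map M.subtype)
  obtain ⟨l, hl, el⟩ := l'.2
  rw [← orderOf_coe, cY, ← el, coe_subtype] at lo
  have lq : ∀ k, k ≤ 3 → k ≠ 0 → (l.1 : E) ^ k ≠ 1 := fun k k3 k0 e =>
    pow_ne_one_of_lt_orderOf k0 (show k < orderOf l.1 by omega) (Units.ext (by simpa using e))
  have l1 : 1 + (l.1 : E) ≠ 0 := fun e => lq 2 (by norm_num) (by norm_num)
    (by linear_combination ((l.1 : E) - 1) * e)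
  have sl : σ l.1 = l.1 := (mem_ker_fix hq hσ _).mp (by
    rw [MonoidHom.mem_ker, powMonoidHom_apply, ← lo, pow_orderOf_eq_one])
  obtain ⟨ν, hν, eν⟩ : Units.mk0 _ l1 ∈ (I.comap η).map M.subtype :=
    mem_of_isCyclic_of_pow (X := ⊤) inferInstance le_top (mem_top _) (by
      rw [cY]; exact (mem_ker_fix hq hσ _).mpr (by simp [sl]))
  have eν' : (ν.1 : E) = 1 + l.1 := congrArg Units.val eν
  have k1 := key l hl
  have k2 := key ν hν
  have k3 := wd _ (h.c_Hn (mH ν) ha) _ (mul_mem ha (h.c_Hn (mH l) ha)) (by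
    rw [xm a ha _ (h.c_Hn (mH l) ha), xη ν a ha, xη l a ha, xa, eν']; ring)
  rw [show w * g * (a * (η l * a * (η l)⁻¹)) * (w * g)⁻¹ = w * g * a * (w * g)⁻¹ *
    (w * g * (η l * a * (η l)⁻¹) * (w * g)⁻¹) by group, xm _ (kQ a ha) _
    (kQ _ (h.c_Hn (mH l) ha))] at k3
  rw [k3, eν'] at k2
  refine lq 3 le_rfl (by norm_num) (mul_right_cancel₀ c0 ?_)
  linear_combination ((l.1 : E) - 1) * ((l.1 : E) * k2 - (1 + (l.1 : E)) * k1)

theorem cyc (hg : ∃ g : G, d * orderOf g = q ^ 2 - 1) : IsCyclic H := by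
  have q3 := h.par.q3
  have := Nat.odd_iff.mp (h.par.odd h.odd)
  by_cases e3 : q = 3
  · subst e3; exact h.cyc3
  by_cases e5 : q = 5
  · subst e5; exact h.cyc5
  obtain ⟨g, hg⟩ := hg
  refine (h.c_swap (by omega) hg).resolve_right ?_
  rintro ⟨g, h1, h2, h3⟩
  exact h.c_not_swap (by omega) h1 h2 h3

end UB

end CfsgV3
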