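import Cfsg.Agent.H1.V3Cx
import Cfsg.Agent.H9.Q4C1

/-! S3424, piece (CO): coordinates on the Borel subgroup. -/

set_option autoImplicit false
set_option linter.unusedSectionVars false

namespace CfsgV3

open Subgroup CfsgH5 CfsgH6 CfsgFT CfsgU3

universe u

section field

variable {E : Type} [Field E] [Fintype E] {q r d m : ℕ} {σ : E →+* E}

theorem co_sub_small (S : Subring E) {ω : E} (hω : ω ∉ S) :
    Nat.card S * Nat.card S ≤ Fintype.card E := by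
  rw [← Nat.card_prod, ← Nat.card_eq_fintype_card]
  refine Nat.card_le_card_of_injective (fun p : S × S => (p.1 : E) + p.2 * ω) fun p p' e => ?_
  by_cases e2 : (p.2 : E) = p'.2
  · refine Prod.ext (Subtype.ext ?_) (Subtype.ext e2)
    simpa [e2] using e
  exfalso
  have n0 : (p.2 : E) - p'.2 ≠ 0 := sub_ne_zero.mpr e2
  have e3 : ((p.2 : E) - p'.2) ^ (Fintype.card E - 1) = 1 := FiniteField.pow_card_sub_one_eq_one _ n0
  have c2 : 1 < Fintype.card E := Fintype.one_lt_card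
  rw [show Fintype.card E - 1 = Fintype.card E - 2 + 1 by omega, pow_succ] at e3
  refine hω ?_
  have : ω = ((p.2 : E) - p'.2) ^ (Fintype.card E - 2) * (p'.1 - p.1) := by
    have e' : (p.1 : E) + p.2 * ω = p'.1 + p'.2 * ω := e
    linear_combination -ω * e3 + ((p.2 : E) - p'.2) ^ (Fintype.card E - 2) * e'
  rw [this]
  exact S.mul_mem (S.pow_mem (S.sub_mem p.2.2 p'.2.2) _) (S.sub_mem p'.1.2 p.1.2)

theorem co_eq_top (hP : Par q r d m) (hr : r ≠ 2) (hq : Fintype.card E = q ^ 2) (h5 : q ≠ 5)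
    (S : Subring E) (K : Subgroup Eˣ) (hK : d * Nat.card K = q + 1) (h1 : ∀ μ ∈ K, (μ : E) ∈ S)
    (u : E) : u ∈ S := by
  by_contra hu
  let L : Subgroup Eˣ := { S.toSubmonoid.comap (Units.coeHom E) with
    inv_mem' := fun {μ} hμ => by
      rw [← (mem_powers_iff_mem_zpowers.2 (inv_mem (mem_zpowers μ))).choose_spec]
      exact (S.toSubmonoid.comap (Units.coeHom E)).pow_mem hμ _ }
  have e : (S : Set E) = insert 0 (Units.val '' L) := by
    ext v
    refine ⟨fun hv => ?_, ?_⟩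
    · by_cases h : v = 0
      exacts [.inl h, .inr ⟨Units.mk0 v h, hv, rfl⟩]
    · rintro (rfl | ⟨μ, hμ, rfl⟩)
      exacts [S.zero_mem, hμ]
  have c1 : Nat.card S = Nat.card L + 1 := by
    rw [show Nat.card S = (S : Set E).ncard from rfl, e, Set.ncard_insert_of_notMem
      (by rintro ⟨μ, -, h⟩; exact μ.ne_zero h), Set.ncard_image_of_injective _ Units.val_injective]
    rfl
  have c2 : Nat.card S ∣ Nat.card E := AddSubgroup.card_addSubgroup_dvd_card S.toAddSubgroup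
  obtain ⟨t, c4⟩ := card_dvd_of_le (show K ≤ L from h1)
  have c3 := co_sub_small S hu
  have c5 : 0 < Nat.card L := Nat.card_pos
  rw [hq, sq] at c3
  have c6 : Nat.card S ≤ q := Nat.mul_self_le_mul_self_iff.mp c3
  obtain ⟨k, hk⟩ := hP.pw
  rw [Nat.card_eq_fintype_card (α := E), hq, hk, ← pow_mul] at c2
  obtain ⟨s, -, hs⟩ := (Nat.dvd_prime_pow hP.pr).mp c2
  have r2 := hP.pr.two_le
  have q3 := hP.q3
  have c7 : Nat.card S = q ∨ r * Nat.card S ≤ q := by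
    rw [hs, hk] at c6 ⊢
    rcases ((Nat.pow_le_pow_iff_right hP.pr.one_lt).mp c6).eq_or_lt with e | e
    · exact .inl (by rw [e])
    · exact .inr (by rw [← pow_succ']; exact Nat.pow_le_pow_right (by omega) e)
  have c8 : 3 * Nat.card S ≤ r * Nat.card S := Nat.mul_le_mul_right _ (by omega)
  generalize Nat.card K = a, Nat.card L = b, Nat.card S = c at *
  subst c4
  rcases t with _ | _ | _ | t
  · omega
  · rcases hP.d_cases with ⟨rfl, -⟩ | ⟨rfl, -⟩ <;> omega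
  · rcases hP.d_cases with ⟨rfl, -⟩ | ⟨rfl, -⟩ <;> omega
  · have : a * 3 ≤ a * (t + 1 + 1 + 1) := Nat.mul_le_mul_left _ (by omega)
    rcases hP.d_cases with ⟨rfl, -⟩ | ⟨rfl, -⟩ <;> omega

theorem co_alt5 (hq : Fintype.card E = 5 ^ 2) (hσ : ∀ u, σ u = u ^ 5) {A : Type*} [AddCommGroup A]
    (B : E →+ E →+ A) (h0 : ∀ u, B u u = 0) (l u v : E) : B (l * u) v = B u (σ l * v) := by
  have h5 : (5 : E) = 0 := by
    have := FiniteField.cast_card_eq_zero E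
    rw [hq, Nat.cast_pow] at this
    simpa using this
  have fx : ∀ c : E, σ c = c → ∃ n : ℤ, c = n := fun c hc => by
    have : c * (c - 1) * (c - 2) * (c - 3) * (c - 4) = 0 := by
      rw [hσ] at hc
      linear_combination hc + (-2 * c ^ 4 + 7 * c ^ 3 - 10 * c ^ 2 + 5 * c) * h5
    simp only [mul_eq_zero, sub_eq_zero] at this
    rcases this with (((e | e) | e) | e) | e
    exacts [⟨0, by simpa using e⟩, ⟨1, by simpa using e⟩, ⟨2, by simpa using e⟩,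
      ⟨3, by simpa using e⟩, ⟨4, by simpa using e⟩]
  obtain ⟨ω, ω0, hω⟩ := exists_tr0 hq hσ
  have ss := sig_sig hq hσ
  have s3 : σ 3 = 3 := map_ofNat σ 3
  have sp : ∀ u : E, ∃ a b : ℤ, u = a + b * ω := fun u => by
    obtain ⟨a, ha⟩ := fx (3 * (u + σ u)) (by rw [map_mul, map_add, ss, s3, add_comm])
    obtain ⟨b, hb⟩ := fx (3 * (u - σ u) / ω) (by
      rw [map_div₀, map_mul, map_sub, ss, s3, hω, div_neg, ← neg_div]; ring)
    refine ⟨a, b, ?_⟩
    rw [← ha, ← hb, div_mul_cancel₀ _ ω0]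
    linear_combination -u * h5
  obtain ⟨n, hn⟩ := fx (ω * ω) (by rw [map_mul, hω, neg_mul_neg])
  have sk : B ω 1 = -B 1 ω := by
    have := h0 (1 + ω)
    simp only [map_add, AddMonoidHom.add_apply, h0, zero_add, add_zero] at this
    exact eq_neg_of_add_eq_zero_left this
  have P : ∀ a b c e : ℤ, B (a + b * ω) (c + e * ω) = (a * e - b * c) • B 1 ω := fun a b c e => by
    rw [show (a : E) + b * ω = a • (1 : E) + b • ω by simp,
      show (c : E) + e * ω = c • (1 : E) + e • ω by simp]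
    simp only [map_add, map_zsmul, AddMonoidHom.add_apply, AddMonoidHom.smul_apply, h0, sk]
    module
  obtain ⟨l0, l1, rfl⟩ := sp l
  obtain ⟨u0, u1, rfl⟩ := sp u
  obtain ⟨v0, v1, rfl⟩ := sp v
  rw [show ((l0 : E) + l1 * ω) * (u0 + u1 * ω) = ((l0 * u0 + n * l1 * u1 : ℤ) : E) +
      ((l0 * u1 + l1 * u0 : ℤ) : E) * ω by push_cast; linear_combination l1 * u1 * hn,
    show σ ((l0 : E) + l1 * ω) * (v0 + v1 * ω) = ((l0 * v0 - n * l1 * v1 : ℤ) : E) +
      ((l0 * v1 - l1 * v0 : ℤ) : E) * ω by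
        rw [map_add, map_mul, map_intCast, map_intCast, hω]
        push_cast; linear_combination -l1 * v1 * hn, P, P]
  congr 1
  ring

theorem co_nrm (hP : Par q r d m) (hq : Fintype.card E = q ^ 2) (hσ : ∀ u, σ u = u ^ q)
    {M : Subgroup Eˣ} (hM : d * Nat.card M = q ^ 2 - 1) {b : E} (h0 : b ≠ 0) (hb : σ b = b) :
    ∃ μ : M, (μ.1 : E) * σ μ.1 = b := by
  have q3 := hP.q3
  obtain ⟨c, hc, e⟩ : ∃ c : E, σ c = c ∧ c ^ d = b := by
    rcases hP.d_cases with ⟨rfl, -⟩ | ⟨rfl, f⟩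
    · exact ⟨b, hb, pow_one b⟩
    · obtain ⟨t, rfl⟩ : ∃ t, q = 3 * t + 1 + 1 := ⟨q / 3, by omega⟩
      have e1 : b ^ (3 * t + 1) = 1 := mul_right_cancel₀ h0 (by rw [← pow_succ, ← hσ, hb, one_mul])
      exact ⟨b ^ (2 * t + 1), by rw [map_pow, hb], by
        rw [← pow_mul, show (2 * t + 1) * 3 = (3 * t + 1) * 2 + 1 by ring, pow_succ, pow_mul, e1,
          one_pow, one_mul]⟩
  obtain ⟨u, rfl⟩ := exists_norm hq hσ hc
  have u0 : u ≠ 0 := by
    rintro rfl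
    exact h0 (by rw [← e, zero_mul, zero_pow hP.d_pos.ne'])
  refine ⟨⟨Units.mk0 u u0 ^ d, mem_of_isCyclic_of_pow (X := ⊤) inferInstance le_top (mem_top _) ?_⟩, ?_⟩
  · rw [← pow_mul, hM, show q ^ 2 - 1 = (q + 1) * (q - 1) from Nat.sq_sub_sq q 1, mul_comm,
      ← card_unitsE hq, pow_card_eq_one']
  · simp only [Units.val_pow_eq_pow_val, Units.val_mk0, map_pow, ← mul_pow, e]

end field

variable {G Ω : Type u} [Group G] [Finite G] [MulAction G Ω] {q r d m : ℕ} {i o : Ω}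
  {Q Z H : Subgroup G} {j : G}

theorem UB.exists_beta (h : UB G Ω q r d m i o Q Z H j) {E : Type} [Field E] [Fintype E] {σ : E →+* E}
    {x : G → E} {M : Subgroup Eˣ} {η : M →* G} (hq : Fintype.card E = q ^ 2) (hσ : ∀ u, σ u = u ^ q)
    (h1 : η.range = H) (h2 : Function.Injective η) (h3 : ∀ a ∈ Q, ∀ b ∈ Q, x (a * b) = x a + x b)
    (h4 : ∀ a ∈ Q, x a = 0 ↔ a ∈ Z) (h5 : ∀ u, ∃ a ∈ Q, x a = u)
    (h6 : ∀ μ : M, ∀ a ∈ Q, x (η μ * a * (η μ)⁻¹) = (μ.1 : E) * x a) :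
    ∃ β : E → G, (∀ u, β u ∈ Z) ∧ (∀ u v, β (u + v) = β u * β v) ∧ (∀ u, β u = 1 ↔ σ u = u) ∧
      (∀ z ∈ Z, ∃ u, β u = z) ∧
      (∀ a ∈ Q, ∀ b ∈ Q, a * b * a⁻¹ * b⁻¹ = β (σ (x a) * x b)) ∧
      ∀ (μ : M) u, η μ * β u * (η μ)⁻¹ = β ((μ.1 : E) * σ μ.1 * u) := by
  have q3 := h.par.q3
  have hM : d * Nat.card M = q ^ 2 - 1 := by
    rw [← h.cardH, ← h1, Nat.card_congr (MonoidHom.ofInjective h2).toEquiv]
  have ss : ∀ u, σ (σ u) = u := fun u => by rw [hσ, hσ, ← pow_mul, ← sq, ← hq, FiniteField.pow_card]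
  have mH : ∀ μ, η μ ∈ H := fun μ => h1 ▸ ⟨μ, rfl⟩
  have mQ : ∀ μ, ∀ a ∈ Q, η μ * a * (η μ)⁻¹ ∈ Q := fun μ => h.nrm _ ((h.memH _).1 (mH μ)).1
  choose s s1 s2 using h5
  obtain ⟨C, hC⟩ : ∃ C : E → E → G, ∀ a ∈ Q, ∀ b ∈ Q, a * b * a⁻¹ * b⁻¹ = C (x a) (x b) := by
    have k : ∀ a ∈ Q, ∃ z ∈ Z, a = s (x a) * z := fun a ha => ⟨(s (x a))⁻¹ * a,
      (h4 _ (mul_mem (inv_mem (s1 _)) ha)).1 (by
        have := h3 _ (s1 (x a)) _ (mul_mem (inv_mem (s1 (x a))) ha)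
        rwa [mul_inv_cancel_left, s2, left_eq_add] at this), by group⟩
    refine ⟨fun u v => s u * s v * (s u)⁻¹ * (s v)⁻¹, fun a ha b hb => ?_⟩
    obtain ⟨z, hz, e1⟩ := k a ha
    obtain ⟨w, hw, e2⟩ := k b hb
    generalize x a = u, x b = v at *
    rw [e1, e2, show s u * z * (s v * w) * (s u * z)⁻¹ * (s v * w)⁻¹ =
      s u * (z * (s v * w) * z⁻¹ * (s u)⁻¹ * w⁻¹) * (s v)⁻¹ by group,
      ← h.Zc z hz _ (mul_mem (s1 v) (h.Z_le hw)), mul_inv_cancel_right, mul_assoc (s v),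
      ← h.Zc w hw _ (inv_mem (s1 u))]
    group
  have hs : ∀ u v, C u v = s u * s v * (s u)⁻¹ * (s v)⁻¹ := fun u v => by rw [hC _ (s1 u) _ (s1 v), s2, s2]
  have mZ : ∀ u v, C u v ∈ Z := fun u v => hs u v ▸ h.comm _ (s1 u) _ (s1 v)
  have a1 : ∀ u u' v, C (u + u') v = C u v * C u' v := fun u u' v => by
    rw [← s2 u, ← s2 u', ← h3 _ (s1 u) _ (s1 u'), s2, s2, ← s2 v, ← hC _ (mul_mem (s1 u) (s1 u')) _ (s1 v),
      s2, h.Zc _ (mZ u' v) _ (h.Z_le (mZ u v)), show s u * s u' * s v * (s u * s u')⁻¹ * (s v)⁻¹ =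
        s u * (s u' * s v * (s u')⁻¹ * (s v)⁻¹) * (s v * (s u)⁻¹ * (s v)⁻¹) by group, ← hs,
      h.Zc _ (mZ u' v) _ (s1 u), hs u]
    group
  have a2 : ∀ u v v', C u (v + v') = C u v * C u v' := fun u v v' => by
    rw [← s2 v, ← s2 v', ← h3 _ (s1 v) _ (s1 v'), s2, s2, ← s2 u, ← hC _ (s1 u) _ (mul_mem (s1 v) (s1 v')),
      s2, show s u * (s v * s v') * (s u)⁻¹ * (s v * s v')⁻¹ = s u * s v * (s u)⁻¹ *
        (s u * s v' * (s u)⁻¹ * (s v')⁻¹) * (s v)⁻¹ by group, ← hs, mul_assoc _ (C u v'),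
      ← h.Zc _ (mZ u v') _ (inv_mem (s1 v)), hs u v]
    group
  have a3 : ∀ (μ : M) u v, η μ * C u v * (η μ)⁻¹ = C ((μ.1 : E) * u) ((μ.1 : E) * v) := fun μ u v => by
    rw [← s2 u, ← s2 v, ← h6 _ _ (s1 u), ← h6 _ _ (s1 v), ← hC _ (mQ _ _ (s1 u)) _ (mQ _ _ (s1 v)), s2, s2, hs]
    group
  have z1 : ∀ v, C 0 v = 1 := fun v => by simpa using a1 0 0 v
  have z2 : ∀ u, C u 0 = 1 := fun u => by simpa using a2 u 0 0
  have n1 : ∀ u v, C (-u) v = C u (-v) := fun u v => mul_left_cancel (a := C u v) (by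
    rw [← a1, ← a2, add_neg_cancel, add_neg_cancel, z1, z2])
  let S : Subring E :=
    { carrier := {l | ∀ u v, C (l * u) v = C u (σ l * v)}
      mul_mem' := fun {a b} ha hb u v => by rw [mul_assoc, ha, hb, map_mul, mul_left_comm, mul_assoc]
      one_mem' := fun u v => by simp
      add_mem' := fun {a b} ha hb u v => by rw [add_mul, a1, ha, hb, map_add, add_mul, a2]
      zero_mem' := fun u v => by simp [z1, z2]
      neg_mem' := fun {a} ha u v => by rw [neg_mul, n1, ha, map_neg, mul_neg, neg_mul] }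
  obtain ⟨a, ha, b, hb, hab⟩ := h.nab
  have c0 : C (x a) (x b) ≠ 1 := fun e => hab (by
    rwa [← hC a ha b hb, mul_inv_eq_one, mul_inv_eq_iff_eq_mul] at e)
  have cM : ∀ z ∈ Z, z ≠ 1 → d * Nat.card ((C1 z).comap η) = q + 1 := fun z hz z1 => by
    rw [← h.H0 z hz z1, ← card_map_of_injective (K := (C1 z).comap η) h2, map_comap_eq, h1]
  have hS : ∀ l, l ∈ S := by
    by_cases e5 : q = 5
    · subst e5
      letI : CommGroup Z := { (inferInstance : Group Z) with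
        mul_comm := fun a b => Subtype.ext (h.Zc b b.2 a (h.Z_le a.2)) }
      let B : E →+ E →+ Additive Z := AddMonoidHom.mk' (fun u => AddMonoidHom.mk'
        (fun v => Additive.ofMul (⟨C u v, mZ u v⟩ : Z)) fun v v' =>
          congrArg Additive.ofMul (Subtype.ext (a2 u v v'))) fun u u' => AddMonoidHom.ext fun v =>
          congrArg Additive.ofMul (Subtype.ext (a1 u u' v))
      intro l u v
      exact congrArg (fun z : Additive Z => (Additive.toMul z).1) (co_alt5 hq hσ B (fun u =>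
        congrArg Additive.ofMul (Subtype.ext (show C u u = 1 by rw [hs]; group))) l u v)
    refine co_eq_top h.par h.odd hq e5 S (((C1 _).comap η).map M.subtype) (by
      rw [card_map_of_injective M.subtype_injective]; exact cM _ (mZ _ _) c0) ?_
    rintro _ ⟨μ, hμ, rfl⟩ u v
    have e0 : μ ^ Nat.card ((C1 (C (x a) (x b))).comap η) = 1 :=
      orderOf_dvd_iff_pow_eq_one.1 (Subgroup.orderOf_dvd_natCard _ hμ)
    have e : μ ^ (q + 1) = 1 := by rw [← cM _ (mZ _ _) c0, mul_comm, pow_mul, e0, one_pow]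
    have e' : (μ.1 : E) * σ μ.1 = 1 := by
      rw [hσ, ← pow_succ', ← Units.val_pow_eq_pow_val, ← Subgroup.coe_pow, e]; rfl
    have k : η μ * C u (σ μ.1 * v) * (η μ)⁻¹ = C u (σ μ.1 * v) := by
      by_cases e1 : C u (σ μ.1 * v) = 1
      · simp [e1]
      · exact mem_C1_iff_conj.1 (mem_of_isCyclic_of_pow (X := ⊤) (Y := (C1 _).comap η) inferInstance le_top
          (mem_top μ) (by
            rw [Nat.eq_of_mul_eq_mul_left h.par.d_pos ((cM _ (mZ _ _) e1).trans (cM _ (mZ _ _) c0).symm), e0]))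
    change C (μ.1 * u) v = C u (σ μ.1 * v)
    rw [← k, a3, ← mul_assoc, e', one_mul]
  have b1 : ∀ u v, C u v = C 1 (σ u * v) := fun u v => by rw [← hS u 1 v, mul_one]
  have b2 : ∀ (μ : M) u, η μ * C 1 u * (η μ)⁻¹ = C 1 ((μ.1 : E) * σ μ.1 * u) := fun μ u => by
    rw [a3, b1, mul_one, mul_left_comm, mul_assoc]
  have b3 : ∀ u, C 1 u = 1 → ∀ b, σ b = b → C 1 (b * u) = 1 := fun u hu b hb => by
    by_cases b0 : b = 0
    · rw [b0, zero_mul, z2]
    · obtain ⟨μ, rfl⟩ := co_nrm h.par hq hσ hM b0 hb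
      rw [← b2, hu, mul_one, mul_inv_cancel]
  have b4 : ∀ b, σ b = b → C 1 b = 1 := fun b hb => mul_one b ▸ b3 1 (by rw [hs]; group) b hb
  refine ⟨C 1, mZ 1, a2 1, fun u => ⟨fun hu => by_contra fun hn => c0 ?_, b4 u⟩, fun z hz => ?_,
    fun a ha b hb => by rw [hC a ha b hb, b1], b2⟩
  · have n0 : u - σ u ≠ 0 := sub_ne_zero.2 (Ne.symm hn)
    have n1 : σ u - u ≠ 0 := sub_ne_zero.2 hn
    rw [b1]
    generalize σ (x a) * x b = v
    have e : σ ((v - σ v) / (u - σ u)) = (v - σ v) / (u - σ u) := by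
      rw [map_div₀, map_sub, map_sub, ss, ss, div_eq_div_iff n1 n0]; ring
    rw [← sub_add_cancel v ((v - σ v) / (u - σ u) * u), a2, b3 u hu _ e,
      b4 _ (by rw [map_sub, map_mul, e]; field_simp; ring), one_mul]
  · by_cases e1 : z = 1
    · exact ⟨0, e1 ▸ z2 1⟩
    have ho := CfsgH9.Q4C.cls H (C (x a) (x b))
    replace ho := congrArg (d * ·) ho
    rw [inf_comm, ← mul_assoc, h.H0 _ (mZ _ _) c0, h.cardH,
      show q ^ 2 - 1 = (q + 1) * (q - 1) from Nat.sq_sub_sq q 1] at ho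
    replace ho := Nat.eq_of_mul_eq_mul_left (by omega) ho
    obtain ⟨g, hg, rfl⟩ := (Set.eq_of_subset_of_ncard_le (t := (Z : Set G) \ {1})
      (s := {y | ∃ g ∈ H, g * C (x a) (x b) * g⁻¹ = y})
      (fun y ⟨g, hg, e⟩ => ⟨e ▸ h.Zn g hg _ (mZ _ _), fun e1 => c0 (by simpa using e.trans e1)⟩) (by
        rw [Set.ncard_sdiff_singleton_of_mem Z.one_mem, show (Z : Set G).ncard = q from h.cardZ]
        omega)).ge ⟨hz, e1⟩
    obtain ⟨μ, rfl⟩ := h1.ge hg
    exact ⟨_, by rw [b1 (x a), b2]⟩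

theorem UB.coord (h : UB G Ω q r d m i o Q Z H j) (hc : IsCyclic H) :
    ∃ (E : Type) (_ : Field E) (_ : Fintype E) (σ : E →+* E) (M : Subgroup Eˣ) (x y : G → E)
      (η : M →* G), Fintype.card E = q ^ 2 ∧ (∀ u, σ u = u ^ q) ∧ d * Nat.card M = q ^ 2 - 1 ∧
      UD G Ω σ M i o Q x y η := by
  obtain ⟨E, _, _, x, M, η, hq, h1, h2, h3, h4, h5, h6⟩ := h.exists_x le_rfl hc
    (h.par.irr h.odd (c := 1) (.inl rfl) (by rw [one_mul, h.cardH]))
  obtain ⟨σ, hσ⟩ := exists_sig hq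
  have t0 : (2 : E) ≠ 0 := fun e => by
    obtain ⟨t, ht⟩ := (h.par.odd h.odd).pow (n := 2)
    have := FiniteField.cast_card_eq_zero E
    rw [hq, ht] at this
    push_cast at this
    rw [e, zero_mul, zero_add] at this
    exact one_ne_zero this
  have hM : d * Nat.card M = q ^ 2 - 1 := by
    rw [← h.cardH, ← h1, Nat.card_congr (MonoidHom.ofInjective h2).toEquiv]
  have ss : ∀ u, σ (σ u) = u := fun u => by rw [hσ, hσ, ← pow_mul, ← sq, ← hq, FiniteField.pow_card]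
  obtain ⟨β, bZ, b1, b2, b3, b4, b5⟩ := h.exists_beta hq hσ h1 h2 h3 h4 h5 h6
  obtain ⟨ζ, hζ⟩ : ∃ ζ : G → E, ∀ u, ζ (β u) = u - σ u := by
    choose! γ hγ using b3
    refine ⟨fun z => γ z - σ (γ z), fun u => ?_⟩
    have := (b2 (γ (β u) - u)).1 (mul_right_cancel (b := β u) (by
      rw [← b1, sub_add_cancel, hγ _ (bZ u), one_mul]))
    rw [map_sub] at this
    linear_combination -this
  choose! w hw using fun a ha => b3 _ (h.jinv a ha)
  have s2 : σ 2 = 2 := map_ofNat σ 2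
  obtain ⟨y, hy⟩ : ∃ y : G → E, ∀ a, y a = (x a * σ (x a) + ζ (a * (j * a * j⁻¹))) / 2 := ⟨_, fun _ => rfl⟩
  have ym : ∀ a ∈ Q, ∀ b ∈ Q, y (a * b) = y a + y b + σ (x a) * x b := fun a ha b hb => by
    rw [hy, hy, hy, show a * b * (j * (a * b) * j⁻¹) =
      a * b * a⁻¹ * (a * (j * a * j⁻¹) * b⁻¹) * (b * (j * b * j⁻¹)) by group,
      ← h.Zc _ (h.jinv a ha) _ (inv_mem hb), ← mul_assoc _ b⁻¹, b4 a ha b hb, ← hw a ha, ← hw b hb, ← b1, ← b1,
      hζ, hζ, hζ, h3 a ha b hb]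
    simp only [map_add, map_mul, ss]
    field_simp
    ring
  have xZ : ∀ u, x (β u) = 0 := fun u => (h4 _ (h.Z_le (bZ u))).2 (bZ u)
  have yZ : ∀ u, y (β u) = u - σ u := fun u => by
    rw [hy, xZ, (h.jZ _ (h.Z_le (bZ u))).2 (bZ u), mul_inv_cancel_right, ← b1, hζ, map_add]
    field_simp
    ring
  have yh : ∀ a ∈ Q, y a + σ (y a) = x a * σ (x a) := fun a ha => by
    rw [hy, ← hw a ha, hζ]
    simp only [map_add, map_mul, map_div₀, map_sub, ss, s2]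
    field_simp
    ring
  refine ⟨E, _, _, σ, M, x, y, η, hq, hσ, hM, ⟨h.ne, h.fix, h.tr, h.reg, h.trans, h.nrm, h3, ym, yh,
    fun a ha b hb e1 e2 => ?_, fun u v e => ?_⟩, h1 ▸ h.memH, h.inv, h6, fun μ a ha => ?_⟩
  · have m := mul_mem (inv_mem hb) ha
    have k1 := h3 b hb _ m
    have k2 := ym b hb _ m
    rw [mul_inv_cancel_left, e1, left_eq_add] at k1
    obtain ⟨u, hu⟩ := b3 _ ((h4 _ m).1 k1)
    rw [mul_inv_cancel_left, e2, k1, mul_zero, add_zero, left_eq_add, ← hu, yZ, sub_eq_zero] at k2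
    exact (inv_mul_eq_one.1 (hu.symm.trans ((b2 u).2 k2.symm))).symm
  · obtain ⟨a, ha, rfl⟩ := h5 u
    have m := h.Z_le (bZ ((v - y a) / 2))
    refine ⟨_, mul_mem ha m, by rw [h3 a ha _ m, xZ, add_zero], ?_⟩
    rw [ym a ha _ m, xZ, yZ, map_div₀, map_sub, s2]
    field_simp
    linear_combination yh a ha - e
  · obtain ⟨ν, rfl⟩ := h1.ge h.jH
    rw [hy, hy, h6 μ a ha, show η μ * a * (η μ)⁻¹ * (η ν * (η μ * a * (η μ)⁻¹) * (η ν)⁻¹) =
      η μ * a * (η μ)⁻¹ * (η ν * η μ) * a * (η ν * η μ)⁻¹ by group, ← map_mul η, mul_comm ν, map_mul η,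
      show η μ * a * (η μ)⁻¹ * (η μ * η ν) * a * (η μ * η ν)⁻¹ =
        η μ * (a * (η ν * a * (η ν)⁻¹)) * (η μ)⁻¹ by group, ← hw a ha, b5, hζ, hζ]
    simp only [map_mul, ss]
    ring

end CfsgV3
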