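import Cfsg.Agent.H1.V3Cx
import Cfsg.Agent.H1.U3C
import Cfsg.Agent.H6.Derang

/-! S3424, piece (C): basic facts, the involutions swapping two points, small cases. -/

set_option autoImplicit false
set_option linter.unusedSectionVars false

namespace CfsgV3

open CfsgH5 CfsgH6 CfsgFT CfsgU3 CfsgU3C Subgroup MulAction

universe u

variable {G Ω : Type u} [Group G] [Finite G] [MulAction G Ω] {q r d m : ℕ} {i o : Ω}
  {Q Z H : Subgroup G} {j : G}

namespace UB

variable (h : UB G Ω q r d m i o Q Z H j)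
include h

theorem c_jj : j * j = 1 := by rw [← pow_two, ← h.j2, pow_orderOf_eq_one]

theorem c_inv {t : G} (ht : t ∈ H) (h2 : orderOf t = 2) : t = j := by
  refine (h.juniq t ht (by rw [← pow_two, ← h2, pow_orderOf_eq_one])).resolve_left fun e => ?_
  rw [e, orderOf_one] at h2
  exact absurd h2 (by norm_num)

theorem c_cj {g : G} (hg : g * j * g⁻¹ ∈ H) : g * j = j * g := by
  have := h.c_inv hg (by rw [c_ord_cj, h.j2])
  rwa [mul_inv_eq_iff_eq_mul] at this

theorem c_jc {g : G} (hg : g ∈ H) : g * j = j * g :=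
  h.c_cj (mul_mem (mul_mem hg h.jH) (inv_mem hg))

theorem c_sq {k : G} (hk : k ∈ H) (h4 : orderOf k = 4) : k * k = j :=
  h.c_inv (mul_mem hk hk) (by rw [← pow_two, orderOf_pow_of_dvd (by norm_num) (by rw [h4]; norm_num), h4])

theorem c_Hn {g : G} (hg : g ∈ H) {x : G} (hx : x ∈ Q) : g * x * g⁻¹ ∈ Q :=
  h.nrm g ((h.memH g).mp hg).1 x hx

theorem c_two {a b : Ω} (hab : b ≠ a) : ∃ g : G, g • i = a ∧ g • o = b := by
  obtain ⟨g, hg⟩ : ∃ g : G, g • i = a := by
    by_cases e : a = i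
    · exact ⟨1, by rw [one_smul, e]⟩
    obtain ⟨x, -, hx⟩ := h.tr a e
    obtain ⟨g, hg⟩ := h.trans
    exact ⟨x * g, by rw [mul_smul, hg, hx]⟩
  obtain ⟨x, hx, e⟩ := h.tr (g⁻¹ • b) (fun e => hab (by rw [← hg, ← e, smul_inv_smul]))
  exact ⟨g * x, by rw [mul_smul, h.fix x hx, hg], by rw [mul_smul, e, smul_inv_smul]⟩

theorem c_fix_iff {a b : Ω} {g : G} (hi : g • i = a) (ho : g • o = b) {s : G}
    (hs : orderOf s = 2) : (s • a = a ∧ s • b = b) ↔ s = g * j * g⁻¹ := by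
  constructor
  · rintro ⟨h1, h2⟩
    have : g⁻¹ * s * g⁻¹⁻¹ = j := h.c_inv ((h.memH _).mpr
      ⟨by rw [inv_inv, mul_smul, mul_smul, hi, h1, ← hi, inv_smul_smul],
       by rw [inv_inv, mul_smul, mul_smul, ho, h2, ← ho, inv_smul_smul]⟩)
      (by rw [c_ord_cj, hs])
    rw [← this]; group
  · rintro rfl
    have := (h.memH j).mp h.jH
    exact ⟨by rw [← hi, mul_smul, mul_smul, inv_smul_smul, this.1],
      by rw [← ho, mul_smul, mul_smul, inv_smul_smul, this.2]⟩

theorem c_fin : Finite Ω := Nat.finite_of_card_ne_zero (by rw [h.cardΩ]; omega)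

theorem c_card_inv : {s : G | orderOf s = 2}.ncard * ((q + 1) * (q + 1) - (q + 1)) =
    (q ^ 3 + 1) * (q ^ 3 + 1) - (q ^ 3 + 1) := by
  classical
  haveI := h.c_fin
  haveI := Fintype.ofFinite Ω
  haveI := Fintype.ofFinite G
  have := Finset.card_mul_eq_card_mul (s := Finset.univ.filter fun s : G => orderOf s = 2)
    (t := (Finset.univ : Finset Ω).offDiag) (fun s p => s • p.1 = p.1 ∧ s • p.2 = p.2)
    (m := (q + 1) * (q + 1) - (q + 1)) (n := 1) (fun s hs => ?_) (fun p hp => ?_)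
  · rw [Finset.offDiag_card, Finset.card_univ, ← Nat.card_eq_fintype_card, h.cardΩ,
      mul_one] at this
    rw [← this, Set.ncard_eq_toFinset_card']
    simp
  · have e : ((Finset.univ : Finset Ω).offDiag.bipartiteAbove
        (fun (s : G) (p : Ω × Ω) => s • p.1 = p.1 ∧ s • p.2 = p.2) s) =
        (Finset.univ.filter fun w : Ω => s • w = w).offDiag := by
      ext p; simp [Finset.mem_bipartiteAbove, Finset.mem_offDiag]; tauto
    have e2 : (Finset.univ.filter fun w : Ω => s • w = w).card = q + 1 := by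
      rw [← h.fixn s (by simpa using hs), Set.ncard_eq_toFinset_card']
      simp
    rw [e, Finset.offDiag_card, e2]
  · obtain ⟨g, h1, h2⟩ := h.c_two (a := p.1) (b := p.2) (Finset.mem_offDiag.mp hp).2.2.symm
    refine Finset.card_eq_one.mpr ⟨g * j * g⁻¹, ?_⟩
    ext s
    simp only [Finset.mem_bipartiteBelow, Finset.mem_filter, Finset.mem_univ, true_and,
      Finset.mem_singleton]
    constructor
    · rintro ⟨hs, hf⟩; exact (h.c_fix_iff h1 h2 hs).mp hf
    · intro e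
      have hs : orderOf s = 2 := by rw [e, c_ord_cj, h.j2]
      exact ⟨hs, (h.c_fix_iff h1 h2 hs).mpr e⟩

theorem c_fix_o {g : G} (hg : g ∈ H) {x : G} (hx : x ∈ Q) :
    g • x • o = x • o ↔ g * x = x * g := by
  have ho := ((h.memH g).mp hg).2
  have ho' : g⁻¹ • o = o := by rw [inv_smul_eq_iff, ho]
  constructor
  · intro e
    have := h.reg (x⁻¹ * (g * x * g⁻¹)) (mul_mem (inv_mem hx) (h.c_Hn hg hx))
      (by rw [mul_smul, mul_smul, mul_smul, ho', e, inv_smul_smul])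
    rw [inv_mul_eq_one, eq_comm, mul_inv_eq_iff_eq_mul] at this
    exact this
  · intro e
    rw [← mul_smul, e, mul_smul, ho]

theorem c_reg {x : G} (hx : x ∈ Q) {a : Ω} (ha : a ≠ i) (e : x • a = a) : x = 1 := by
  obtain ⟨y, hy, rfl⟩ := h.tr a ha
  have := h.reg (y⁻¹ * x * y) (mul_mem (mul_mem (inv_mem hy) hx) hy)
    (by rw [mul_smul, mul_smul, e, inv_smul_smul])
  calc x = y * (y⁻¹ * x * y) * y⁻¹ := by group
    _ = 1 := by rw [this]; group

theorem c_trZ {a b : Ω} (ha : a ≠ i) (hb : b ≠ i) (ja : j • a = a) (jb : j • b = b) :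
    ∃ z ∈ Z, z • a = b := by
  obtain ⟨x, hx, rfl⟩ := h.tr a ha
  obtain ⟨y, hy, rfl⟩ := h.tr b hb
  exact ⟨y * x⁻¹, mul_mem ((h.jZ y hy).mp ((h.c_fix_o h.jH hy).mp jb))
    (inv_mem ((h.jZ x hx).mp ((h.c_fix_o h.jH hx).mp ja))), by rw [mul_smul, inv_smul_smul]⟩

theorem c_H0 {g z : G} (hg : g ∈ H) (hz : z ∈ Z) (h1 : z ≠ 1) (e : g * z = z * g) :
    d * orderOf g ∣ q + 1 := by
  rw [← h.H0 z hz h1]
  exact Nat.mul_dvd_mul_left _ (Subgroup.orderOf_dvd_natCard _ (mem_inf.mpr ⟨hg, mem_C1.mpr e⟩))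

theorem c_exZ : ∃ z ∈ Z, z ≠ 1 := by
  by_contra hc
  push Not at hc
  have : Z = ⊥ := eq_bot_iff.mpr fun z hz => mem_bot.mpr (hc z hz)
  have h1 := h.cardZ
  have h2 := h.par.q3
  rw [this, card_bot] at h1
  omega

/-- the number of involutions swapping `i` and `o` -/
theorem c_card_W : {s : G | orderOf s = 2 ∧ s • i = o}.ncard = q - 1 := by
  classical
  haveI := h.c_fin
  haveI := Fintype.ofFinite Ω
  haveI := Fintype.ofFinite G
  have q3 := h.par.q3
  have c1 := h.c_card_inv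
  have := Finset.card_mul_eq_card_mul (s := Finset.univ.filter fun s : G => orderOf s = 2)
    (t := (Finset.univ : Finset Ω).offDiag) (fun s p => s • p.1 = p.2)
    (m := q ^ 3 + 1 - (q + 1)) (n := {s : G | orderOf s = 2 ∧ s • i = o}.ncard)
    (fun s hs => ?_) (fun p hp => ?_)
  · rw [Finset.offDiag_card, Finset.card_univ, ← Nat.card_eq_fintype_card, h.cardΩ, ← c1,
      Set.ncard_eq_toFinset_card' {s : G | orderOf s = 2}, Set.toFinset_setOf, mul_assoc] at this
    have p1 : 0 < (Finset.univ.filter fun s : G => orderOf s = 2).card :=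
      Finset.card_pos.mpr ⟨j, by simpa using h.j2⟩
    have e := Nat.eq_of_mul_eq_mul_left p1 this
    obtain ⟨p, rfl⟩ : ∃ p, q = p + 1 := ⟨q - 1, by omega⟩
    rw [show (p + 1) ^ 3 + 1 - (p + 1 + 1) = (p + 2) * (p + 1) * p from
      Nat.sub_eq_of_eq_add (by ring), show (p + 1 + 1) * (p + 1 + 1) - (p + 1 + 1) =
      (p + 2) * (p + 1) from Nat.sub_eq_of_eq_add (by ring)] at e
    exact (Nat.eq_of_mul_eq_mul_left (by positivity) e).symm
  · have e2 : (Finset.univ.filter fun w : Ω => s • w = w).card = q + 1 := by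
      rw [← h.fixn s (by simpa using hs), Set.ncard_eq_toFinset_card']
      simp
    have e3 := Finset.card_filter_add_card_filter_not (s := (Finset.univ : Finset Ω))
      (fun w : Ω => s • w = w)
    rw [e2, Finset.card_univ, ← Nat.card_eq_fintype_card, h.cardΩ] at e3
    rw [show q ^ 3 + 1 - (q + 1) = (Finset.univ.filter fun w : Ω => ¬ s • w = w).card by omega]
    refine Finset.card_bij (fun p _ => p.1) (fun p hp => ?_) (fun p hp p' hp' e => ?_)
      (fun a ha => ⟨(a, s • a), ?_, rfl⟩)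
    · simp only [Finset.mem_bipartiteAbove, Finset.mem_offDiag] at hp
      simpa [hp.2] using hp.1.2.2.symm
    · simp only [Finset.mem_bipartiteAbove] at hp hp'
      exact Prod.ext e (by rw [← hp.2, ← hp'.2, e])
    · simp only [Finset.mem_bipartiteAbove, Finset.mem_offDiag, Finset.mem_univ, true_and,
        and_true]
      exact fun e => (by simpa using ha : ¬ s • a = a) e.symm
  · obtain ⟨g, h1, h2⟩ := h.c_two (a := p.1) (b := p.2) (Finset.mem_offDiag.mp hp).2.2.symm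
    rw [Set.ncard_eq_toFinset_card']
    refine (Finset.card_bij (fun s _ => g * s * g⁻¹) (fun s hs => ?_) (fun s _ s' _ e => ?_)
      (fun s hs => ⟨g⁻¹ * s * g⁻¹⁻¹, ?_, by group⟩)).symm
    · simp only [Set.mem_toFinset, Set.mem_setOf_eq] at hs
      simp only [Finset.mem_bipartiteBelow, Finset.mem_filter, Finset.mem_univ, true_and]
      exact ⟨by rw [c_ord_cj, hs.1], by rw [← h1, mul_smul, mul_smul, inv_smul_smul, hs.2, h2]⟩
    · simpa using e
    · simp only [Finset.mem_bipartiteBelow, Finset.mem_filter, Finset.mem_univ, true_and] at hs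
      simp only [Set.mem_toFinset, Set.mem_setOf_eq]
      exact ⟨by rw [c_ord_cj, hs.1], by
        rw [inv_inv, mul_smul, mul_smul, h1, hs.2, ← h2, inv_smul_smul]⟩

/-- an element of order four of `H` inverts `Z` unless it centralises an element of `Z#` -/
theorem c_four (h0 : ¬ d * 4 ∣ q + 1) {k : G} (hk : k ∈ H) (h4 : orderOf k = 4)
    {z : G} (hz : z ∈ Z) : k * z * k⁻¹ = z⁻¹ := by
  have hz' := h.Zn k hk z hz
  by_contra hne
  have h1 : z * (k * z * k⁻¹) ≠ 1 := fun e => hne (eq_inv_of_mul_eq_one_right e)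
  have := h.c_H0 hk (mul_mem hz hz') h1 (by
    have e1 : k * k * z = z * (k * k) := by
      rw [h.c_sq hk h4]; exact (h.jZ z (h.Z_le hz)).mpr hz
    have e2 := h.Zc z hz _ (h.Z_le hz')
    calc _ = k * z * k⁻¹ * (k * k * z) * k⁻¹ := by group
      _ = k * z * k⁻¹ * z * k := by rw [e1]; group
      _ = _ := by rw [e2])
  exact h0 (h4 ▸ this)

theorem c_eight (h8 : Nat.card H = 8) : IsCyclic H ∨ ∃ x ∈ H, ∃ y ∈ H, orderOf x = 4 ∧
    orderOf y = 4 ∧ orderOf (x * y) = 4 ∧ x * y ≠ y * x := by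
  haveI := Fact.mk Nat.prime_two
  have hp : IsPGroup 2 H := IsPGroup.of_card (n := 3) (by rw [h8]; norm_num)
  have hno : ∀ z a : H, orderOf z = 2 → a ^ 2 = 1 → z * a = a * z → a ∈ zpowers z :=
      fun z a h1 h2 _ => by
    have hz : z.1 = j := h.c_inv z.2 (by rw [orderOf_coe, h1])
    rw [pow_two] at h2
    rcases h.juniq _ a.2 (congrArg Subtype.val h2) with e | e
    · rw [show a = 1 from Subtype.ext e]; exact one_mem _
    · rw [show a = z from Subtype.ext (e.trans hz.symm)]; exact mem_zpowers _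
  rcases CfsgH8.cyclic_or_quaternion_of_no_pp hp hno with e | ⟨-, n, hn, ⟨e⟩⟩
  · exact Or.inl e
  · right
    have h4 : Nat.card H = 4 * 2 ^ n := by
      rw [Nat.card_congr e.toEquiv, Nat.card_eq_fintype_card, QuaternionGroup.card]
    have hn2 : n = 1 := Nat.pow_right_injective le_rfl (show 2 ^ n = 2 ^ 1 by omega)
    subst hn2
    refine ⟨_, (e.symm (QuaternionGroup.a 1)).2, _, (e.symm (QuaternionGroup.xa 0)).2,
      ?_, ?_, ?_, fun e' => ?_⟩
    · rw [orderOf_coe, MulEquiv.orderOf_eq, QuaternionGroup.orderOf_a_one]; norm_num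
    · rw [orderOf_coe, MulEquiv.orderOf_eq, QuaternionGroup.orderOf_xa]
    · rw [← Subgroup.coe_mul, orderOf_coe, ← map_mul, MulEquiv.orderOf_eq,
        QuaternionGroup.a_mul_xa, QuaternionGroup.orderOf_xa]
    · rw [← Subgroup.coe_mul, ← Subgroup.coe_mul, ← map_mul, ← map_mul] at e'
      exact absurd (e.symm.injective (Subtype.ext e')) (by decide)

end UB

/-- `q = 3`: an element of order four of `H` centralises `Z` -/
theorem UB.c3_four (h : UB G Ω 3 r d m i o Q Z H j) {k : G} (hk : k ∈ H) (h4 : orderOf k = 4)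
    {z : G} (hz : z ∈ Z) : k * z = z * k := by
  obtain ⟨x, hx, y, hy, hxy⟩ := h.nab
  have hkk := h.c_sq hk h4
  set a := k * x * k⁻¹ with ha
  have haQ : a ∈ Q := h.c_Hn hk hx
  obtain ⟨z0, hz0, e0⟩ : ∃ z0 ∈ Z, k * a * k⁻¹ = x⁻¹ * z0 :=
    ⟨_, h.jinv x hx, by rw [ha, ← hkk]; group⟩
  by_cases hc : x * a = a * x
  · exfalso
    have hZR : Z ≤ Q ⊓ C1 x ⊓ C1 a := fun w hw =>
      ⟨⟨h.Z_le hw, mem_C1.mpr (h.Zc w hw x hx).symm⟩, mem_C1.mpr (h.Zc w hw a haQ).symm⟩
    have hxZ : x ∉ Z := fun hh => hxy (h.Zc x hh y hy).symm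
    have hxR : x ∈ Q ⊓ C1 x ⊓ C1 a := ⟨⟨hx, mem_C1.mpr rfl⟩, mem_C1.mpr hc⟩
    have hlt : Q ⊓ C1 x ⊓ C1 a < Q := lt_of_le_of_ne (inf_le_left.trans inf_le_left) fun e =>
      hxy (mem_C1.mp (e.ge hy).1.2).symm
    have hlt' : Z < Q ⊓ C1 x ⊓ C1 a := lt_of_le_of_ne hZR fun e => hxZ (e.ge hxR)
    have c1 := card_dvd_of_le hlt.le
    have c2 := card_lt_of_lt hlt
    have c3 := card_lt_of_lt hlt'
    rw [h.cardQ] at c1 c2
    rw [h.cardZ] at c3
    obtain ⟨n, hn, e⟩ := (Nat.dvd_prime_pow (by norm_num : Nat.Prime 3)).mp c1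
    have c4 : Nat.card ↥(Q ⊓ C1 x ⊓ C1 a) = 9 := by
      rw [e] at c2 c3 ⊢
      interval_cases n <;> simp_all
    have hkR : k ∈ N (Q ⊓ C1 x ⊓ C1 a) := by
      refine mem_N_of_conj fun w hw => ⟨⟨h.c_Hn hk hw.1.1, mem_C1.mpr ?_⟩, mem_C1.mpr ?_⟩
      · have h1 : k * w * k⁻¹ * (k * a * k⁻¹) = k * a * k⁻¹ * (k * w * k⁻¹) := by
          calc _ = k * (w * a) * k⁻¹ := by group
            _ = _ := by rw [mem_C1.mp hw.2]; group
        have h2 := h.Zc z0 hz0 _ (h.c_Hn hk hw.1.1)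
        rw [e0, ← mul_assoc, mul_assoc x⁻¹ z0, ← h2, ← mul_assoc, mul_left_inj] at h1
        calc _ = x * (x⁻¹ * (k * w * k⁻¹)) * x := by group
          _ = _ := by rw [← h1]; group
      · calc _ = k * (w * x) * k⁻¹ := by rw [ha]; group
          _ = _ := by rw [mem_C1.mp hw.1.2, ha]; group
    have hle : zpowers k ≤ N (Q ⊓ C1 x ⊓ C1 a) := zpowers_le.mpr hkR
    have hle' : zpowers k ≤ H := zpowers_le.mpr hk
    have := card_dvd_ncard_of_free (E := zpowers k)
      (A := ((Q ⊓ C1 x ⊓ C1 a : Subgroup G) : Set G) \ Z) (fun e he w hw =>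
        ⟨(mem_normalizer_iff.mp (hle he) w).mp hw.1, fun hh => hw.2 (by
          have := h.Zn e⁻¹ (inv_mem (hle' he)) _ hh
          simpa [mul_assoc] using this)⟩)
      (fun e he w hw e' => h.free e (hle' he) w hw.1.1.1 hw.2 (by
        rw [e', mul_inv_cancel]; exact one_mem _))
    rw [Set.ncard_diff hZR, Nat.card_zpowers, h4, ← Nat.card_coe_set_eq, ← Nat.card_coe_set_eq,
      SetLike.coe_sort_coe, SetLike.coe_sort_coe, c4, h.cardZ] at this
    norm_num at this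
  · have hcZ : x * a * x⁻¹ * a⁻¹ ∈ Z := h.comm x hx a haQ
    have hc1 : x * a * x⁻¹ * a⁻¹ ≠ 1 := fun e => hc (by
      rw [mul_inv_eq_one, mul_inv_eq_iff_eq_mul] at e; exact e)
    have hkc : k * (x * a * x⁻¹ * a⁻¹) * k⁻¹ = x * a * x⁻¹ * a⁻¹ := by
      have h1 := h.Zc z0 hz0 _ (inv_mem haQ)
      have h2 := h.Zc _ hcZ _ (inv_mem hx)
      calc _ = a * (k * a * k⁻¹) * a⁻¹ * (k * a * k⁻¹)⁻¹ := by rw [ha]; group
        _ = a * x⁻¹ * (z0 * a⁻¹) * z0⁻¹ * x := by rw [e0]; group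
        _ = x⁻¹ * (x * a * x⁻¹ * a⁻¹) * x := by rw [← h1]; group
        _ = _ := by rw [h2]; group
    have hzp : zpowers (x * a * x⁻¹ * a⁻¹) = Z := by
      haveI := Fact.mk (by norm_num : Nat.Prime 3)
      refine Subgroup.eq_of_le_of_card_ge (zpowers_le.mpr hcZ) ?_
      have := Subgroup.orderOf_dvd_natCard _ hcZ
      rw [h.cardZ] at this
      rw [Nat.card_zpowers, h.cardZ, ((Nat.dvd_prime (by norm_num)).mp this).resolve_left
        fun e => hc1 (orderOf_eq_one_iff.mp e)]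
    rw [← hzp] at hz
    exact mem_C1.mp (C1_le_C1_of_mem_zpowers hz (mem_C1_iff_conj.mpr hkc))

theorem UB.cyc3 (h : UB G Ω 3 r d m i o Q Z H j) : IsCyclic H := by
  obtain rfl : d = 1 := by have := h.par.d_cases; omega
  obtain ⟨z, hz, hz1⟩ := h.c_exZ
  refine (h.c_eight (by simpa using h.cardH)).resolve_right ?_
  rintro ⟨x, hx, y, hy, h1, h2, -, h4⟩
  have hy0 : y ∈ H ⊓ C1 z := ⟨hy, mem_C1.mpr (h.c3_four hy h2 hz)⟩
  have hx0 : x ∈ H ⊓ C1 z := ⟨hx, mem_C1.mpr (h.c3_four hx h1 hz)⟩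
  have : zpowers x = H ⊓ C1 z := Subgroup.eq_of_le_of_card_ge (zpowers_le.mpr hx0)
    (by have := h.H0 z hz hz1; rw [Nat.card_zpowers, h1]; omega)
  rw [← this] at hy0
  exact h4 (mem_C1.mp (C1_le_C1_of_mem_zpowers hy0 (self_mem_C1 x)))

theorem UB.cyc5 (h : UB G Ω 5 r d m i o Q Z H j) : IsCyclic H := by
  obtain rfl : d = 3 := by have := h.par.d_cases; omega
  obtain ⟨z, hz, hz1⟩ := h.c_exZ
  refine (h.c_eight (by have := h.cardH; omega)).resolve_right ?_
  rintro ⟨x, hx, y, hy, h1, h2, h3, -⟩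
  have e1 := h.c_four (by norm_num) hx h1 (inv_mem hz)
  have e2 := h.c_four (by norm_num) hy h2 hz
  have := h.c_H0 (mul_mem hx hy) hz hz1 (by
    calc x * y * z = x * (y * z * y⁻¹) * x⁻¹ * (x * y) := by group
      _ = _ := by rw [e2, e1, inv_inv])
  rw [h3] at this
  norm_num at this

end CfsgV3
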