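import Cfsg.Agent.H7.V3Par
import Cfsg.Agent.H3.PSL2Rec
import Cfsg.Agent.H6.U3M0

/-! S3424: the field structure on `Q / Z` defined by an irreducible cyclic subgroup of `H`. -/

set_option autoImplicit false
set_option linter.unusedSectionVars false

namespace CfsgV3

open Subgroup CfsgH5 CfsgH6 CfsgFT CfsgU3

universe u

variable {G Ω : Type u} [Group G] [Finite G] [MulAction G Ω] {q r d m : ℕ} {i o : Ω}
  {Q Z H : Subgroup G} {j : G}

theorem UB.exists_x (h : UB G Ω q r d m i o Q Z H j) {H1 : Subgroup G} (h1 : H1 ≤ H)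
    (hc : IsCyclic H1) (hn : ∀ n, n ∣ q ^ 2 → 1 < n → Nat.card H1 ∣ n - 1 → n = q ^ 2) :
    ∃ (E : Type) (_ : Field E) (_ : Fintype E) (x : G → E) (M : Subgroup Eˣ) (η : M →* G),
      Fintype.card E = q ^ 2 ∧ η.range = H1 ∧ Function.Injective η ∧
      (∀ a ∈ Q, ∀ b ∈ Q, x (a * b) = x a + x b) ∧
      (∀ a ∈ Q, x a = 0 ↔ a ∈ Z) ∧ (∀ u, ∃ a ∈ Q, x a = u) ∧
      ∀ μ : M, ∀ a ∈ Q, x (η μ * a * (η μ)⁻¹) = (μ.1 : E) * x a := by
  classical
  have q3 := h.par.q3
  have hN : (Z.subgroupOf Q).Normal := ⟨fun z hz g => by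
    rw [mem_subgroupOf] at hz ⊢
    rwa [coe_mul, coe_mul, h.Zc _ hz _ g.2, coe_inv, mul_inv_cancel_right]⟩
  let V := Q ⧸ Z.subgroupOf Q
  let _ : CommGroup V := { (inferInstance : Group V) with
    mul_comm := fun a b => QuotientGroup.induction_on a fun a => QuotientGroup.induction_on b fun b =>
      QuotientGroup.eq.2 (by
        simpa [mem_subgroupOf, mul_assoc] using h.comm _ (inv_mem b.2) _ (inv_mem a.2)) }
  let c : H1 → Q →* Q := fun g => ((MulAut.conj (g : G)).toMonoidHom.comp Q.subtype).codRestrict Q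
    fun a => h.nrm g ((h.memH g).1 (h1 g.2)).1 a a.2
  let ψ : H1 →* AddMonoid.End (Additive V) :=
    { toFun := fun g => MonoidHom.toAdditive
        (QuotientGroup.map _ _ (c g) fun z hz => h.Zn g (h1 g.2) z hz)
      map_one' := AddMonoidHom.ext fun a => QuotientGroup.induction_on (C := fun a => _ = Additive.ofMul a)
        a fun a => congrArg (fun a : Q => Additive.ofMul (a : V)) (Subtype.ext (by simp [c]))
      map_mul' := fun g k => AddMonoidHom.ext fun a => QuotientGroup.induction_on a fun a =>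
        congrArg (fun a : Q => Additive.ofMul (a : V)) (Subtype.ext (by simp [c, mul_assoc])) }
  have hψ : ∀ g (a : Q), ψ g (Additive.ofMul (a : V)) = Additive.ofMul ((c g a : Q) : V) := fun _ _ => rfl
  have hm : ∀ g k v, ψ (g * k) v = ψ g (ψ k v) := fun g k v => by rw [map_mul]; rfl
  have cV : Nat.card (Additive V) = q ^ 2 := by
    have := (Z.subgroupOf Q).card_mul_index
    rw [Nat.card_congr (subgroupOfEquivOfLe h.Z_le).toEquiv, h.cardZ, h.cardQ, pow_succ'] at this
    exact Nat.eq_of_mul_eq_mul_left (by omega) this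
  have fr : ∀ (g : H1) (v : Additive V), v ≠ 0 → ψ g v = v → g = 1 := fun g v =>
    QuotientGroup.induction_on (C := fun a : V => Additive.ofMul a ≠ 0 → ψ g (Additive.ofMul a) =
      Additive.ofMul a → g = 1) v fun a h0 e => Subtype.ext (h.free g (h1 g.2) a a.2
        (fun hz => h0 ((QuotientGroup.eq_one_iff a).2 hz))
        ((QuotientGroup.eq_one_iff (N := Z.subgroupOf Q) (c g a * a⁻¹)).1 (mul_inv_eq_one (G := V).2 e)))
  have h2 : 1 < q ^ 2 := by nlinarith
  have := Finite.one_lt_card_iff_nontrivial.1 (cV ▸ h2)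
  obtain ⟨b, hb⟩ := exists_ne (0 : Additive V)
  obtain ⟨E, _, _, e, μ, -, he⟩ := CfsgH3.exists_field_of_irreducible ψ
    (fun a b => (IsCyclic.isMulCommutative (α := H1)).1.1 a b) (fun U hU => by
      refine (U.bot_or_nontrivial).imp id fun hnt => ?_
      refine AddSubgroup.eq_top_of_card_eq U ((hn _ (cV ▸ U.card_addSubgroup_dvd_card)
        (Finite.one_lt_card_iff_nontrivial.2 hnt) ?_).trans cV.symm)
      letI : MulAction H1 ↥((U : Set (Additive V)) \ {0}) :=
        { smul := fun g v => ⟨ψ g v.1, hU g v.1 v.2.1, fun e => v.2.2 (by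
            have e' : ψ g v.1 = 0 := e
            change v.1 = 0
            rw [← show ψ (g⁻¹ * g) v.1 = v.1 by simp, hm, e', map_zero])⟩
          one_smul := fun v => Subtype.ext (show ψ 1 v.1 = v.1 by simp)
          mul_smul := fun g k v => Subtype.ext (hm g k v.1) }
      have := Nat.card_congr (MulAction.selfEquivOrbitsQuotientProd (G := H1)
        (X := ↥((U : Set (Additive V)) \ {0})) fun v => eq_bot_iff.2 fun g hg =>
          fr g v.1 v.2.2 (congrArg Subtype.val hg))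
      rw [Nat.card_prod, Nat.card_coe_set_eq, Set.ncard_sdiff_singleton_of_mem U.zero_mem] at this
      exact Dvd.intro_left _ this.symm) hb
  have cE : Fintype.card E = q ^ 2 := by rw [← Nat.card_eq_fintype_card, Nat.card_congr e.toEquiv, cV]
  have inj : Function.Injective μ.toHomUnits :=
    (injective_iff_map_eq_one _).2 fun g e1 => fr g (e 1) (by simp) (by
      rw [he, show μ g = 1 from congrArg Units.val e1, one_mul])
  let f := MonoidHom.ofInjective inj
  refine ⟨E, inferInstance, inferInstance,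
    fun a => if ha : a ∈ Q then e.symm (Additive.ofMul ((⟨a, ha⟩ : Q) : V)) else 0, _,
    H1.subtype.comp f.symm.toMonoidHom, cE, ?_, Subtype.val_injective.comp f.symm.injective,
    fun a ha b hb => ?_, fun a ha => ?_, fun u => ?_, fun ν a ha => ?_⟩
  · rw [MonoidHom.range_comp, MonoidHom.range_eq_top.2 f.symm.surjective, ← MonoidHom.range_eq_map,
      range_subtype]
  · simp only [dif_pos ha, dif_pos hb, dif_pos (mul_mem ha hb), ← map_add]
    rfl
  · simp only [dif_pos ha, EmbeddingLike.map_eq_zero_iff]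
    exact QuotientGroup.eq_one_iff (⟨a, ha⟩ : Q)
  · obtain ⟨a, ha⟩ := QuotientGroup.mk_surjective (Additive.toMul (e u))
    exact ⟨a, a.2, by simp only [dif_pos a.2, Subtype.coe_eta, ha, ofMul_toMul, e.symm_apply_apply]⟩
  · obtain ⟨g, rfl⟩ := f.surjective ν
    have m : (g : G) * a * (g : G)⁻¹ ∈ Q := (c g ⟨a, ha⟩).2
    simp only [MonoidHom.comp_apply, MulEquiv.coe_toMonoidHom, MulEquiv.symm_apply_apply, coe_subtype,
      dif_pos ha, dif_pos m, AddEquiv.symm_apply_eq]
    exact (hψ g ⟨a, ha⟩).symm.trans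
      (by rw [show (((f g).1 : Eˣ) : E) = μ g from rfl, ← he, e.apply_symm_apply])

/-- arithmetic of irreducibility -/
theorem Par.irr (h : Par q r d m) (hr : r ≠ 2) {c N : ℕ} (hc : c = 1 ∨ (c = 2 ∧ q ≠ 5))
    (hN : c * d * N = q ^ 2 - 1) (n : ℕ) (h1 : n ∣ q ^ 2) (h2 : 1 < n) (h3 : N ∣ n - 1) :
    n = q ^ 2 := by
  have q3 := h.q3
  have rq := h.r_dvd
  have r3 := h.r_ne
  have r2 := h.pr.two_le
  have dc := h.d_cases
  have hq : 1 ≤ q ^ 2 := Nat.one_le_pow _ _ (by omega)
  obtain ⟨k, hk⟩ := h.pw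
  obtain ⟨t, ht⟩ := h3
  have hle := Nat.le_of_dvd (by omega) h1
  have h1' := h1
  rw [hk, ← pow_mul] at h1'
  obtain ⟨s, hs, rfl⟩ := (Nat.dvd_prime_pow h.pr).mp h1'
  have s0 : s ≠ 0 := by rintro rfl; simp at h2
  have e : c * d * (r ^ s - 1) = t * (q ^ 2 - 1) := by rw [ht, ← hN]; ring
  have t0 : 0 < t := by rcases t with _ | t <;> omega
  have tle : t ≤ c * d := Nat.le_of_mul_le_mul_right (c := q ^ 2 - 1)
    (by rw [← e]; exact Nat.mul_le_mul_left _ (by omega)) (by nlinarith [Nat.sub_add_cancel hq])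
  have cd0 : 0 < c * d := by omega
  rcases tle.eq_or_lt with rfl | hlt
  · have := Nat.eq_of_mul_eq_mul_left cd0 e
    omega
  exfalso
  have ez : ((c * d : ℕ) : ℤ) * ((r : ℤ) ^ s - 1) = t * ((q : ℤ) ^ 2 - 1) := by
    have := congrArg (Nat.cast : ℕ → ℤ) e
    push_cast [Nat.cast_sub h2.le, Nat.cast_sub hq] at this ⊢
    exact this
  have dv : ∀ a : ℕ, a ∣ r ^ s → a ∣ q ^ 2 → a ∣ c * d - t := fun a a1 a2 => by
    rw [← Int.natCast_dvd_natCast] at a1 a2 ⊢
    rw [Nat.cast_sub tle]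
    push_cast at a1 a2 ez ⊢
    exact (dvd_sub (a1.mul_left (c * d)) (a2.mul_left t)).trans (dvd_of_eq (by linarith))
  have d1 := Nat.le_of_dvd (by omega) (dv _ dvd_rfl h1)
  have d2 := dv r (dvd_pow_self r s0) (rq.trans (dvd_pow_self q two_ne_zero))
  have d3 := Nat.le_of_dvd (by omega) d2
  have r4 : r ≠ 4 := fun e => absurd (e ▸ h.pr) (by norm_num)
  have cd : c * d ≤ 2 ∨ c * d = 3 ∨ c * d = 6 := by
    rcases hc with rfl | ⟨rfl, -⟩ <;> omega
  have hd : d = 3 := by rcases hc with rfl | ⟨rfl, -⟩ <;> omega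
  obtain rfl : r = 5 := by have := r3 hd; omega
  have s1 : s = 1 := by
    by_contra hs1
    have : 5 ^ 2 ≤ 5 ^ s := Nat.pow_le_pow_right (by norm_num) (by omega)
    omega
  subst s1
  obtain rfl : t = 1 := by omega
  have c6 : c * d = 6 := by omega
  rw [c6] at e
  have : q = 5 := Nat.pow_left_injective two_ne_zero (show q ^ 2 = 5 ^ 2 by omega)
  rcases hc with rfl | ⟨-, e5⟩ <;> omega

end CfsgV3
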