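import Cfsg.Agent.H1.W3DUa
import Cfsg.Agent.H6.W3Dio

/-! S3422, piece (DU). -/

set_option autoImplicit false

namespace CfsgW3

universe u

variable {G : Type u} [Group G] [Finite G] {q r d m e : ℕ}

theorem Sp.simple (h : Sp G q r d m e) : IsSimpleGroup G :=
  (h.dl_of (fun _ _ => h.par.ppow) fun _ _ => h.par.dio).1

theorem Sp.dl (h : Sp G q r d m e) (h4 : q ≠ 4) : ∃ a s h', DL G q r d m e a s h' :=
  (h.dl_of (fun _ _ => h.par.ppow) fun _ _ => h.par.dio).2 h4

end CfsgW3
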