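import Cfsg.Agent.H2.V3DUa
import Cfsg.Agent.H7.W3Par
import Cfsg.Agent.H7.SpecBasic
import Cfsg.Agent.H6.Derang

/-! S3422, piece (DU): the characters of degrees `q² + q`, `q³`, `(q - 1)²(q + 1)`. -/

set_option autoImplicit false
set_option linter.style.haveILetI false

namespace CfsgW3

open Finset Cfsg CfsgL CfsgH5 CfsgH6 CfsgFT CfsgSZ CfsgH8 CfsgB0 Subgroup
open CfsgV3 (TT XD not_TT_one)

universe u

variable {G : Type u} [Group G] [Finite G] {q r d m e : ℕ}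

/-- the arithmetic input on prime powers -/
def DlPP (q m : ℕ) : Prop := ∀ s j : ℕ, s.Prime → s ^ j ∣ q ^ 3 * ((q - 1) ^ 2 * (q + 1)) →
  s ^ j ≡ 1 [MOD m] → s ^ j = 1 ∨ s ^ j = q ^ 3 ∨ (q = 4 ∧ s ^ j = 8) ∨ (q = 5 ∧ s ^ j = 32)

/-- the arithmetic input on degrees -/
def DlDio (q m : ℕ) : Prop := ∀ A B : ℤ, (m : ℤ) ∣ A - 1 → (m : ℤ) ∣ B - 1 →
  A ∣ ((q ^ 3 * ((q - 1) ^ 2 * (q + 1)) : ℕ) : ℤ) → B ∣ ((q ^ 3 * ((q - 1) ^ 2 * (q + 1)) : ℕ) : ℤ) →
  1 + A + B ∣ ((q ^ 3 * ((q - 1) ^ 2 * (q + 1)) : ℕ) : ℤ) → IsSquare (-(A * B * (1 + A + B))) →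
  (A = -(q * (q + 1)) ∧ B = q ^ 3) ∨ (B = -(q * (q + 1)) ∧ A = q ^ 3) ∨
    (q = 4 ∧ (A, B) ∈ [(-6, 15), (15, -6), (-6, 8), (8, -6)])

theorem Sp.dl_pp (h : Sp G q r d m e) (hp : DlPP q m) (K : Subgroup G) [K.Normal]
    (hK : ∀ y ∈ K, ¬ TT m y) {s : ℕ} (hs : s.Prime) (f : s ∣ Nat.card K) :
    s ^ (Nat.card K).factorization s = q ^ 3 ∨ (q = 4 ∧ s ^ (Nat.card K).factorization s = 8) ∨
      (q = 5 ∧ s ^ (Nat.card K).factorization s = 32) := by
  have C := h.cc'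
  have h1 : (Nat.card K).Coprime m := Nat.Coprime.symm (Nat.coprime_of_dvd fun s hs h1 h2 => by
    haveI := Fact.mk hs
    obtain ⟨y, hy⟩ := exists_prime_orderOf_dvd_card' s h2
    exact hK y y.2 (C.tt_of_prime hs h1 (by rw [orderOf_coe, hy])))
  have h2 : Nat.card K ∣ q ^ 3 * ((q - 1) ^ 2 * (q + 1)) :=
    h1.dvd_of_dvd_mul_left (C.card ▸ K.card_subgroup_dvd_card)
  refine (hp s _ hs ((Nat.ordProj_dvd _ _).trans h2) (C.nrm K hK hs)).resolve_left fun e2 => ?_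
  have e1 := dvd_pow_self s (hs.factorization_pos_of_dvd Nat.card_pos.ne' f).ne'
  rw [e2] at e1
  exact hs.ne_one (Nat.dvd_one.1 e1)

theorem Par.eq_r (h : Par q r d m e) {s : ℕ} (hs : s.Prime) (f : s ∣ q) : s = r := by
  obtain ⟨k, rfl⟩ := h.pw
  exact (Nat.prime_dvd_prime_iff_eq hs h.pr).1 (hs.dvd_of_dvd_pow f)

theorem Sp.dl_orb (h : Sp G q r d m e) (V : Subgroup G) [hV : V.Normal] (hr : ∀ x ∈ V, x ^ r = 1) :
    q + 1 ∣ Nat.card V - 1 := by
  obtain ⟨y, hy⟩ := h.exy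
  have P := h.par
  have c : Nat.card (zpowers (ConjAct.toConjAct y)) = (q + 1) * e := by
    rw [Nat.card_zpowers, ← hy]
    exact orderOf_injective ConjAct.toConjAct.toMonoidHom ConjAct.toConjAct.injective y
  have := dvd_ncard_of_dvd_index_stabilizer (G := zpowers (ConjAct.toConjAct y)) (Ω := G) (q + 1)
    ((V : Set G) \ {1}) (fun g x hx => ⟨hV.conj_mem x hx.1 _, fun f => hx.2
      ((smul_eq_iff_eq_inv_smul g).1 f |>.trans (smul_one _))⟩) (fun x hx => by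
    set S := MulAction.stabilizer (zpowers (ConjAct.toConjAct y)) x
    have h1 : Nat.card S ∣ e := by
      rw [← IsCyclic.exponent_eq_card]
      refine Monoid.exponent_dvd_of_forall_pow_eq_one fun g => ?_
      set w := ConjAct.ofConjAct (g.1.1 : ConjAct G) with hw
      have h2 : Commute w x := by
        have : w * x * w⁻¹ = x := g.2
        exact mul_inv_eq_iff_eq_mul.1 this
      have h3 : orderOf w ∣ (q + 1) * e := by
        rw [← c]
        exact orderOf_dvd_of_pow_eq_one (by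
          rw [hw, ← map_pow, ← SubgroupClass.coe_pow, pow_card_eq_one']; rfl)
      have h4 : (orderOf w).Coprime r := Nat.Coprime.coprime_dvd_left h3
        (Nat.Coprime.symm ((Nat.Prime.coprime_iff_not_dvd P.pr).2 fun f =>
          ((Nat.Prime.dvd_mul P.pr).1 f).elim P.not_dvd_succ P.not_dvd_e))
      haveI := Fact.mk P.pr
      have h5 : orderOf x = r := orderOf_eq_prime (hr x hx.1) hx.2
      have h6 := h.mix (w * x) (by
        rw [h2.orderOf_mul_eq_mul_orderOf_of_coprime (h5 ▸ h4), h5]; exact dvd_mul_left _ _)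
      rw [h2.mul_pow, sq, mul_assoc, pow_mul x, hr x hx.1, one_pow, mul_one,
        ← orderOf_dvd_iff_pow_eq_one] at h6
      have h7 := h4.dvd_of_dvd_mul_left (h4.dvd_of_dvd_mul_left h6)
      refine Subtype.ext (Subtype.ext (ConjAct.ofConjAct.injective ?_))
      rw [orderOf_dvd_iff_pow_eq_one] at h7
      simpa using h7
    obtain ⟨k, hk⟩ := h1
    have h2 := S.card_mul_index
    rw [c, hk] at h2
    have h3 : 0 < Nat.card S := Nat.pos_of_ne_zero fun f => by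
      have := P.e_pos
      rw [hk, f] at this
      omega
    exact ⟨k, Nat.eq_of_mul_eq_mul_left h3 (by rw [h2]; ring)⟩)
  rwa [Set.ncard_diff_singleton_of_mem V.one_mem, ← Nat.card_coe_set_eq] at this

theorem Sp.dl_bot (h : Sp G q r d m e) (hp : DlPP q m) (K : Subgroup G) [K.Normal]
    (hK : ∀ y ∈ K, ¬ TT m y) : K = ⊥ := by
  have P := h.par
  by_contra h0
  have h1 : ∀ s j : ℕ, s.Prime → s ∣ s ^ j → s ^ j = q ^ 3 → s = r := fun s j hs f1 f2 =>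
    P.eq_r hs (hs.dvd_of_dvd_pow (f2 ▸ f1))
  have h2 : ∀ s j : ℕ, s.Prime → s ∣ s ^ j → s ^ j = 8 ∨ s ^ j = 32 → s = 2 := fun s j hs f1 f2 =>
    (Nat.prime_dvd_prime_iff_eq hs Nat.prime_two).1 (hs.dvd_of_dvd_pow (n := 5)
      (f1.trans (by rcases f2 with f | f <;> rw [f] <;> norm_num)))
  obtain ⟨V, hV, p, hp', V0, VK, -, Vp⟩ := CfsgH7.exists_normal_elemAb K h0
    (burnside_pq P.pr Nat.prime_two fun s hs f => by
      have e1 := dvd_pow_self s (hs.factorization_pos_of_dvd Nat.card_pos.ne' f).ne'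
      rcases h.dl_pp hp K hK hs f with f | ⟨-, f⟩ | ⟨-, f⟩
      exacts [.inl (h1 _ _ hs e1 f), .inr (h2 _ _ hs e1 (.inl f)), .inr (h2 _ _ hs e1 (.inr f))])
  haveI := Fact.mk hp'
  obtain ⟨j, hj⟩ := IsPGroup.iff_card.1 (show IsPGroup p V from fun g =>
    ⟨1, Subtype.ext (by simpa using Vp g g.2)⟩)
  have j0 : p ∣ p ^ j := dvd_pow_self p fun f => V0 (card_eq_one.1 (by rw [hj, f, pow_zero]))
  have h3 := h.dl_pp hp V (fun y hy => hK y (VK hy)) hp' (hj ▸ j0)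
  rw [hj, hp'.factorization_pow, Finsupp.single_eq_same] at h3
  have q2 := P.q2
  rcases h3 with f | ⟨rfl, f⟩ | ⟨rfl, f⟩
  · have h4 := h.dl_orb V (h1 _ _ hp' j0 f ▸ Vp)
    rw [hj, f] at h4
    obtain ⟨t, rfl⟩ : ∃ t, q = t + 1 := ⟨q - 1, by omega⟩
    rw [show (t + 1) ^ 3 - 1 = (t + 1 + 1) * (t ^ 2 + t) + t by
      rw [Nat.sub_eq_iff_eq_add (Nat.one_le_pow _ _ (by omega))]; ring,
      Nat.dvd_add_right (dvd_mul_right _ _)] at h4
    have := Nat.le_of_dvd (by omega) h4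
    omega
  · have h4 := h.dl_orb V (P.eq_r Nat.prime_two (by norm_num) ▸ h2 _ _ hp' j0 (.inl f) ▸ Vp)
    rw [hj, f] at h4
    norm_num at h4
  · obtain rfl := h2 _ _ hp' j0 (.inr f)
    obtain rfl : d = 1 := by have := P.d_cases; omega
    obtain rfl : e = 4 := by have := P.he; omega
    obtain rfl : m = 31 := by have := P.hm; omega
    obtain ⟨y, hy⟩ := h.exy
    have h4 : V.index = 11625 := by
      have := V.card_mul_index
      rw [hj, f, h.card] at this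
      norm_num [ord] at this
      omega
    have h5 := Vp _ (V.pow_index_mem y)
    rw [h4, ← pow_mul, ← orderOf_dvd_iff_pow_eq_one, hy] at h5
    norm_num at h5

theorem Sp.dl_simple (h : Sp G q r d m e) (hp : DlPP q m) {χ ψ θ : IrrCharacter G} {ε₁ ε₂ δ : ℤ}
    (X : XD G m χ ψ θ ε₁ ε₂ δ) (h1 : dg χ ≠ 1) (h2 : dg ψ ≠ 1) (h3 : dg θ ≠ 1) : IsSimpleGroup G := by
  have C := h.cc'
  have m7 := h.par.seven
  have hc : commutator G = ⊤ := CfsgH2.perfect_of_deg fun φ hφ e => by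
    have e1 : dg ⟨φ, hφ⟩ = 1 := dg_eq (by simpa using e)
    rcases X.only ⟨φ, hφ⟩ (by rw [e1, Nat.dvd_one]; omega) with f | f | f | f
    · exact congrArg Subtype.val f
    all_goals first | (rw [f] at e1; omega)
  haveI : Nontrivial G := by
    obtain ⟨x, hx⟩ := h.exm
    exact ⟨x, 1, fun e => by rw [e, orderOf_one] at hx; omega⟩
  refine ⟨fun K hK => ?_⟩
  by_cases e : ∃ y ∈ K, TT m y
  · obtain ⟨y, y1, y2⟩ := e
    exact Or.inr (C.top hc K y2 y1)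
  · exact Or.inl (h.dl_bot hp K fun y y1 y2 => e ⟨y, y1, y2⟩)

theorem Sp.dl_main (h : Sp G q r d m e) (hp : DlPP q m) {χ ψ θ : IrrCharacter G} {ε₁ ε₂ δ : ℤ}
    (X : XD G m χ ψ θ ε₁ ε₂ δ) (hA : ε₁ * dg χ = -(q * (q + 1))) (hB : ε₂ * dg ψ = q ^ 3) :
    IsSimpleGroup G ∧ DL G q r d m e χ ψ θ := by
  have C := h.cc'
  have P := h.par
  have q2 : (2 : ℤ) ≤ q := by exact_mod_cast P.q2
  have m7 := P.seven
  have e0 := X.deg
  have cq := P.cast1
  obtain rfl : ε₁ = -1 := X.sgn.1.resolve_left (by rintro rfl; nlinarith [Int.natCast_nonneg (dg χ)])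
  obtain rfl : ε₂ = 1 := X.sgn.2.1.resolve_right (by
    rintro rfl; nlinarith [Int.natCast_nonneg (dg ψ), pow_pos (by omega : (0 : ℤ) < q) 3])
  have d1 : (dg χ : ℤ) = q * (q + 1) := by omega
  have d2 : (dg ψ : ℤ) = q ^ 3 := by omega
  have l1 : (1 : ℤ) < q * (q + 1) := by nlinarith
  have l2 : (q : ℤ) * (q + 1) < q ^ 3 := by nlinarith
  obtain rfl : δ = 1 := X.sgn.2.2.resolve_right (by rintro rfl; have := dg_pos θ; omega)
  have d3 : (dg θ : ℤ) = (q - 1) ^ 2 * (q + 1) := by linear_combination -e0 - d1 + d2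
  have l3 : dg χ ≠ dg θ := fun f => by
    have f1 : (q : ℤ) = (q - 1) ^ 2 := mul_right_cancel₀ (by omega : (q : ℤ) + 1 ≠ 0) (by
      rw [← d1, ← d3, f])
    have f2 : (q : ℤ) ∣ 1 := ⟨3 - q, by linear_combination -f1⟩
    have := Int.le_of_dvd one_pos f2
    omega
  have l4 : (1 : ℤ) < dg θ := by
    rw [d3]; nlinarith [sq_nonneg ((q : ℤ) - 2), sq_nonneg ((q : ℤ) - 1)]
  have n1 : ∀ {φ : IrrCharacter G} {ε : ℤ}, (m : ℤ) ∣ ε * dg φ - 1 → ¬ m ∣ dg φ := fun {_ ε} e f => by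
    have := (dvd_sub_right (a := (m : ℤ)) ((Int.natCast_dvd_natCast.2 f).mul_left ε)).1 e
    have := Int.le_of_dvd one_pos this
    omega
  have i1 := X.int (n1 X.cong.1) (by omega) (by omega) l3
  have i2 := X.symm.int (n1 X.cong.2) (by omega) (by omega) (by omega)
  have i3 := fun g hg => X.intθ hg (i1 g) (i2 g)
  have hs : ∀ g g' : G, ¬ TT m g → ¬ TT m g' → ∀ k : ℕ, (k : ℂ) = Nat.card G *
      (1 + (-1 : ℤ) * (χ.1 g * χ.1 g') / dg χ + (1 : ℤ) * (ψ.1 g * ψ.1 g') / dg ψ -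
        (1 : ℤ) * (θ.1 g * θ.1 g') / dg θ) → (k : ℤ) = sc q m χ ψ θ g g' := fun g g' a b k e => by
    have c1 : (q : ℂ) ≠ 0 := by exact_mod_cast (by omega : (q : ℤ) ≠ 0)
    have c2 : (q : ℂ) - 1 ≠ 0 := by exact_mod_cast (by omega : (q : ℤ) - 1 ≠ 0)
    have c3 : (q : ℂ) + 1 ≠ 0 := by exact_mod_cast (by omega : (q : ℤ) + 1 ≠ 0)
    have c4 : ((q - 1 : ℕ) : ℂ) = q - 1 := by exact_mod_cast cq
    rw [i1, i1, i2, i2, (i3 g a).1, (i3 g' b).1, h.card, show (dg χ : ℂ) = q * (q + 1) by exact_mod_cast d1,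
      show (dg ψ : ℂ) = q ^ 3 by exact_mod_cast d2,
      show (dg θ : ℂ) = (q - 1) ^ 2 * (q + 1) by exact_mod_cast d3] at e
    rw [← Int.cast_inj (α := ℂ), Int.cast_natCast, e, sc]
    push_cast [c4]
    field_simp
    ring
  refine ⟨h.dl_simple hp X (by omega) (by omega) (by omega), P, h.card, ⟨by exact_mod_cast d1,
    by exact_mod_cast d2, by zify [cq]; exact d3⟩, fun φ hφ g hg => ?_,
    fun g hg => by have := (i3 g hg).2; omega,
    fun g hg => by simpa using And.intro (X.vT g hg).1 (X.vT g hg).2.1, fun g => C.cop',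
    fun g => C.cp, fun g hg f => P.not_dvd_r ((f.trans (C.card_C1 hg)).mul_right _), C.np,
    fun g g' a b => ?_⟩
  · simp only [List.mem_cons, List.not_mem_nil, or_false] at hφ
    rcases hφ with rfl | rfl | rfl
    exacts [i1 g, i2 g, (i3 g hg).1]
  · obtain ⟨k, -, e⟩ := X.cmf g g' a b
    exact ⟨k, hs g g' a b _ e⟩

theorem Sp.dl_of (h : Sp G q r d m e) (hp : DlPP q m) (hd : DlDio q m) :
    IsSimpleGroup G ∧ (q ≠ 4 → ∃ a s h', DL G q r d m e a s h') := by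
  have C := h.cc'
  obtain ⟨χ, ψ, θ, ε₁, ε₂, δ, X⟩ := C.exists_XD
  have e0 := X.deg
  have hdv : ∀ (φ : IrrCharacter G) (ε c : ℤ), (ε = 1 ∨ ε = -1) → IsCoprime (m : ℤ) c →
      (m : ℤ) ∣ ε * dg φ - c → ε * dg φ ∣ ((q ^ 3 * ((q - 1) ^ 2 * (q + 1)) : ℕ) : ℤ) := by
    intro φ ε c hε h1 ⟨k, hk⟩
    have h2 : (dg φ : ℤ) ∣ m * ((q ^ 3 * ((q - 1) ^ 2 * (q + 1)) : ℕ) : ℤ) := by
      exact_mod_cast C.card ▸ irr_deg_dvd_card φ.2 (dg_cast φ)
    have h3 : IsCoprime (ε * dg φ) (m : ℤ) := by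
      rw [show ε * dg φ = c + m * k by omega]; exact (h1.add_mul_left_right k).symm
    refine h3.dvd_of_dvd_mul_left ?_
    rcases hε with rfl | rfl <;> simpa using h2
  have a := hdv χ _ 1 X.sgn.1 isCoprime_one_right X.cong.1
  have b := hdv ψ _ 1 X.sgn.2.1 isCoprime_one_right X.cong.2
  have c := hdv θ _ 3 X.sgn.2.2 (Nat.isCoprime_iff_coprime.2
    ((Nat.Prime.coprime_iff_not_dvd Nat.prime_three).2 h.par.not_three).symm) (by
      rw [← e0]; exact (dvd_add X.cong.1 X.cong.2).trans (Dvd.intro 1 (by ring)))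
  haveI := charKer_normal (Irr_class θ)
  have hk : charKer θ.1 = ⊥ := h.dl_bot hp _ fun y hy ty =>
    (X.vT y ty).2.2 ((mem_charKer_iff (irr_isChar θ.2)).1 hy)
  obtain ⟨t, ht⟩ := exists_prime_orderOf_dvd_card' (G := G) 2 (C.card ▸ C.even.mul_left m)
  have sq := X.square ht (fun e => e.not_coprime (ht ▸ Nat.coprime_two_left.2 h.par.m_odd))
    fun e => by
      have := mem_bot.1 (hk ▸ (mem_charKer_iff (irr_isChar θ.2)).2 e)
      rw [this, orderOf_one] at ht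
      omega
  rcases hd _ _ X.cong.1 X.cong.2 a b (e0 ▸ c) sq with ⟨e1, e2⟩ | ⟨e1, e2⟩ | ⟨rfl, e1⟩
  · exact (h.dl_main hp X e1 e2).imp_right fun D _ => ⟨_, _, _, D⟩
  · exact (h.dl_main hp X.symm e1 e2).imp_right fun D _ => ⟨_, _, _, D⟩
  · refine ⟨?_, fun f => absurd rfl f⟩
    simp only [List.mem_cons, Prod.mk.injEq, List.not_mem_nil, or_false] at e1
    refine h.dl_simple hp X ?_ ?_ ?_ <;> rcases X.sgn.1 with rfl | rfl <;>
      rcases X.sgn.2.1 with rfl | rfl <;> rcases X.sgn.2.2 with rfl | rfl <;> omega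

end CfsgW3
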